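import Groth.Agent.Lib.KSix19.FlatBC
import Groth.Agent.Lib.DCxRing.LBase

/-! # Pseudo-coherence of base changes of morphisms between flat schemes -/

set_option autoImplicit false
set_option maxHeartbeats 800000
set_option backward.isDefEq.respectTransparency false
set_option linter.style.haveILetI false
universe u

open CategoryTheory CategoryTheory.Limits AlgebraicGeometry HomologicalComplex Opposite TopologicalSpace
open scoped TensorProduct

attribute [local instance] HasDerivedCategory.standard
attribute [local instance] MvPolynomial.algebraMvPolynomial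

namespace GrothLib.KSix19

/-- Exactness after base change, for a complex flat over the base ring. -/
theorem exactAt_bc_of_flat_base {R R' P P' : Type u} [CommRing R] [CommRing R'] [CommRing P] [CommRing P']
    [Algebra R R'] [Algebra R P] [Algebra R P'] [Algebra R' P'] [Algebra P P'] [IsScalarTower R P P']
    [IsScalarTower R R' P'] [Algebra.IsPushout R R' P P'] {C : DRing.Cx P} {b : ℤ}
    (hb : DRing.VanishesAbove C b) (hC : ∀ i, C.ExactAt i)
    (hfl : DRing.TermwiseFlat ((DRing.restrictCx (algebraMap R P)).obj C)) (i : ℤ) :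
    ((GrothLib.DR.bc (algebraMap P P')).obj C).ExactAt i := by
  let Res := (DRing.restrictCx (algebraMap R P)).obj C
  have hRes : ∀ j, Res.ExactAt j := fun j => (hC j).map (ModuleCat.restrictScalars (algebraMap R P))
  have hT : DR.TExact Res R' i := DR.tExact_of_exact (n := i)
    (fun j hj => (ModuleCat.restrictScalars (algebraMap R P)).map_isZero (hb j hj)) hfl (fun j _ => hRes j) i le_rfl R'
  have key : DR.TExact C P' i := by
    letI : ∀ j, Module R (C.X j) := fun j => Module.compHom (C.X j) (algebraMap R P)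
    haveI : ∀ j, IsScalarTower R P (C.X j) := fun j => .of_algebraMap_smul fun _ _ => rfl
    let e : ∀ j, (Res.X j ⊗[R] R') ≃+ (C.X j ⊗[P] P') := fun j =>
      (TensorProduct.comm R (C.X j) R').toAddEquiv.trans
        ((Algebra.IsPushout.cancelBaseChange R R' P P' (C.X j)).symm.toAddEquiv.trans
          (TensorProduct.comm P P' (C.X j)).toAddEquiv)
    have he : ∀ j (x : C.X j) (s : R'), e j (x ⊗ₜ s) = x ⊗ₜ algebraMap R' P' s := by
      intro j x s
      change TensorProduct.comm P P' (C.X j) ((Algebra.IsPushout.cancelBaseChange R R' P P' (C.X j)).symm (s ⊗ₜ x)) = _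
      rw [Algebra.IsPushout.cancelBaseChange_symm_tmul]
      rfl
    have hcomm : ∀ j k (z : Res.X j ⊗[R] R'),
        ((C.d j k).hom.rTensor P') (e j z) = e k ((Res.d j k).hom.rTensor R' z) := by
      intro j k z
      induction z using TensorProduct.induction_on with
      | zero => rw [map_zero, map_zero, map_zero, map_zero]
      | tmul x s =>
        rw [he j x s, LinearMap.rTensor_tmul, LinearMap.rTensor_tmul]
        exact (he k ((C.d j k).hom x) s).symm
      | add z z' hz hz' => rw [map_add, map_add, map_add, map_add, hz, hz']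
    refine (Function.Exact.iff_of_ladder_addEquiv (e₁ := e (i - 1)) (e₂ := e i) (e₃ := e (i + 1))
      (f₁₂ := ((Res.d (i - 1) i).hom.rTensor R').toAddMonoidHom)
      (f₂₃ := ((Res.d i (i + 1)).hom.rTensor R').toAddMonoidHom)
      (g₁₂ := ((C.d (i - 1) i).hom.rTensor P').toAddMonoidHom)
      (g₂₃ := ((C.d i (i + 1)).hom.rTensor P').toAddMonoidHom) ?_ ?_).2 hT
    · exact AddMonoidHom.ext fun z => hcomm _ _ z
    · exact AddMonoidHom.ext fun z => hcomm _ _ z
  have h := (DR.exactAt_bc_iff (algebraMap P P') C i).2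
  refine h ?_
  convert key using 0
  congr!
  exact Algebra.algebra_ext _ _ fun _ => rfl

/-- Pseudo-coherent modules flat over the base, after any base change. -/
theorem pcModule_baseChange_flat_base {R R' P P' : Type u} [CommRing R] [CommRing R'] [CommRing P] [CommRing P']
    [Algebra R R'] [Algebra R P] [Algebra R P'] [Algebra R' P'] [Algebra P P'] [IsScalarTower R P P']
    [IsScalarTower R R' P'] [Algebra.IsPushout R R' P P'] [Module.Flat R P]
    (M : Type u) [AddCommGroup M] [Module R M] [Module P M] [IsScalarTower R P M] [Module.Flat R M]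
    (h : DRing.IsPseudoCoherentModule' P M) : DRing.IsPseudoCoherentModule' P' (P' ⊗[P] M) := by
  obtain ⟨E, b, hb, hf, ⟨e⟩⟩ := h
  let S₀ := (HomologicalComplex.single (ModuleCat.{u} P) (ComplexShape.up ℤ) 0).obj (ModuleCat.of P M)
  let e₀ : Dual.inD P M ≅ DRing.toD S₀ :=
    ((SingleFunctors.evaluation _ _ 0).mapIso
      (DerivedCategory.singleFunctorsPostcompQIso (ModuleCat.{u} P))).app (ModuleCat.of P M)
  haveI := DR.isKProjective E b hb fun i => by
    haveI := (hf i).2
    infer_instance
  obtain ⟨f, hf'⟩ := DR.exists_lift E (e ≪≫ e₀).hom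
  have hiso : IsIso (DerivedCategory.Q.map f) := by rw [hf']; infer_instance
  let a := algebraMap R P
  let Res := ModuleCat.restrictScalars.{u} a
  have hflat : ∀ i, Module.Flat R (Res.obj (E.X i)) := fun i => by
    haveI := (hf i).2
    letI : Module R (E.X i) := Module.compHom (E.X i) a
    haveI : IsScalarTower R P (E.X i) := .of_algebraMap_smul fun _ _ => rfl
    haveI : Module.Flat R (E.X i) := Module.Flat.trans R P (E.X i)
    exact ‹Module.Flat R (E.X i)›
  have hflat' : ∀ i, Module.Flat R (Res.obj (S₀.X i)) := fun i => by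
    by_cases hi : i = 0
    · subst hi
      let ℓ : M ≃ₗ[R] Res.obj (ModuleCat.of P M) :=
        { toFun := fun x => x
          map_add' := fun _ _ => rfl
          map_smul' := fun r (x : M) => (IsScalarTower.algebraMap_smul P r x).symm
          invFun := fun x => x
          left_inv := fun _ => rfl
          right_inv := fun _ => rfl }
      exact Module.Flat.of_linearEquiv
        ((Res.mapIso (singleObjXSelf (ComplexShape.up ℤ) 0 (ModuleCat.of P M))).toLinearEquiv.trans ℓ.symm)
    · haveI := ModuleCat.subsingleton_of_isZero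
        (Res.map_isZero (isZero_single_obj_X (ComplexShape.up ℤ) 0 (ModuleCat.of P M) i hi))
      infer_instance
  have hCb : DRing.VanishesAbove (CochainComplex.mappingCone f) (max b 0) := fun j hj =>
    DR.isZero_cone_X f (hb (j + 1) (by omega)) (isZero_single_obj_X _ _ _ _ (by omega))
  have hfl : DRing.TermwiseFlat ((DRing.restrictCx a).obj (CochainComplex.mappingCone f)) := fun j => by
    have := DR.flat_cone ((DRing.restrictCx a).map f) hflat hflat' j
    haveI : Module.Flat R ((CochainComplex.mappingCone ((DRing.restrictCx a).map f)).X j) := this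
    exact Module.Flat.of_linearEquiv (M := (CochainComplex.mappingCone ((DRing.restrictCx a).map f)).X j)
      (HomologicalComplex.Hom.isoApp (CochainComplex.mappingCone.mapHomologicalComplexIso f Res) j).toLinearEquiv
  haveI : QuasiIso f := (DerivedCategory.isIso_Q_map_iff_quasiIso _ f).1 hiso
  let F := ModuleCat.extendScalars.{u, u, u} (algebraMap P P')
  haveI : QuasiIso ((DR.bc (algebraMap P P')).map f) :=
    (DerCat.quasiIso_iff_acyclic_mappingCone _).2 fun i =>
      (exactAt_bc_of_flat_base (R := R) (R' := R') hCb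
        (fun k => DR.exactAt_cone_of_quasiIso f hiso k) hfl i).of_iso
        (CochainComplex.mappingCone.mapHomologicalComplexIso f F)
  obtain ⟨e₁⟩ := DR.nonempty_map_inD F M
  obtain ⟨e₂⟩ := DR.nonempty_extendScalars_iso (A := P) (B := P') M
  exact ⟨(DR.bc (algebraMap P P')).obj E, b, fun i hi => F.map_isZero (hb i hi),
    fun i => DerBC.finiteFree_extendScalars (algebraMap P P') (E.X i) (hf i).1 (hf i).2,
    ⟨@asIso _ _ _ _ (DerivedCategory.Q.map ((DR.bc (algebraMap P P')).map f))
      ((DerivedCategory.isIso_Q_map_iff_quasiIso _ _).2 inferInstance) ≪≫ e₁ ≪≫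
      (DerivedCategory.singleFunctor (ModuleCat.{u} P') 0).mapIso e₂.symm⟩⟩

/-- The abstract change of rings, flat over the base. -/
theorem pc'_of_isPushout {R R' P P' B B' : Type u} [CommRing R] [CommRing R'] [CommRing P] [CommRing P']
    [CommRing B] [CommRing B'] [Algebra R R'] [Algebra R P] [Algebra R P'] [Algebra R' P'] [Algebra P P']
    [IsScalarTower R P P'] [IsScalarTower R R' P'] [Algebra.IsPushout R R' P P'] [Module.Flat R P]
    [Algebra R B] [Algebra P B] [IsScalarTower R P B] [Module.Flat R B]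
    [Algebra P B'] [Algebra P' B'] [Algebra B B'] [IsScalarTower P P' B'] [IsScalarTower P B B']
    [Algebra.IsPushout P P' B B'] (h : ∀ r, RingPCm (algebraMap P B) r) (r : ℤ) : RingPCm (algebraMap P' B') r := by
  let E := Algebra.IsPushout.equiv P P' B B'
  let ℓ : B ≃ₗ[P] (ModuleCat.restrictScalars.{u} (algebraMap P B)).obj (ModuleCat.of B B) :=
    { toFun := fun x => x
      map_add' := fun _ _ => rfl
      map_smul' := fun a x => Algebra.smul_def a x
      invFun := fun x => x
      left_inv := fun _ => rfl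
      right_inv := fun _ => rfl }
  let ℓ' : B' ≃ₗ[P'] (ModuleCat.restrictScalars.{u} (algebraMap P' B')).obj (ModuleCat.of B' B') :=
    { toFun := fun x => x
      map_add' := fun _ _ => rfl
      map_smul' := fun a x => Algebra.smul_def a x
      invFun := fun x => x
      left_inv := fun _ => rfl
      right_inv := fun _ => rfl }
  have hB : DRing.IsPseudoCoherentModule' P B :=
    DR.isPseudoCoherent'_of_forall fun k => pcModule_congr ℓ.symm (h k)
  exact pcModule_congr (E.toLinearEquiv.trans ℓ')
    (DR.isPseudoCoherent_of_prime (pcModule_baseChange_flat_base (R := R) (R' := R') B hB) r)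

/-- Charts and base change, both sides flat over the base ring. -/
theorem exists_chart_bc_flat {R R' A A' B B' : Type u} [CommRing R] [CommRing R'] [CommRing A] [CommRing A']
    [CommRing B] [CommRing B'] (ρ : R →+* R') (α : R →+* A) (α' : R' →+* A') (a : A →+* A') (b : A →+* B)
    (g : B →+* B') (b' : A' →+* B')
    (H₀ : IsPushout (CommRingCat.ofHom ρ) (CommRingCat.ofHom α) (CommRingCat.ofHom α') (CommRingCat.ofHom a))
    (H : IsPushout (CommRingCat.ofHom b) (CommRingCat.ofHom a) (CommRingCat.ofHom g) (CommRingCat.ofHom b'))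
    (hα : α.Flat) (hb : (b.comp α).Flat) {n : ℕ} (φ : MvPolynomial (Fin n) A →+* B)
    (hφ : Function.Surjective φ) (hC : φ.comp MvPolynomial.C = b) (hpc : ∀ r, RingPCm φ r) :
    ∃ φ' : MvPolynomial (Fin n) A' →+* B', Function.Surjective φ' ∧ φ'.comp MvPolynomial.C = b' ∧
      ∀ r, RingPCm φ' r := by
  letI := a.toAlgebra
  letI := b.toAlgebra
  letI := g.toAlgebra
  letI := b'.toAlgebra
  letI : Algebra A B' := (g.comp b).toAlgebra
  letI := ρ.toAlgebra
  letI := α.toAlgebra
  letI := α'.toAlgebra
  letI : Algebra R A' := (a.comp α).toAlgebra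
  letI : Algebra R B := (b.comp α).toAlgebra
  have hsq₀ : α'.comp ρ = a.comp α := congrArg CommRingCat.Hom.hom H₀.w
  have hsq : g.comp b = b'.comp a := congrArg CommRingCat.Hom.hom H.w
  haveI : IsScalarTower R A A' := .of_algebraMap_eq' rfl
  haveI : IsScalarTower R R' A' := .of_algebraMap_eq' hsq₀.symm
  haveI : IsScalarTower R A B := .of_algebraMap_eq' rfl
  haveI : IsScalarTower A B B' := .of_algebraMap_eq' rfl
  haveI : IsScalarTower A A' B' := .of_algebraMap_eq' hsq
  haveI : Algebra.IsPushout A B A' B' := CommRingCat.isPushout_iff_isPushout.1 H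
  haveI : Algebra.IsPushout R R' A A' := CommRingCat.isPushout_iff_isPushout.1 H₀
  haveI : Module.Flat R A := hα
  haveI : Module.Flat R B := hb
  let φ' : MvPolynomial (Fin n) A' →+* B' := MvPolynomial.eval₂Hom b' fun j => g (φ (MvPolynomial.X j))
  have hC' : φ'.comp MvPolynomial.C = b' := RingHom.ext fun c => MvPolynomial.eval₂Hom_C b' _ c
  have hcomp : φ'.comp (MvPolynomial.map a) = g.comp φ := by
    refine MvPolynomial.ringHom_ext (fun c => ?_) fun j => ?_
    · simp only [RingHom.comp_apply, MvPolynomial.map_C, φ', MvPolynomial.eval₂Hom_C]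
      rw [show φ (MvPolynomial.C c) = b c from DFunLike.congr_fun hC c]
      exact (DFunLike.congr_fun hsq c).symm
    · simp [φ']
  letI : Algebra (MvPolynomial (Fin n) A) B := φ.toAlgebra
  letI : Algebra (MvPolynomial (Fin n) A') B' := φ'.toAlgebra
  letI : Algebra (MvPolynomial (Fin n) A) B' := (g.comp φ).toAlgebra
  haveI : IsScalarTower A (MvPolynomial (Fin n) A) B := .of_algebraMap_eq' hC.symm
  haveI : IsScalarTower (MvPolynomial (Fin n) A) B B' := .of_algebraMap_eq' rfl
  haveI : IsScalarTower A' (MvPolynomial (Fin n) A') B' := .of_algebraMap_eq' hC'.symm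
  haveI : IsScalarTower (MvPolynomial (Fin n) A) (MvPolynomial (Fin n) A') B' := .of_algebraMap_eq' hcomp.symm
  haveI : IsScalarTower A (MvPolynomial (Fin n) A') B' := .of_algebraMap_eq fun c => by
    change g (b c) = φ' (algebraMap A (MvPolynomial (Fin n) A') c)
    rw [IsScalarTower.algebraMap_apply A A' (MvPolynomial (Fin n) A'), MvPolynomial.algebraMap_eq]
    exact (DFunLike.congr_fun hsq c).trans (MvPolynomial.eval₂Hom_C b' _ (a c)).symm
  haveI : Algebra.IsPushout (MvPolynomial (Fin n) A) B (MvPolynomial (Fin n) A') B' :=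
    (Algebra.IsPushout.comp_iff A (MvPolynomial (Fin n) A) A' (MvPolynomial (Fin n) A')
      (T := B) (T' := B')).1 inferInstance
  haveI : Algebra.IsPushout (MvPolynomial (Fin n) A) (MvPolynomial (Fin n) A') B B' := .symm inferInstance
  haveI : IsScalarTower R A (MvPolynomial (Fin n) A) := inferInstance
  haveI : IsScalarTower R (MvPolynomial (Fin n) A) B := .of_algebraMap_eq fun c => by
    rw [IsScalarTower.algebraMap_apply R A (MvPolynomial (Fin n) A) c,
      ← IsScalarTower.algebraMap_apply A (MvPolynomial (Fin n) A) B, ← IsScalarTower.algebraMap_apply R A B]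
  haveI : IsScalarTower R A' (MvPolynomial (Fin n) A') := inferInstance
  haveI : IsScalarTower R R' (MvPolynomial (Fin n) A') := .of_algebraMap_eq fun c => by
    rw [IsScalarTower.algebraMap_apply R A' (MvPolynomial (Fin n) A') c,
      IsScalarTower.algebraMap_apply R R' A' c, ← IsScalarTower.algebraMap_apply R' A']
  haveI : IsScalarTower R (MvPolynomial (Fin n) A) (MvPolynomial (Fin n) A') := .of_algebraMap_eq fun c => by
    rw [IsScalarTower.algebraMap_apply R A (MvPolynomial (Fin n) A) c,
      ← IsScalarTower.algebraMap_apply A (MvPolynomial (Fin n) A) (MvPolynomial (Fin n) A'),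
      IsScalarTower.algebraMap_apply A A' (MvPolynomial (Fin n) A'),
      IsScalarTower.algebraMap_apply R A' (MvPolynomial (Fin n) A') c, IsScalarTower.algebraMap_apply R A A' c]
  haveI : Algebra.IsPushout R R' (MvPolynomial (Fin n) A) (MvPolynomial (Fin n) A') := by
    haveI : Algebra.IsPushout R A R' A' := .symm inferInstance
    haveI : Algebra.IsPushout R (MvPolynomial (Fin n) A) R' (MvPolynomial (Fin n) A') :=
      (Algebra.IsPushout.comp_iff R A R' A' (T := MvPolynomial (Fin n) A) (T' := MvPolynomial (Fin n) A')).2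
        inferInstance
    exact .symm inferInstance
  haveI : Module.Flat R (MvPolynomial (Fin n) A) := Module.Flat.trans R A _
  refine ⟨φ', (pc_of_isPushout (R := MvPolynomial (Fin n) A) (S := MvPolynomial (Fin n) A') (B := B)
    (B' := B')).1 hφ, hC', pc'_of_isPushout (R := R) (R' := R') (P := MvPolynomial (Fin n) A) (B := B) hpc⟩

variable {X Y S X' Y' S' : Scheme.{u}}

/-- **Base change of pseudo-coherence between schemes flat over the base.** -/
theorem isNPseudoCoherent_baseChange_flat_base {f : X ⟶ Y} {q : Y ⟶ S} {p : S' ⟶ S} {h : Y' ⟶ Y} {q' : Y' ⟶ S'}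
    {g : X' ⟶ X} {f' : X' ⟶ Y'} (HY : IsPullback h q' q p) (H : IsPullback g f' f h) [Flat q] [Flat (f ≫ q)]
    [LocallyOfFiniteType f] (hf : ∀ r, DerSch.IsNPseudoCoherent f r) (r : ℤ) :
    DerSch.IsNPseudoCoherent f' r := by
  haveI : LocallyOfFiniteType f' := MorphismProperty.of_isPullback H ‹LocallyOfFiniteType f›
  refine isNPseudoCoherent_of_ring fun x => ?_
  obtain ⟨W, hW, hxW, -⟩ := exists_isAffineOpen_mem_and_subset (x := q (f (g x))) (U := ⊤) trivial
  obtain ⟨V, hV, hxV, hVW⟩ := exists_isAffineOpen_mem_and_subset (x := f (g x)) (U := q ⁻¹ᵁ W) hxW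
  obtain ⟨U, hU, hxU, hUV⟩ := exists_isAffineOpen_mem_and_subset (x := g x) (U := f ⁻¹ᵁ V) hxV
  have hx : p (q' (f' x)) ∈ W := by
    rw [← Scheme.Hom.comp_apply, ← HY.w, Scheme.Hom.comp_apply, ← Scheme.Hom.comp_apply f' h, ← H.w,
      Scheme.Hom.comp_apply]
    exact hxW
  obtain ⟨W', hW', hxW', hW'W⟩ := exists_isAffineOpen_mem_and_subset (x := q' (f' x)) (U := p ⁻¹ᵁ W) hx
  let V' : Y'.Opens := h ⁻¹ᵁ V ⊓ q' ⁻¹ᵁ W'
  haveI : IsAffine W.toScheme := hW
  haveI : IsAffine W'.toScheme := hW'
  haveI : IsAffine V.toScheme := hV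
  haveI : IsAffine U.toScheme := hU
  have hV' : IsAffineOpen V' := .of_isIso (Scheme.Hom.isPullback_resLE HY hW'W hVW rfl).isoPullback.hom
  haveI : IsAffine V'.toScheme := hV'
  have hxV' : f' x ∈ V' := ⟨by
    change h (f' x) ∈ V
    rw [← Scheme.Hom.comp_apply, ← H.w, Scheme.Hom.comp_apply]
    exact hxV, hxW'⟩
  let U' : X'.Opens := g ⁻¹ᵁ U ⊓ f' ⁻¹ᵁ V'
  have hU' : IsAffineOpen U' :=
    .of_isIso (Scheme.Hom.isPullback_resLE H (show V' ≤ h ⁻¹ᵁ V from inf_le_left) hUV rfl).isoPullback.hom
  have hpo₀ := ((isIso_pushoutSection_iff HY hW'W hVW rfl).1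
    (isIso_pushoutSection_of_isAffineOpen HY hW'W hVW rfl hW hW' hV)).flip
  have hpo := (isIso_pushoutSection_iff H (show V' ≤ h ⁻¹ᵁ V from inf_le_left) hUV rfl).1
    (isIso_pushoutSection_of_isAffineOpen H inf_le_left hUV rfl hV hV' hU)
  obtain ⟨n, φ, hφ⟩ := exists_isChart f hU hV hUV
  have hflat : ((f.appLE V U hUV).hom.comp (q.appLE W V hVW).hom).Flat := by
    have := Flat.flat_appLE (f ≫ q) hW hU (fun z hz => hVW (hUV hz))
    rwa [← Scheme.Hom.appLE_comp_appLE f q W V U hVW hUV] at this
  obtain ⟨φ', hs, hC, hpc⟩ := exists_chart_bc_flat (p.appLE W W' hW'W).hom (q.appLE W V hVW).hom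
    (q'.appLE W' V' inf_le_right).hom (h.appLE V V' inf_le_left).hom (f.appLE V U hUV).hom
    (g.appLE U U' inf_le_left).hom (f'.appLE V' U' inf_le_right).hom hpo₀ hpo (Flat.flat_appLE q hW hV hVW) hflat
    φ hφ.1 hφ.2 fun k => ringPCm_chart (hf k) hU hV hφ
  exact ⟨U', V', inf_le_right, n, φ', ⟨hxU, hxV'⟩, hU', hV', ⟨hs, hC⟩, hpc r⟩

end GrothLib.KSix19
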