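import Groth.Agent.Lib.KSix19.StalkPullback
import Groth.Agent.Lib.KSix19.FlatBaseChange2
import Groth.Agent.Lib.OX.Lpull

/-! # Tor amplitude of external tensor products over a base -/

set_option autoImplicit false
set_option maxHeartbeats 800000
set_option backward.isDefEq.respectTransparency false
set_option linter.style.haveILetI false
universe u

open CategoryTheory CategoryTheory.Limits AlgebraicGeometry HomologicalComplex
open scoped TensorProduct

attribute [local instance] HasDerivedCategory.standard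

namespace GrothLib.KSix19

open GrothLib.OX

/-- Restricting scalars along a flat map keeps flat modules flat. -/
theorem flat_restrict_trans {R A : Type u} [CommRing R] [CommRing A] (φ : R →+* A) (hφ : φ.Flat)
    (M : ModuleCat.{u} A) (hM : Module.Flat A M) : Module.Flat R ((ModuleCat.restrictScalars.{u} φ).obj M) := by
  letI := φ.toAlgebra
  haveI : Module.Flat R A := hφ
  haveI := hM
  letI : Module R M := Module.compHom M φ
  haveI : IsScalarTower R A M := .of_algebraMap_smul fun _ _ => rfl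
  haveI : Module.Flat R M := Module.Flat.trans R A M
  exact ‹Module.Flat R M›

/-- Base change from a base ring preserves quasi-isomorphisms of complexes flat over it. -/
theorem isIso_bc_map_flat_base {R R' B T : Type u} [CommRing R] [CommRing R'] [CommRing B] [CommRing T]
    (r : R →+* B) (ρ : R →+* R') (j₁ : B →+* T) (j₂ : R' →+* T)
    (H : IsPushout (CommRingCat.ofHom r) (CommRingCat.ofHom ρ) (CommRingCat.ofHom j₁) (CommRingCat.ofHom j₂))
    {K L : DRing.Cx B} (f : K ⟶ L) {s t : ℤ} (hs : DRing.VanishesAbove K s) (ht : DRing.VanishesAbove L t)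
    (hK : DRing.TermwiseFlat ((DRing.restrictCx r).obj K)) (hL : DRing.TermwiseFlat ((DRing.restrictCx r).obj L))
    (hf : IsIso (DerivedCategory.Q.map f)) : IsIso (DerivedCategory.Q.map ((DR.bc j₁).map f)) := by
  letI := r.toAlgebra
  letI := ρ.toAlgebra
  letI := j₁.toAlgebra
  letI := j₂.toAlgebra
  letI : Algebra R T := (j₁.comp r).toAlgebra
  haveI : IsScalarTower R B T := .of_algebraMap_eq' rfl
  haveI : IsScalarTower R R' T := .of_algebraMap_eq' (congrArg CommRingCat.Hom.hom H.w)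
  haveI : Algebra.IsPushout R B R' T := CommRingCat.isPushout_iff_isPushout.1 H
  haveI : Algebra.IsPushout R R' B T := Algebra.IsPushout.symm inferInstance
  have hCb : DRing.VanishesAbove (CochainComplex.mappingCone f) (max s t) := fun j hj =>
    DR.isZero_cone_X f (hs (j + 1) (by omega)) (ht j (by omega))
  have hfl : DRing.TermwiseFlat ((DRing.restrictCx r).obj (CochainComplex.mappingCone f)) := fun j => by
    have := DR.flat_cone ((DRing.restrictCx r).map f) hK hL j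
    haveI : Module.Flat R ((CochainComplex.mappingCone ((DRing.restrictCx r).map f)).X j) := this
    exact Module.Flat.of_linearEquiv (M := (CochainComplex.mappingCone ((DRing.restrictCx r).map f)).X j)
      (HomologicalComplex.Hom.isoApp (CochainComplex.mappingCone.mapHomologicalComplexIso f
        (ModuleCat.restrictScalars.{u} r)) j).toLinearEquiv
  haveI : QuasiIso ((DR.bc j₁).map f) :=
    (DerCat.quasiIso_iff_acyclic_mappingCone _).2 fun i =>
      (exactAt_bc_of_flat_base (R := R) (R' := R') (P := B) (P' := T) hCb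
        (fun k => DR.exactAt_cone_of_quasiIso f hf k) hfl i).of_iso
        (CochainComplex.mappingCone.mapHomologicalComplexIso f (ModuleCat.extendScalars.{u, u, u} j₁))
  exact (DerivedCategory.isIso_Q_map_iff_quasiIso _ _).2 inferInstance

/-- **Tor amplitude of a base change from a base ring, for a complex flat over it.** -/
theorem amp_bc_flat_base {R R' B T : Type u} [CommRing R] [CommRing R'] [CommRing B] [CommRing T]
    (r : R →+* B) (ρ : R →+* R') (j₁ : B →+* T) (j₂ : R' →+* T)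
    (H : IsPushout (CommRingCat.ofHom r) (CommRingCat.ofHom ρ) (CommRingCat.ofHom j₁) (CommRingCat.ofHom j₂))
    (hr : r.Flat) {K : DRing.Cx B} {a b t : ℤ} (ht : DRing.VanishesAbove K t)
    (hK : DRing.TermwiseFlat ((DRing.restrictCx r).obj K))
    (h : DRing.HasTorAmplitudeIn B a b (DRing.toD K)) :
    DRing.HasTorAmplitudeIn T a b (DRing.toD ((DR.bc j₁).obj K)) := by
  obtain ⟨E, hv, hE, ⟨e⟩⟩ := h
  obtain ⟨Q, hQ, hQp, ⟨eQ⟩⟩ := DR.exists_projective_rep (DRing.toD K) t fun i hi =>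
    (DR.exactAt_iff K i).1 (ShortComplex.exact_of_isZero_X₂ _ (ht i hi))
  haveI := DR.isKProjective Q t hQ hQp
  obtain ⟨f, hf⟩ := DR.exists_lift Q eQ.hom
  obtain ⟨g, hg⟩ := DR.exists_lift Q (eQ ≪≫ e.symm).hom
  have hif : IsIso (DerivedCategory.Q.map f) := by rw [hf]; infer_instance
  have hig : IsIso (DerivedCategory.Q.map g) := by rw [hg]; infer_instance
  have hQr : DRing.TermwiseFlat ((DRing.restrictCx r).obj Q) := fun i =>
    flat_restrict_trans r hr (Q.X i) (DR.termwiseFlat_of_projective hQp i)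
  haveI := isIso_bc_map_flat_base r ρ j₁ j₂ H f hQ ht hQr hK hif
  haveI := isIso_bc_map_flat_base r ρ j₁ j₂ H g hQ (fun i hi => hv i (Or.inr hi)) hQr
    (fun i => flat_restrict_trans r hr (E.X i) (hE i)) hig
  exact ⟨(DR.bc j₁).obj E, DR.vanishesOutside_map _ hv, DR.termwiseFlat_bc j₁ hE,
    ⟨(asIso (DerivedCategory.Q.map ((DR.bc j₁).map g))).symm ≪≫ asIso (DerivedCategory.Q.map ((DR.bc j₁).map f))⟩⟩

variable {S S' X Y X' Y' : Scheme.{u}} {f : X ⟶ Y} {q : Y ⟶ S} {p : S' ⟶ S} {h : Y' ⟶ Y} {q' : Y' ⟶ S'}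
  {g : X' ⟶ X} {f' : X' ⟶ Y'}

/-- **Tor amplitude under base change of schemes flat over the base.** -/
theorem hasTorAmplitudeD_lpull_flat_base (HY : IsPullback h q' q p) (H : IsPullback g f' f h) [Flat q]
    [Flat (f ≫ q)] [DCoh.HasLpull g] {F : CochainComplex X.Modules ℤ} {a b : ℤ}
    (hF : DerSch.HasTorAmplitude f a b F) :
    DerSch.HasTorAmplitudeD f' a b ((DCoh.Lpull g).obj (DCoh.toD X F)) := by
  haveI := isLE_of_torAmplitude f hF
  obtain ⟨P, t, hP, hflat, ⟨eP⟩⟩ := exists_flat_rep F b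
  have hK : DCoh.IsKFlat P := OX.isKFlat_of_bounded_above P t hP hflat
  obtain ⟨v⟩ := OX.lpull_value g P hK
  let P' := ((Scheme.Modules.pullback g).mapHomologicalComplex (ComplexShape.up ℤ)).obj P
  intro W ⟨eW⟩
  refine hasTorAmplitude_of_iso f' (G := P') (v.symm ≪≫ (DCoh.Lpull g).mapIso eP ≪≫ eW.symm) fun z => ?_
  obtain ⟨T, i₁, i₂, τ, hpo, hi₁, hi₂, hτ⟩ := exists_stalk_tensor H z
  obtain ⟨T₀, j₁, j₂, τ₀, hpo₀, hj₁, -, hτ₀⟩ := exists_stalk_tensor HY (f' z)
  let c := Y.presheaf.stalkCongr (Inseparable.of_eq (map_point H z).symm)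
  let r := q.stalkMap (h (f' z)) ≫ c.inv
  have hpo₁ : IsPushout r (baseStalkMap HY (f' z)) (c.hom ≫ j₁) j₂ :=
    hpo₀.of_iso (Iso.refl _) c.symm (Iso.refl _) (Iso.refl _) (by simp [r]) (by simp) (by simp) (by simp)
  have hσ : baseStalkMap H z = (c.hom ≫ j₁) ≫ τ₀ := by
    rw [Category.assoc, hj₁]; rfl
  have hr : r.hom.Flat := RingHom.Flat.comp (Flat.stalkMap q _)
    (RingHom.Flat.of_bijective (ConcreteCategory.bijective_of_isIso c.inv))
  have hrA : (r ≫ f.stalkMap (g z)).hom.Flat := by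
    have : ∀ (y : Y) (e : f (g z) = y),
        (q.stalkMap y ≫ (Y.presheaf.stalkCongr (Inseparable.of_eq e)).inv ≫ f.stalkMap (g z)).hom.Flat := by
      intro y e
      subst e
      rw [show (Y.presheaf.stalkCongr (Inseparable.of_eq rfl)).inv = 𝟙 _ by
        simp [TopCat.Presheaf.stalkCongr], Category.id_comp, ← Scheme.Hom.stalkMap_comp]
      exact Flat.stalkMap (f ≫ q) (g z)
    rw [Category.assoc]
    exact this _ (map_point H z).symm
  have hKx : KF.IsKFlat ((stalkCx (g z)).obj P) :=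
    KF.isKFlat_of_vanishesAbove (fun k hk => (stalk (g z)).map_isZero (hP k hk))
      (fun k => (GrothLib.OX.flat_iff _).1 (hflat k) (g z))
  obtain ⟨a₁⟩ := nonempty_stalkCxOver f (g z) P
  let K := (DRing.restrictCx (f.stalkMap (g z)).hom).obj ((stalkCx (g z)).obj P)
  have hKfl : DRing.TermwiseFlat ((DRing.restrictCx r.hom).obj K) := fun k => by
    haveI := flat_restrict_trans (r ≫ f.stalkMap (g z)).hom hrA _ ((GrothLib.OX.flat_iff _).1 (hflat k) (g z))
    exact Module.Flat.of_linearEquiv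
      (((ModuleCat.restrictScalarsComp'.{u} r.hom (f.stalkMap (g z)).hom _ rfl).app
        ((stalk (g z)).obj (P.X k))).symm).toLinearEquiv
  have hKb : DRing.VanishesAbove K t := fun k hk =>
    (ModuleCat.restrictScalars.{u} _).map_isZero ((stalk (g z)).map_isZero (hP k hk))
  have hamp₀ := amp_bc_flat τ₀.hom hτ₀ (amp_bc_flat_base r.hom (baseStalkMap HY (f' z)).hom (c.hom ≫ j₁).hom j₂.hom
    hpo₁ hr hKb hKfl (amp_of_iso (a₁ ≪≫ DR.restrictToDIso (f.stalkMap (g z)).hom _)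
      ((hasTorAmplitude_of_iso f eP.symm hF) (g z))))
  have hamp : DRing.HasTorAmplitudeIn (Y'.presheaf.stalk (f' z)) a b
      (DRing.toD ((DR.bc (baseStalkMap H z).hom).obj K)) :=
    amp_of_iso (DerivedCategory.Q.mapIso ((DR.bcCompIso (c.hom ≫ j₁).hom τ₀.hom K).symm ≪≫
      eqToIso (congrArg (fun φ => (DR.bc φ).obj K) (congrArg CommRingCat.Hom.hom hσ).symm))) hamp₀
  have h' := amp_bc_square (f.stalkMap (g z)).hom (baseStalkMap H z).hom i₁.hom i₂.hom hpo τ.hom hτ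
    (φ := (f'.stalkMap z).hom) (by rw [← hi₂, CommRingCat.hom_comp]) hKx hamp
  obtain ⟨a₃⟩ := nonempty_stalkCxOver f' z P'
  let s : (stalkCx z).obj P' ≅ (DR.bc (τ.hom.comp i₁.hom)).obj ((stalkCx (g z)).obj P) :=
    (NatIso.mapHomologicalComplex (pullStalkIso g z) (ComplexShape.up ℤ)).app P ≪≫
      eqToIso (show (DR.bc (g.stalkMap z).hom).obj ((stalkCx (g z)).obj P) = _ by rw [← CommRingCat.hom_comp, hi₁])
  exact amp_of_iso ((DR.restrictToDIso _ _).symm ≪≫
    (DRing.restrictD (f'.stalkMap z).hom).mapIso (DerivedCategory.Q.mapIso s.symm) ≪≫ a₃.symm) h'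

/-- Restriction along a flat map preserves tor amplitude. -/
theorem amp_restrict_flat {R B : Type u} [CommRing R] [CommRing B] (r : R →+* B) (hr : r.Flat) {K : DRing.Cx B}
    {a b : ℤ} (h : DRing.HasTorAmplitudeIn B a b (DRing.toD K)) : AmpOver r a b K := by
  obtain ⟨E, hv, hE, ⟨e⟩⟩ := h
  exact ⟨(DRing.restrictCx r).obj E, fun i hi => (ModuleCat.restrictScalars.{u} r).map_isZero (hv i hi),
    fun i => flat_restrict_trans r hr (E.X i) (hE i),
    ⟨(DR.restrictToDIso r E).symm ≪≫ (DRing.restrictD r).mapIso e ≪≫ DR.restrictToDIso r K⟩⟩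

/-- Base change of a bounded above flat complex preserves tor amplitude. -/
theorem amp_bc_of_flat {R R' : Type u} [CommRing R] [CommRing R'] (ρ : R →+* R') {K : DRing.Cx R} {a b t : ℤ}
    (ht : DRing.VanishesAbove K t) (hK : DRing.TermwiseFlat K)
    (h : DRing.HasTorAmplitudeIn R a b (DRing.toD K)) :
    DRing.HasTorAmplitudeIn R' a b (DRing.toD ((DR.bc ρ).obj K)) := by
  obtain ⟨E, hv, hE, ⟨e⟩⟩ := h
  obtain ⟨Q, hQ, hQp, ⟨eQ⟩⟩ := DR.exists_projective_rep (DRing.toD K) t fun i hi =>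
    (DR.exactAt_iff K i).1 (ShortComplex.exact_of_isZero_X₂ _ (ht i hi))
  haveI := DR.isKProjective Q t hQ hQp
  obtain ⟨f, hf⟩ := DR.exists_lift Q eQ.hom
  obtain ⟨g, hg⟩ := DR.exists_lift Q (eQ ≪≫ e.symm).hom
  have hif : IsIso (DerivedCategory.Q.map f) := by rw [hf]; infer_instance
  have hig : IsIso (DerivedCategory.Q.map g) := by rw [hg]; infer_instance
  haveI := DR.isIso_bc_map ρ f hQ (DR.termwiseFlat_of_projective hQp) ht hK hif
  haveI := DR.isIso_bc_map ρ g hQ (DR.termwiseFlat_of_projective hQp) (fun i hi => hv i (Or.inr hi)) hE hig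
  exact ⟨(DR.bc ρ).obj E, DR.vanishesOutside_map _ hv, DR.termwiseFlat_bc ρ hE,
    ⟨(asIso (DerivedCategory.Q.map ((DR.bc ρ).map g))).symm ≪≫ asIso (DerivedCategory.Q.map ((DR.bc ρ).map f))⟩⟩

/-- Composing with a flat morphism preserves relative tor amplitude. -/
theorem hasTorAmplitude_comp_flat (f : X ⟶ Y) (q : Y ⟶ S) [Flat q] {F : CochainComplex X.Modules ℤ} {a b : ℤ}
    (h : DerSch.HasTorAmplitude f a b F) : DerSch.HasTorAmplitude (f ≫ q) a b F := fun x => by
  obtain ⟨a₁⟩ := nonempty_stalkCxOver f x F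
  obtain ⟨a₂⟩ := nonempty_stalkCxOver (f ≫ q) x F
  have h₁ := amp_restrict_flat (q.stalkMap (f x)).hom (Flat.stalkMap q _)
    (amp_of_iso (a₁ ≪≫ DR.restrictToDIso (f.stalkMap x).hom _) (h x))
  have hc : ((f ≫ q).stalkMap x).hom = (f.stalkMap x).hom.comp (q.stalkMap (f x)).hom := by
    rw [Scheme.Hom.stalkMap_comp]; rfl
  refine amp_of_iso ((DR.restrictToDIso _ _).symm ≪≫ a₂.symm)
    (?_ : AmpOver ((f ≫ q).stalkMap x).hom a b ((stalkCx x).obj F))
  rw [hc]
  exact (amp_congr _ _ _ _ _).2 h₁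

/-- **Bounds for an external tensor product over a base with flat first factor.** -/
theorem isZero_HD_externalTensor {X₁ X₂ : Scheme.{u}} {g₁ : X₁ ⟶ S} {g₂ : X₂ ⟶ S} {p₁ : X ⟶ X₁} {p₂ : X ⟶ X₂}
    (H : IsPullback p₁ p₂ g₁ g₂) [Flat g₁] {E₁ : CochainComplex X₁.Modules ℤ} {a b : ℤ}
    (h₁ : DerSch.HasTorAmplitude g₁ a b E₁) (E₂ : CochainComplex X₂.Modules ℤ) {c d : ℤ}
    [(DCoh.toD X₂ E₂).IsGE c] [(DCoh.toD X₂ E₂).IsLE d] [DCoh.HasLpull p₁] [DCoh.HasLpull p₂]
    (K₂ : CochainComplex X.Modules ℤ) [DCoh.HasLTensorCx K₂]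
    (eK : DCoh.toD X K₂ ≅ (DCoh.Lpull p₂).obj (DCoh.toD X₂ E₂)) {i : ℤ} (hi : i < a + c ∨ b + d < i) :
    IsZero (DCoh.HD ((DCoh.LTensorCx K₂).obj ((DCoh.Lpull p₁).obj (DCoh.toD X₁ E₁))) i) := by
  haveI := isLE_of_torAmplitude g₁ h₁
  obtain ⟨P₁, t₁, hP₁, hfl₁, ⟨e₁⟩⟩ := exists_flat_rep E₁ b
  obtain ⟨P₂, t₂, hP₂, hfl₂, ⟨e₂⟩⟩ := exists_flat_rep E₂ d
  have hk₁ : DCoh.IsKFlat P₁ := OX.isKFlat_of_bounded_above P₁ t₁ hP₁ hfl₁
  have hk₂ : DCoh.IsKFlat P₂ := OX.isKFlat_of_bounded_above P₂ t₂ hP₂ hfl₂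
  let F := ((Scheme.Modules.pullback p₁).mapHomologicalComplex (ComplexShape.up ℤ)).obj P₁
  let G := ((Scheme.Modules.pullback p₂).mapHomologicalComplex (ComplexShape.up ℤ)).obj P₂
  have hkF : DCoh.IsKFlat F := OX.isKFlat_pullback p₁ hk₁
  obtain ⟨vF⟩ := OX.lpull_value p₁ P₁ hk₁
  obtain ⟨vG⟩ := OX.lpull_value p₂ P₂ hk₂
  haveI := OX.hasLTensorCx F
  obtain ⟨w₁⟩ := OX.ltensorCx_value K₂ F hkF
  obtain ⟨w₂⟩ := OX.ltensorCx_value_of_isKFlat F hkF K₂
  obtain ⟨w₃⟩ := OX.ltensorCx_value_of_isKFlat F hkF G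
  let T := ((DCoh.tensorCx (X := X)).obj G).obj F
  let u : DerivedCategory.Q.obj T ≅ (DCoh.LTensorCx K₂).obj ((DCoh.Lpull p₁).obj (DCoh.toD X₁ E₁)) :=
    w₃.symm ≪≫ (DCoh.LTensorCx F).mapIso (vG.symm ≪≫ (DCoh.Lpull p₂).mapIso e₂ ≪≫ eK.symm) ≪≫ w₂ ≪≫
      DerivedCategory.Q.mapIso (OX.tensorCxSymm F K₂) ≪≫ w₁.symm ≪≫
      (DCoh.LTensorCx K₂).mapIso (vF.symm ≪≫ (DCoh.Lpull p₁).mapIso e₁)
  have hs : ∀ z : X, IsZero ((stalk z).obj (T.homology i)) := fun z => by
    obtain ⟨R, i₁, i₂, τ, hpo, hi₁, hi₂, hτ⟩ := exists_stalk_tensor H z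
    obtain ⟨a₁⟩ := nonempty_stalkCxOver g₁ (p₁ z) P₁
    have hk : ∀ {Z : Scheme.{u}} {P : CochainComplex Z.Modules ℤ} {t : ℤ} (y : Z),
        (∀ k, t < k → IsZero (P.X k)) → (∀ k, Module.Flat (Z.presheaf.stalk y) ((stalk y).obj (P.X k))) →
        KF.IsKFlat ((stalkCx y).obj P) := fun y hb hf =>
      KF.isKFlat_of_vanishesAbove (fun k hk => (stalk y).map_isZero (hb k hk)) hf
    have hf₁ : ∀ k, Module.Flat (X₁.presheaf.stalk (p₁ z)) ((stalk (p₁ z)).obj (P₁.X k)) := fun k =>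
      (GrothLib.OX.flat_iff _).1 (hfl₁ k) (p₁ z)
    have hamp := amp_bc_of_flat (baseStalkMap H z).hom
      (K := (DRing.restrictCx (g₁.stalkMap (p₁ z)).hom).obj ((stalkCx (p₁ z)).obj P₁))
      (fun k hk => (ModuleCat.restrictScalars.{u} _).map_isZero ((stalk (p₁ z)).map_isZero (hP₁ k hk)))
      (fun k => flat_restrict_trans _ (Flat.stalkMap g₁ _) _ (hf₁ k))
      (amp_of_iso (a₁ ≪≫ DR.restrictToDIso (g₁.stalkMap (p₁ z)).hom _)
        ((hasTorAmplitude_of_iso g₁ e₁.symm h₁) (p₁ z)))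
    have hsq := amp_bc_square (g₁.stalkMap (p₁ z)).hom (baseStalkMap H z).hom i₁.hom i₂.hom hpo τ.hom hτ
      (φ := (p₂.stalkMap z).hom) (by rw [← hi₂, CommRingCat.hom_comp]) (hk (p₁ z) hP₁ hf₁) hamp
    have hex : ∀ j, j < c ∨ d < j → ((stalkCx (p₂ z)).obj P₂).ExactAt j := fun j hj => by
      have h0 : IsZero (P₂.homology j) := by
        refine IsZero.of_iso ?_ (((DerivedCategory.homologyFunctorFactors _ j).app _).symm ≪≫
          (DerivedCategory.homologyFunctor _ j).mapIso e₂)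
        rcases hj with hj | hj
        · exact (DerivedCategory.isGE_iff (DCoh.toD X₂ E₂) c).1 inferInstance j hj
        · exact (DerivedCategory.isLE_iff (DCoh.toD X₂ E₂) d).1 inferInstance j hj
      rw [exactAt_iff_isZero_homology]
      exact ((stalk (p₂ z)).map_isZero h0).of_iso ((P₂.sc j).mapHomologyIso (stalk (p₂ z)))
    have h := exactAt_tensor_bc (p₂.stalkMap z).hom (K := (DR.bc (τ.hom.comp i₁.hom)).obj ((stalkCx (p₁ z)).obj P₁))
      hsq (hk (p₂ z) hP₂ fun k => (GrothLib.OX.flat_iff _).1 (hfl₂ k) (p₂ z)) hex hi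
    let s : (stalkCx z).obj T ≅ ((KF.tensorCx (R := X.presheaf.stalk z)).obj
        ((DR.bc (τ.hom.comp i₁.hom)).obj ((stalkCx (p₁ z)).obj P₁))).obj
          ((DR.bc (p₂.stalkMap z).hom).obj ((stalkCx (p₂ z)).obj P₂)) :=
      stalkTensorCxIso z G F ≪≫ KF.tensorCxSymm _ _ ≪≫
        ((KF.tensorCx (R := X.presheaf.stalk z)).mapIso
          ((NatIso.mapHomologicalComplex (pullStalkIso p₁ z) (ComplexShape.up ℤ)).app P₁ ≪≫
            eqToIso (show (DR.bc (p₁.stalkMap z).hom).obj ((stalkCx (p₁ z)).obj P₁) = _ by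
              rw [← CommRingCat.hom_comp, hi₁]))).app _ ≪≫
        ((KF.tensorCx (R := X.presheaf.stalk z)).obj _).mapIso
          ((NatIso.mapHomologicalComplex (pullStalkIso p₂ z) (ComplexShape.up ℤ)).app P₂)
    exact ((exactAt_iff_isZero_homology _ _).1 ((KF.exactAt_iff_of_iso s i).2 h)).of_iso
      ((T.sc i).mapHomologyIso (stalk z)).symm
  have : IsIso (0 : T.homology i ⟶ T.homology i) :=
    (GrothLib.OX.isIso_iff _).2 fun y => ⟨0, (hs y).eq_of_src _ _, (hs y).eq_of_src _ _⟩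
  exact ((IsZero.iff_id_eq_zero _).2 ((cancel_epi (0 : T.homology i ⟶ _)).1 (by simp))).of_iso
    (((DerivedCategory.homologyFunctor _ i).mapIso u).symm ≪≫ (DerivedCategory.homologyFunctorFactors _ i).app T)

end GrothLib.KSix19
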