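import Groth.Agent.Lib.KSix19.RelTensor
import Groth.Agent.Lib.KSix19.ExtTensor
import Groth.Agent.Lib.OX.QCohPull
import Groth.Agent.Lib.OX.QCohTensor

/-! # Relative pseudo-coherence of external tensor products -/

set_option autoImplicit false
set_option maxHeartbeats 1000000
set_option backward.isDefEq.respectTransparency false
set_option linter.style.haveILetI false
universe u

open CategoryTheory CategoryTheory.Limits AlgebraicGeometry HomologicalComplex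
open scoped TensorProduct

attribute [local instance] HasDerivedCategory.standard

namespace GrothLib.KSix19

open GrothLib.OX

/-- Exactness after base change, for a complex flat over the base ring. -/
theorem exactAt_bc_of_flat_base_from {R R' P P' : Type u} [CommRing R] [CommRing R'] [CommRing P] [CommRing P']
    [Algebra R R'] [Algebra R P] [Algebra R P'] [Algebra R' P'] [Algebra P P'] [IsScalarTower R P P']
    [IsScalarTower R R' P'] [Algebra.IsPushout R R' P P'] {C : DRing.Cx P} {b : ℤ}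
    (hb : DRing.VanishesAbove C b) {i : ℤ} (hC : ∀ j, i ≤ j → C.ExactAt j)
    (hfl : DRing.TermwiseFlat ((DRing.restrictCx (algebraMap R P)).obj C)) :
    ((GrothLib.DR.bc (algebraMap P P')).obj C).ExactAt i := by
  let Res := (DRing.restrictCx (algebraMap R P)).obj C
  have hRes : ∀ j, i ≤ j → Res.ExactAt j := fun j hj => (hC j hj).map (ModuleCat.restrictScalars (algebraMap R P))
  have hT : DR.TExact Res R' i := DR.tExact_of_exact (n := i)
    (fun j hj => (ModuleCat.restrictScalars (algebraMap R P)).map_isZero (hb j hj)) hfl (fun j hj => hRes j hj) i le_rfl R'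
  have key : DR.TExact C P' i := by
    letI : ∀ j, Module R (C.X j) := fun j => Module.compHom (C.X j) (algebraMap R P)
    haveI : ∀ j, IsScalarTower R P (C.X j) := fun j => .of_algebraMap_smul fun _ _ => rfl
    let e : ∀ j, (Res.X j ⊗[R] R') ≃+ (C.X j ⊗[P] P') := fun j =>
      (TensorProduct.comm R (C.X j) R').toAddEquiv.trans
        ((Algebra.IsPushout.cancelBaseChange R R' P P' (C.X j)).symm.toAddEquiv.trans
          (TensorProduct.comm P P' (C.X j)).toAddEquiv)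
    have he : ∀ j (x : C.X j) (s : R'), e j (x ⊗ₜ s) = x ⊗ₜ algebraMap R' P' s := by
      intro j x s
      change TensorProduct.comm P P' (C.X j) ((Algebra.IsPushout.cancelBaseChange R R' P P' (C.X j)).symm (s ⊗ₜ x)) = _
      rw [Algebra.IsPushout.cancelBaseChange_symm_tmul]
      rfl
    have hcomm : ∀ j k (z : Res.X j ⊗[R] R'),
        ((C.d j k).hom.rTensor P') (e j z) = e k ((Res.d j k).hom.rTensor R' z) := by
      intro j k z
      induction z using TensorProduct.induction_on with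
      | zero => rw [map_zero, map_zero, map_zero, map_zero]
      | tmul x s =>
        rw [he j x s, LinearMap.rTensor_tmul, LinearMap.rTensor_tmul]
        exact (he k ((C.d j k).hom x) s).symm
      | add z z' hz hz' => rw [map_add, map_add, map_add, map_add, hz, hz']
    refine (Function.Exact.iff_of_ladder_addEquiv (e₁ := e (i - 1)) (e₂ := e i) (e₃ := e (i + 1))
      (f₁₂ := ((Res.d (i - 1) i).hom.rTensor R').toAddMonoidHom)
      (f₂₃ := ((Res.d i (i + 1)).hom.rTensor R').toAddMonoidHom)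
      (g₁₂ := ((C.d (i - 1) i).hom.rTensor P').toAddMonoidHom)
      (g₂₃ := ((C.d i (i + 1)).hom.rTensor P').toAddMonoidHom) ?_ ?_).2 hT
    · exact AddMonoidHom.ext fun z => hcomm _ _ z
    · exact AddMonoidHom.ext fun z => hcomm _ _ z
  have h := (DR.exactAt_bc_iff (algebraMap P P') C i).2
  refine h ?_
  convert key using 0
  congr!
  exact Algebra.algebra_ext _ _ fun _ => rfl

/-- Pseudo-coherence after base change from a base ring, for a complex flat over it. -/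
theorem pc_bc_flat_base {R R' P P' : Type u} [CommRing R] [CommRing R'] [CommRing P] [CommRing P']
    (r : R →+* P) (ρ : R →+* R') (σ : P →+* P') (j₂ : R' →+* P')
    (H : IsPushout (CommRingCat.ofHom r) (CommRingCat.ofHom ρ) (CommRingCat.ofHom σ) (CommRingCat.ofHom j₂))
    (hr : r.Flat) {K : DRing.Cx P} {t m : ℤ} (ht : DRing.VanishesAbove K t)
    (hK : DRing.TermwiseFlat ((DRing.restrictCx r).obj K)) (h : DRing.IsPseudoCoherent P m (DRing.toD K)) :
    DRing.IsPseudoCoherent P' m (DRing.toD ((DR.bc σ).obj K)) := by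
  obtain ⟨E, a, b, f, hv, hf, hex⟩ := DR.exists_cone_of_isPseudoCoherent h
  letI := r.toAlgebra
  letI := ρ.toAlgebra
  letI := σ.toAlgebra
  letI := j₂.toAlgebra
  letI : Algebra R P' := (σ.comp r).toAlgebra
  haveI : IsScalarTower R P P' := .of_algebraMap_eq' rfl
  haveI : IsScalarTower R R' P' := .of_algebraMap_eq' (congrArg CommRingCat.Hom.hom H.w)
  haveI : Algebra.IsPushout R P R' P' := CommRingCat.isPushout_iff_isPushout.1 H
  haveI : Algebra.IsPushout R R' P P' := Algebra.IsPushout.symm inferInstance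
  have hCb : DRing.VanishesAbove (CochainComplex.mappingCone f) (max b t) := fun j hj =>
    DR.isZero_cone_X f (hv (j + 1) (Or.inr (by omega))) (ht j (by omega))
  have hEr : DRing.TermwiseFlat ((DRing.restrictCx r).obj E) := fun i => flat_restrict_trans r hr (E.X i) (by
    haveI := (hf i).2
    infer_instance)
  have hfl : DRing.TermwiseFlat ((DRing.restrictCx r).obj (CochainComplex.mappingCone f)) := fun j => by
    have := DR.flat_cone ((DRing.restrictCx r).map f) hEr hK j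
    haveI : Module.Flat R ((CochainComplex.mappingCone ((DRing.restrictCx r).map f)).X j) := this
    exact Module.Flat.of_linearEquiv (M := (CochainComplex.mappingCone ((DRing.restrictCx r).map f)).X j)
      (HomologicalComplex.Hom.isoApp (CochainComplex.mappingCone.mapHomologicalComplexIso f
        (ModuleCat.restrictScalars.{u} r)) j).toLinearEquiv
  refine DR.isPseudoCoherent_of_cone ((DR.bc σ).map f) (DR.vanishesOutside_map _ hv)
    (fun i => DerBC.finiteFree_extendScalars σ (E.X i) (hf i).1 (hf i).2) fun i hi => ?_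
  exact (exactAt_bc_of_flat_base_from (R := R) (R' := R') (P := P) (P' := P') hCb
    (fun j hj => hex j (hi.trans hj)) hfl).of_iso
      (CochainComplex.mappingCone.mapHomologicalComplexIso f (ModuleCat.extendScalars.{u, u, u} σ))

variable {S S' X Y X' Y' : Scheme.{u}}

/-- Derived pullback preserves quasi-coherent cohomology and upper bounds. -/
theorem qcoh_isLE_lpull (g : X' ⟶ X) [DCoh.HasLpull g] {K : DCoh.D X} (hq : DCoh.IsQCohD K) (b : ℤ) [K.IsLE b] :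
    DCoh.IsQCohD ((DCoh.Lpull g).obj K) ∧ ((DCoh.Lpull g).obj K).IsLE b := by
  obtain ⟨P, hP, ⟨e⟩⟩ := exists_kflat_rep K
  obtain ⟨v⟩ := lpull_value g P hP
  let u : DerivedCategory.Q.obj ((pullCxF g).obj P) ≅ (DCoh.Lpull g).obj K := v.symm ≪≫ (DCoh.Lpull g).mapIso e
  let c : ∀ i, P.homology i ≅ DCoh.HD K i := fun i =>
    ((DerivedCategory.homologyFunctorFactors _ i).app P).symm ≪≫ (DerivedCategory.homologyFunctor _ i).mapIso e
  refine ⟨fun i => isQCoh_of_iso (((DerivedCategory.homologyFunctorFactors _ i).app _).symm ≪≫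
      (DerivedCategory.homologyFunctor _ i).mapIso u)
        (isQCoh_homology_pullCx g hP (fun j => isQCoh_of_iso (c j).symm (hq j)) i),
    (DerivedCategory.isLE_iff _ _).2 fun i hi => IsZero.of_iso (isZero_homology_pullback g hP
      (fun j hj => ((DerivedCategory.isLE_iff K b).1 inferInstance j hj).of_iso (c j)) i hi)
      (((DerivedCategory.homologyFunctor _ i).mapIso u).symm ≪≫
        (DerivedCategory.homologyFunctorFactors _ i).app _)⟩

variable {f : X ⟶ Y} {q : Y ⟶ S} {p : S' ⟶ S} {h : Y' ⟶ Y} {q' : Y' ⟶ S'} {g : X' ⟶ X} {f' : X' ⟶ Y'}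

/-- **Base change of relative pseudo-coherence between schemes flat over the base.** -/
theorem isPseudoCoherentRel_lpull_flat_base (HY : IsPullback h q' q p) (H : IsPullback g f' f h) [Flat q]
    [Flat (f ≫ q)] [LocallyOfFiniteType f] [DCoh.HasLpull g] {K : DCoh.D X} (hq : DCoh.IsQCohD K) {b : ℤ}
    [K.IsLE b] {m : ℤ} (hK : DerSch.IsPseudoCoherentRel f m K) :
    DerSch.IsPseudoCoherentRel f' m ((DCoh.Lpull g).obj K) := by
  haveI : LocallyOfFiniteType f' := MorphismProperty.of_isPullback H ‹LocallyOfFiniteType f›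
  refine isPseudoCoherentRel_of_local fun x => ?_
  obtain ⟨W, hW, hxW, -⟩ := exists_isAffineOpen_mem_and_subset (x := q (f (g x))) (U := ⊤) trivial
  obtain ⟨V, hV, hxV, hVW⟩ := exists_isAffineOpen_mem_and_subset (x := f (g x)) (U := q ⁻¹ᵁ W) hxW
  obtain ⟨U, hU, hxU, hUV⟩ := exists_isAffineOpen_mem_and_subset (x := g x) (U := f ⁻¹ᵁ V) hxV
  have hx : p (q' (f' x)) ∈ W := by
    rw [← Scheme.Hom.comp_apply, ← HY.w, Scheme.Hom.comp_apply, ← Scheme.Hom.comp_apply f' h, ← H.w,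
      Scheme.Hom.comp_apply]
    exact hxW
  obtain ⟨W', hW', hxW', hW'W⟩ := exists_isAffineOpen_mem_and_subset (x := q' (f' x)) (U := p ⁻¹ᵁ W) hx
  let V' : Y'.Opens := h ⁻¹ᵁ V ⊓ q' ⁻¹ᵁ W'
  haveI : IsAffine W.toScheme := hW
  haveI : IsAffine W'.toScheme := hW'
  haveI : IsAffine V.toScheme := hV
  have hV' : IsAffineOpen V' := .of_isIso (Scheme.Hom.isPullback_resLE HY hW'W hVW rfl).isoPullback.hom
  have hxV' : f' x ∈ V' := ⟨by
    change h (f' x) ∈ V
    rw [← Scheme.Hom.comp_apply, ← H.w, Scheme.Hom.comp_apply]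
    exact hxV, hxW'⟩
  have hpo₀ := ((isIso_pushoutSection_iff HY hW'W hVW rfl).1
    (isIso_pushoutSection_of_isAffineOpen HY hW'W hVW rfl hW hW' hV)).flip
  obtain ⟨n, φ, hφ⟩ := exists_isChart f hU hV hUV
  obtain ⟨C, hCb, hCp, hC⟩ := exists_model (B := Γ(X, U)) hU.fromSpec hq b
  obtain ⟨U', hU', hle'', hg, φ', hUe, hφ', hC', hsq, -, -⟩ := exists_chart_model_pullback H hV hU hUV hV'
    (show V' ≤ h ⁻¹ᵁ V from inf_le_left) hφ (b := b)
    (KF.isKFlat_of_vanishesAbove hCb (DR.termwiseFlat_of_projective hCp)) hC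
  have hpc := (pcOn_iff_model hU hφ.1 hC).1 (pcOn_of_isPseudoCoherentRel hK hU hV hφ)
  let α : Γ(S, W) →+* Γ(Y, V) := (q.appLE W V hVW).hom
  let r : Γ(S, W) →+* MvPolynomial (Fin n) Γ(Y, V) := MvPolynomial.C.comp α
  have hr : r.Flat := RingHom.Flat.comp (Flat.flat_appLE q hW hV hVW) (flat_C _ n)
  have hrB : (φ.comp r).Flat := by
    have := Flat.flat_appLE (f ≫ q) hW hU (fun z hz => hVW (hUV hz))
    rw [← Scheme.Hom.appLE_comp_appLE f q W V U hVW hUV, CommRingCat.hom_comp] at this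
    rwa [← RingHom.comp_assoc, hφ.2]
  have H₂ := hpo₀.flip.paste_horiz (isPushout_mvPolynomial (h.appLE V V' inf_le_left).hom n).flip
  have hKfl : DRing.TermwiseFlat ((DRing.restrictCx r).obj ((DRing.restrictCx φ).obj C)) := fun k => by
    haveI := flat_restrict_trans (φ.comp r) hrB (C.X k) (DR.termwiseFlat_of_projective hCp k)
    exact Module.Flat.of_linearEquiv
      (((ModuleCat.restrictScalarsComp'.{u} r φ _ rfl).app (C.X k)).symm).toLinearEquiv
  have h' := pc_bc_flat_base r _ _ _ H₂ hr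
    (fun i hi => (ModuleCat.restrictScalars.{u} φ).map_isZero (hCb i hi)) hKfl hpc
  obtain ⟨hsq', hpoH⟩ := isPushoutHom_of_isPushout hsq
  haveI := DR.isIso_canCx hsq' hpoH C
  exact ⟨U', V', hle'', n, φ', by rw [hUe]; exact ⟨hxU, hxV'⟩, hU', hV', hφ', (pcOn_iff_model hU' hφ'.1 hC').2
    (DerBC.isPseudoCoherent_of_iso (DerivedCategory.Q.mapIso (asIso (DR.canCx hsq' C))) h')⟩

/-- Symmetry of the derived tensor product, through representatives. -/
theorem nonempty_ltensor_symm {K₁ K₂ : CochainComplex X.Modules ℤ} [DCoh.HasLTensorCx K₁] [DCoh.HasLTensorCx K₂]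
    {A B : DCoh.D X} (e₁ : DCoh.toD X K₁ ≅ A) (e₂ : DCoh.toD X K₂ ≅ B) :
    Nonempty ((DCoh.LTensorCx K₂).obj A ≅ (DCoh.LTensorCx K₁).obj B) := by
  obtain ⟨P, hP, ⟨eP⟩⟩ := exists_kflat_rep A
  obtain ⟨Q, hQ, ⟨eQ⟩⟩ := exists_kflat_rep B
  haveI := hasLTensorCx P
  haveI := hasLTensorCx Q
  obtain ⟨v₂⟩ := ltensorCx_value K₂ P hP
  obtain ⟨v₁⟩ := ltensorCx_value K₁ Q hQ
  obtain ⟨a₁⟩ := ltensorCx_value_of_isKFlat P hP K₂
  obtain ⟨a₂⟩ := ltensorCx_value_of_isKFlat P hP Q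
  obtain ⟨b₁⟩ := ltensorCx_value_of_isKFlat Q hQ K₁
  obtain ⟨b₂⟩ := ltensorCx_value_of_isKFlat Q hQ P
  exact ⟨(DCoh.LTensorCx K₂).mapIso eP.symm ≪≫ v₂ ≪≫ DerivedCategory.Q.mapIso (tensorCxSymm K₂ P) ≪≫
    a₁.symm ≪≫ (DCoh.LTensorCx P).mapIso (e₂ ≪≫ eQ.symm) ≪≫ a₂ ≪≫
    DerivedCategory.Q.mapIso (tensorCxSymm P Q) ≪≫ b₂.symm ≪≫
    (DCoh.LTensorCx Q).mapIso (eP ≪≫ e₁.symm) ≪≫ b₁ ≪≫ DerivedCategory.Q.mapIso (tensorCxSymm K₁ Q).symm ≪≫
    v₁.symm ≪≫ (DCoh.LTensorCx K₁).mapIso eQ⟩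

/-- **Relative pseudo-coherence of an external tensor product, flat second factor.** -/
theorem isPseudoCoherentRel_externalTensor {S X₁ Y₁ X₂ Y₂ X Y : Scheme.{u}} (f₁ : X₁ ⟶ Y₁) (q₁ : Y₁ ⟶ S)
    (f₂ : X₂ ⟶ Y₂) (q₂ : Y₂ ⟶ S) [Flat q₂] [Flat (f₂ ≫ q₂)]
    (pX₁ : X ⟶ X₁) (pX₂ : X ⟶ X₂) (hX : IsPullback pX₁ pX₂ (f₁ ≫ q₁) (f₂ ≫ q₂))
    (pY₁ : Y ⟶ Y₁) (pY₂ : Y ⟶ Y₂) (hY : IsPullback pY₁ pY₂ q₁ q₂)
    (f : X ⟶ Y) (hf₁ : f ≫ pY₁ = pX₁ ≫ f₁) (hf₂ : f ≫ pY₂ = pX₂ ≫ f₂)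
    [LocallyOfFiniteType f₁] [LocallyOfFiniteType f₂]
    {E₁ : DCoh.D X₁} {a₁ b₁ : ℤ} (hq₁ : DCoh.IsQCohD E₁) (hpc₁ : DerSch.IsPseudoCoherentRel f₁ a₁ E₁) [E₁.IsLE b₁]
    {E₂ : DCoh.D X₂} {a₂ b₂ : ℤ} (hq₂ : DCoh.IsQCohD E₂) (hpc₂ : DerSch.IsPseudoCoherentRel f₂ a₂ E₂) [E₂.IsLE b₂]
    [DCoh.HasLpull pX₁] [DCoh.HasLpull pX₂] (K₂ : CochainComplex X.Modules ℤ) [DCoh.HasLTensorCx K₂]
    (eK : DCoh.toD X K₂ ≅ (DCoh.Lpull pX₂).obj E₂) :
    DerSch.IsPseudoCoherentRel f (max (a₁ + b₂) (a₂ + b₁))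
        ((DCoh.LTensorCx K₂).obj ((DCoh.Lpull pX₁).obj E₁)) ∧
      ((DCoh.LTensorCx K₂).obj ((DCoh.Lpull pX₁).obj E₁)).IsLE (b₁ + b₂) := by
  let M := pullback q₁ (f₂ ≫ q₂)
  let m₁ : M ⟶ Y₁ := pullback.fst _ _
  let m₂ : M ⟶ X₂ := pullback.snd _ _
  have hM : IsPullback m₁ m₂ q₁ (f₂ ≫ q₂) := IsPullback.of_hasPullback _ _
  let u : X ⟶ M := hM.lift (pX₁ ≫ f₁) pX₂ (by simpa using hX.w)
  let v : M ⟶ Y := hY.lift m₁ (m₂ ≫ f₂) (by simpa using hM.w)
  have hu₁ : u ≫ m₁ = pX₁ ≫ f₁ := hM.lift_fst _ _ _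
  have hu₂ : u ≫ m₂ = pX₂ := hM.lift_snd _ _ _
  have hv₁ : v ≫ pY₁ = m₁ := hY.lift_fst _ _ _
  have hv₂ : v ≫ pY₂ = m₂ ≫ f₂ := hY.lift_snd _ _ _
  have hf : f = u ≫ v := hY.hom_ext (by rw [Category.assoc, hv₁, hu₁, hf₁])
    (by rw [Category.assoc, hv₂, hf₂, ← Category.assoc, hu₂])
  have H₁ : IsPullback pX₁ u f₁ m₁ := IsPullback.of_bot (by rw [hu₂]; exact hX) hu₁.symm hM
  have H₂ : IsPullback m₂ v f₂ pY₂ := IsPullback.of_bot (by rw [hv₁]; exact hM.flip) hv₂.symm hY.flip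
  haveI : Flat m₁ := MorphismProperty.of_isPullback hM.flip ‹Flat (f₂ ≫ q₂)›
  haveI : LocallyOfFiniteType u := MorphismProperty.of_isPullback H₁ ‹LocallyOfFiniteType f₁›
  haveI : LocallyOfFiniteType v := MorphismProperty.of_isPullback H₂ ‹LocallyOfFiniteType f₂›
  haveI := hasLpull m₂
  haveI := hasLpull u
  obtain ⟨hqA, hbA⟩ := qcoh_isLE_lpull pX₁ hq₁ b₁
  obtain ⟨hqG, hbG⟩ := qcoh_isLE_lpull m₂ hq₂ b₂
  obtain ⟨F, hkF, ⟨eF⟩⟩ := exists_kflat_rep ((DCoh.Lpull pX₁).obj E₁)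
  haveI := hasLTensorCx F
  haveI : (DCoh.toD X F).IsLE b₁ := (DerivedCategory.isLE_iff _ _).2 fun i hi =>
    ((DerivedCategory.isLE_iff _ _).1 hbA i hi).of_iso ((DerivedCategory.homologyFunctor _ i).mapIso eF)
  have hA := isPseudoCoherentRel_lpull_flat H₁ hq₁ (b := b₁) hpc₁
  have hG := isPseudoCoherentRel_lpull_flat_base hY.flip H₂ hq₂ (b := b₂) hpc₂
  have hqF : DCoh.IsQCohD (DCoh.toD X F) := fun i =>
    isQCoh_of_iso ((DerivedCategory.homologyFunctor _ i).mapIso eF).symm (hqA i)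
  obtain ⟨h₁, h₂⟩ := isPseudoCoherentRel_ltensor_lpull u v (E := F) (b := b₁) (d := b₂) hqF
    (isPseudoCoherentRel_of_iso eF.symm hA) hqG hG
  obtain ⟨P₂, hk₂, ⟨e₂⟩⟩ := exists_kflat_rep E₂
  obtain ⟨vG⟩ := lpull_value m₂ P₂ hk₂
  obtain ⟨v₂⟩ := lpull_value pX₂ P₂ hk₂
  obtain ⟨vu⟩ := lpull_value u _ (isKFlat_pullback m₂ hk₂)
  let c : (DCoh.Lpull u).obj ((DCoh.Lpull m₂).obj E₂) ≅ (DCoh.Lpull pX₂).obj E₂ :=
    (DCoh.Lpull u).mapIso ((DCoh.Lpull m₂).mapIso e₂.symm ≪≫ vG) ≪≫ vu ≪≫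
    DerivedCategory.Q.mapIso ((NatIso.mapHomologicalComplex
      (Scheme.Modules.pullbackComp u m₂ ≪≫ Scheme.Modules.pullbackCongr hu₂) (ComplexShape.up ℤ)).app P₂) ≪≫
    v₂.symm ≪≫ (DCoh.Lpull pX₂).mapIso e₂
  obtain ⟨s⟩ := nonempty_ltensor_symm (K₁ := F) (K₂ := K₂) eF (eK ≪≫ c.symm)
  refine ⟨?_, (DerivedCategory.isLE_iff _ _).2 fun i hi => ((DerivedCategory.isLE_iff _ _).1 h₂ i hi).of_iso
    ((DerivedCategory.homologyFunctor _ i).mapIso s)⟩
  rw [hf]
  exact isPseudoCoherentRel_of_iso s.symm (isPseudoCoherentRel_mono (by omega) h₁)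

end GrothLib.KSix19
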