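import Groth.Agent.Lib.KSix19.SmoothPush
import Groth.Agent.Lib.DCxRing.TorLocalMax
import Groth.Agent.Lib.RelPC.Transport

/-! # Tor dimension of morphisms on affine opens -/

set_option autoImplicit false
set_option maxHeartbeats 800000
set_option backward.isDefEq.respectTransparency false
set_option linter.style.haveILetI false
universe u

open CategoryTheory CategoryTheory.Limits AlgebraicGeometry HomologicalComplex

attribute [local instance] HasDerivedCategory.standard

namespace GrothLib.KSix19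

variable {A B C : Type u} [CommRing A] [CommRing B] [CommRing C]

/-- Tor amplitude of a module over the source ring. -/
abbrev AmpM (φ : A →+* B) (a b : ℤ) (M : ModuleCat.{u} B) : Prop :=
  DRing.HasTorAmplitudeIn A a b (Dual.inD A ((ModuleCat.restrictScalars.{u} φ).obj M))

theorem nonempty_inD_iso (M : ModuleCat.{u} A) :
    Nonempty (Dual.inD A M ≅ DRing.toD ((HomologicalComplex.single (ModuleCat.{u} A) (ComplexShape.up ℤ) 0).obj M)) :=
  ⟨((SingleFunctors.evaluation _ _ 0).mapIso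
      (DerivedCategory.singleFunctorsPostcompQIso (ModuleCat.{u} A))).app M⟩

theorem ampM_iff (φ : A →+* B) (a b : ℤ) (M : ModuleCat.{u} B) :
    AmpM φ a b M ↔ AmpOver φ a b ((HomologicalComplex.single (ModuleCat.{u} B) (ComplexShape.up ℤ) 0).obj M) := by
  obtain ⟨e₀⟩ := nonempty_inD_iso ((ModuleCat.restrictScalars.{u} φ).obj M)
  let e : Dual.inD A ((ModuleCat.restrictScalars.{u} φ).obj M) ≅
      DRing.toD ((DRing.restrictCx φ).obj ((HomologicalComplex.single (ModuleCat.{u} B) (ComplexShape.up ℤ) 0).obj M)) :=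
    e₀ ≪≫ DerivedCategory.Q.mapIso
      ((singleMapHomologicalComplex (ModuleCat.restrictScalars.{u} φ) (ComplexShape.up ℤ) 0).app M).symm
  exact ⟨fun h => amp_of_iso e h, fun h => amp_of_iso e.symm h⟩

theorem ampM_congr (φ : A →+* B) {a b : ℤ} {M N : ModuleCat.{u} B} (e : M ≅ N) (h : AmpM φ a b M) : AmpM φ a b N :=
  amp_of_iso ((DerivedCategory.singleFunctor (ModuleCat.{u} A) 0).mapIso
    ((ModuleCat.restrictScalars.{u} φ).mapIso e)) h

theorem ampM_comp (f : A →+* B) (g : B →+* C) {h : A →+* C} (hh : h = g.comp f) (a b : ℤ) (M : ModuleCat.{u} C) :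
    AmpM h a b M ↔ AmpM f a b ((ModuleCat.restrictScalars.{u} g).obj M) := by
  let e := (DerivedCategory.singleFunctor (ModuleCat.{u} A) 0).mapIso
    ((ModuleCat.restrictScalarsComp'.{u} f g h hh).app M)
  exact ⟨fun k => amp_of_iso e k, fun k => amp_of_iso e.symm k⟩

/-- Tor dimensions add. -/
theorem ampM_restrict (φ : A →+* B) (g : B →+* C) {h : A →+* C} (hh : h = g.comp φ) (d : ℕ)
    (hB : AmpM φ (-(d : ℤ)) 0 (ModuleCat.of B B)) {a b : ℤ} {M : ModuleCat.{u} C} (hM : AmpM g a b M) :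
    AmpM h (a - d) b M :=
  (ampM_comp φ g hh _ _ M).2
    (amp_of_iso (RelPC.restrictInDIso φ ((ModuleCat.restrictScalars.{u} g).obj M)) (amp_restrict φ d hB hM))

theorem ampM_flat (φ : A →+* B) (hφ : φ.Flat) : AmpM φ 0 0 (ModuleCat.of B B) := by
  have := (flat_restrict_iff φ).2 hφ
  exact DR.hasTorAmplitudeIn_flat _

/-- Tor amplitude over a localisation can be tested over the ring. -/
theorem ampM_of_isLocalization [Algebra A B] (S : Submonoid A) [IsLocalization S B] (g : B →+* C) {h : A →+* C}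
    (hh : h = g.comp (algebraMap A B)) {a b : ℤ} {M : ModuleCat.{u} C} (hM : AmpM h a b M) : AmpM g a b M := by
  obtain ⟨e₀⟩ := nonempty_inD_iso ((ModuleCat.restrictScalars.{u} g).obj M)
  exact amp_of_iso e₀.symm
    (amp_of_isLocalization S ((ampM_iff _ a b _).1 ((ampM_comp (algebraMap A B) g hh a b M).1 hM)))

variable {X Y : Scheme.{u}}

/-- The stalk map against sections. -/
theorem stalkMap_comp_germ (f : X ⟶ Y) {V : Y.Opens} {U : X.Opens} (hle : U ≤ f ⁻¹ᵁ V) {x : X} (hx : x ∈ U) :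
    (f.stalkMap x).hom.comp (Y.presheaf.germ V (f x) (hle hx)).hom =
      (X.presheaf.germ U x hx).hom.comp (f.appLE V U hle).hom := by
  refine RingHom.ext fun s => ?_
  change (f.stalkMap x).hom ((Y.presheaf.germ V (f x) (hle hx)).hom s) =
    (X.presheaf.germ U x hx).hom ((f.appLE V U hle).hom s)
  rw [Scheme.Hom.germ_stalkMap_apply f V x (hle hx)]
  exact (TopCat.Presheaf.germ_res_apply X.presheaf (homOfLE hle) x hx _).symm

theorem flat_germ {V : X.Opens} (hV : IsAffineOpen V) {x : X} (hx : x ∈ V) :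
    ((X.presheaf.germ V x hx).hom).Flat := by
  letI := (X.presheaf.germ V x hx).hom.toAlgebra
  haveI : IsLocalization.AtPrime (X.presheaf.stalk x) (hV.primeIdealOf ⟨x, hx⟩).asIdeal :=
    hV.isLocalization_stalk ⟨x, hx⟩
  exact IsLocalization.flat (X.presheaf.stalk x) (hV.primeIdealOf ⟨x, hx⟩).asIdeal.primeCompl

theorem hasTorAmplitudeAt_unit_iff' (f : X ⟶ Y) (x : X) (a b : ℤ) :
    DerSch.HasTorAmplitudeAt f a b (DerSch.unitCx X) x ↔
      AmpM (f.stalkMap x).hom a b (ModuleCat.of (X.presheaf.stalk x) (X.presheaf.stalk x)) :=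
  hasTorAmplitudeAt_unit_iff f x a b

/-- Tor dimension on an affine chart from the stalks. -/
theorem ampM_of_stalks (f : X ⟶ Y) {n : ℕ} {V : Y.Opens} (hV : IsAffineOpen V) {U : X.Opens} (hU : IsAffineOpen U)
    (hle : U ≤ f ⁻¹ᵁ V) (h : ∀ x ∈ U, DerSch.HasTorAmplitudeAt f (-(n : ℤ)) 0 (DerSch.unitCx X) x) :
    AmpM (f.appLE V U hle).hom (-(n : ℤ)) 0 (ModuleCat.of Γ(X, U) Γ(X, U)) := by
  letI := (f.appLE V U hle).hom.toAlgebra
  refine (ampM_iff _ _ _ _).2 (DR.hasTorAmplitudeIn_restrict_of_maximal (A := Γ(Y, V)) (B := Γ(X, U))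
    ((HomologicalComplex.single (ModuleCat.{u} Γ(X, U)) (ComplexShape.up ℤ) 0).obj
      (ModuleCat.of Γ(X, U) Γ(X, U))) _ _ fun m _ => ?_)
  let p : PrimeSpectrum Γ(X, U) := ⟨m, inferInstance⟩
  have hx : hU.fromSpec p ∈ U := by
    have : hU.fromSpec p ∈ Set.range hU.fromSpec := ⟨p, rfl⟩
    rwa [hU.range_fromSpec] at this
  let x := hU.fromSpec p
  let γ : Γ(X, U) →+* X.presheaf.stalk x := (X.presheaf.germ U x hx).hom
  let O := ModuleCat.of (X.presheaf.stalk x) (X.presheaf.stalk x)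
  have h1 : AmpM (γ.comp (f.appLE V U hle).hom) (-(n : ℤ)) 0 O := by
    have := ampM_restrict (Y.presheaf.germ V (f x) (hle hx)).hom (f.stalkMap x).hom
      (stalkMap_comp_germ f hle hx).symm 0 (by simpa using ampM_flat _ (flat_germ hV (hle hx)))
      ((hasTorAmplitudeAt_unit_iff' f x _ _).1 (h x hx))
    simpa using this
  let q := m.comap (algebraMap Γ(Y, V) Γ(X, U))
  let ι := algebraMap Γ(Y, V) (Localization.AtPrime q)
  let ψ := algebraMap Γ(X, U) (Localization.AtPrime m)
  let χ := Localization.localRingHom q m (algebraMap Γ(Y, V) Γ(X, U)) rfl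
  have hc : χ.comp ι = ψ.comp (f.appLE V U hle).hom :=
    RingHom.ext fun z => Localization.localRingHom_to_map q m (algebraMap Γ(Y, V) Γ(X, U)) rfl z
  let Lm := ModuleCat.of (Localization.AtPrime m) (Localization.AtPrime m)
  have h2 : AmpM (χ.comp ι) (-(n : ℤ)) 0 Lm := by
    rw [hc]
    refine (ampM_comp _ ψ rfl _ _ Lm).2 (ampM_congr _ ?_ ((ampM_comp (f.appLE V U hle).hom γ rfl _ _ O).1 h1))
    letI := γ.toAlgebra
    haveI : IsLocalization.AtPrime (X.presheaf.stalk x) m := hU.isLocalization_stalk' p hx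
    let σ := IsLocalization.algEquiv m.primeCompl (X.presheaf.stalk x) (Localization.AtPrime m)
    let ℓ : (ModuleCat.restrictScalars.{u} γ).obj O ≃ₗ[Γ(X, U)] (ModuleCat.restrictScalars.{u} ψ).obj Lm :=
      { toFun := fun (z : X.presheaf.stalk x) => σ z
        map_add' := fun (z z' : X.presheaf.stalk x) => map_add σ z z'
        map_smul' := fun c (z : X.presheaf.stalk x) => by
          change σ (γ c * z) = ψ c * σ z
          rw [map_mul]
          exact congrArg (· * σ z) (σ.commutes c)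
        invFun := fun (z : Localization.AtPrime m) => σ.symm z
        left_inv := fun (z : X.presheaf.stalk x) => σ.symm_apply_apply z
        right_inv := fun (z : Localization.AtPrime m) => σ.apply_symm_apply z }
    exact ℓ.toModuleIso
  have h3 : AmpM χ (-(n : ℤ)) 0 Lm := ampM_of_isLocalization q.primeCompl χ rfl h2
  let F := ModuleCat.extendScalars.{u, u, u} ψ
  obtain ⟨e₂⟩ := DR.nonempty_extendScalars_iso (A := Γ(X, U)) (B := Localization.AtPrime m) Γ(X, U)
  let e : Lm ≅ F.obj (ModuleCat.of Γ(X, U) Γ(X, U)) :=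
    (TensorProduct.AlgebraTensorModule.rid Γ(X, U) (Localization.AtPrime m)
      (Localization.AtPrime m)).symm.toModuleIso ≪≫ e₂
  exact amp_of_iso (DerivedCategory.Q.mapIso ((DRing.restrictCx χ).mapIso
    ((singleMapHomologicalComplex F (ComplexShape.up ℤ) 0).app _).symm))
    ((ampM_iff χ _ _ _).1 (ampM_congr χ e h3))

/-- Tor dimension at the points of an affine chart. -/
theorem hasTorAmplitudeAt_of_ampM (f : X ⟶ Y) {n : ℕ} {V : Y.Opens} (hV : IsAffineOpen V) {U : X.Opens}
    (hU : IsAffineOpen U) (hle : U ≤ f ⁻¹ᵁ V)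
    (h : AmpM (f.appLE V U hle).hom (-(n : ℤ)) 0 (ModuleCat.of Γ(X, U) Γ(X, U))) {x : X} (hx : x ∈ U) :
    DerSch.HasTorAmplitudeAt f (-(n : ℤ)) 0 (DerSch.unitCx X) x := by
  refine (hasTorAmplitudeAt_unit_iff' f x _ _).2 ?_
  have h1 := ampM_restrict (f.appLE V U hle).hom (X.presheaf.germ U x hx).hom (stalkMap_comp_germ f hle hx) n h
    (ampM_flat _ (flat_germ hU hx))
  rw [zero_sub] at h1
  letI := (Y.presheaf.germ V (f x) (hle hx)).hom.toAlgebra
  haveI : IsLocalization.AtPrime (Y.presheaf.stalk (f x)) (hV.primeIdealOf ⟨f x, hle hx⟩).asIdeal :=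
    hV.isLocalization_stalk ⟨f x, hle hx⟩
  exact ampM_of_isLocalization (hV.primeIdealOf ⟨f x, hle hx⟩).asIdeal.primeCompl (f.stalkMap x).hom rfl h1

end GrothLib.KSix19
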