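import Groth.Agent.Lib.KSix19.AmpLocal
import Groth.Agent.Lib.PC.Consequences
import Groth.Agent.Lib.DCxRing.Flat
import Groth.Agent.Lib.DCxRing.Reduction
import Groth.Agent.Lib.OX.FlatRes
import Groth.Prelude.Def_DerSch

/-! # Tor amplitude on stalks -/

set_option autoImplicit false
set_option maxHeartbeats 800000
set_option backward.isDefEq.respectTransparency false
universe u

open CategoryTheory CategoryTheory.Limits AlgebraicGeometry HomologicalComplex ZeroObject

attribute [local instance] HasDerivedCategory.standard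

namespace GrothLib.KSix19

open GrothLib.OX

variable {X Y : Scheme.{u}}

/-- The two stalk functors agree. -/
noncomputable def stalkFunctorIso (x : X) : DerSch.stalkFunctor X x ≅ stalk x :=
  NatIso.ofComponents (fun _ => Iso.refl _) (fun {M N} f => by
    refine ModuleCat.hom_ext (LinearMap.ext fun e => ?_)
    obtain ⟨U, hU, s, rfl⟩ := M.presheaf.exists_germ_eq (x := x) e
    exact (DerSch.stalkFunctor_map_germ x f U hU s).trans
      (stalkPre_map_germ ((DCoh.toP).map f) U hU s).symm)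

/-- Over the identity the stalk is the stalk. -/
noncomputable def stalkOverIdIso (x : X) : DerSch.stalkOver (𝟙 X) x ≅ stalk x :=
  Functor.isoWhiskerLeft _ (ModuleCat.restrictScalarsId' ((𝟙 X : X ⟶ X).stalkMap x).hom
    (by rw [Scheme.Hom.stalkMap_id]; rfl)) ≪≫ Functor.rightUnitor _ ≪≫ stalkFunctorIso x

/-- Bounded above complexes have bounded above flat resolutions. -/
theorem exists_flat_rep (F : CochainComplex X.Modules ℤ) (d : ℤ) [(DCoh.toD X F).IsLE d] :
    ∃ (P : CochainComplex X.Modules ℤ) (b : ℤ), (∀ i, b < i → IsZero (P.X i)) ∧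
      (∀ i, FlatMod.IsFlat (P.X i)) ∧ Nonempty (DerivedCategory.Q.obj P ≅ DCoh.toD X F) := by
  let P : ObjectProperty X.Modules := fun M => FlatMod.IsFlat M
  have : P.IsClosedUnderIsomorphisms := ⟨fun e h => flat_of_iso e h⟩
  have : P.ContainsZero := ⟨⟨0, isZero_zero _, flat_of_isZero (isZero_zero _)⟩⟩
  have hsum : ∀ A B : X.Modules, P A → P B → P (A ⨯ B) := fun A B hA hB =>
    flat_of_iso (biprod.isoProd A B) (flat_biprod hA hB)
  have hft : ∀ M : X.Modules, PCoh.IsOfFiniteType P M := fun M =>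
    ⟨coverObj M, coverπ M, flat_coverObj M, inferInstance⟩
  have hql : PCoh.IsQuasiLiftable P := fun A B g hg _ =>
    ⟨coverObj A, coverπ A, flat_coverObj A, @epi_comp _ _ _ _ _ (coverπ A) inferInstance g hg⟩
  have hcoh : ∀ (A E : X.Modules) (g : E ⟶ A), P A → P E → PCoh.IsOfFiniteType P (kernel g) :=
    fun _ _ _ _ _ => hft _
  have hqs := GrothLib.PC.isQuasiStable_of_coherent P hcoh
  obtain ⟨E, s, ⟨⟨b, hb⟩, hfl⟩, hs⟩ := GrothLib.PC.exists_strictAll_quasiIso P hsum hqs hql (F := F)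
    fun m => (GrothLib.PC.pcn_iff_coherent_homology P hsum hql hcoh (b := d) fun i hi =>
      DerivedCategory.isZero_of_isLE _ d i hi).2 ⟨hft _, fun i _ => ⟨hft _, fun _ _ _ => hft _⟩⟩
  exact ⟨E, b, hb, hfl, ⟨@asIso _ _ _ _ (DerivedCategory.Q.map s)
    ((DerivedCategory.isIso_Q_map_iff_quasiIso _ s).2 hs)⟩⟩

/-- The functor `D(O_X) ⥤ D(O_{X,x})`. -/
noncomputable abbrev stalkCx (x : X) : CochainComplex X.Modules ℤ ⥤ DRing.Cx (X.presheaf.stalk x) :=
  (stalk x).mapHomologicalComplex (ComplexShape.up ℤ)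

theorem nonempty_stalkCx_iso (x : X) {A B : CochainComplex X.Modules ℤ}
    (e : DerivedCategory.Q.obj A ≅ DerivedCategory.Q.obj B) :
    Nonempty (DRing.toD ((stalkCx x).obj A) ≅ DRing.toD ((stalkCx x).obj B)) :=
  ⟨((stalk x).mapDerivedCategoryFactors.app A).symm ≪≫ (stalk x).mapDerivedCategory.mapIso e ≪≫
    (stalk x).mapDerivedCategoryFactors.app B⟩

theorem hasTorAmplitudeAt_id_iff (x : X) (a b : ℤ) (F : CochainComplex X.Modules ℤ) :
    DerSch.HasTorAmplitudeAt (𝟙 X) a b F x ↔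
      DRing.HasTorAmplitudeIn (X.presheaf.stalk x) a b (DRing.toD ((stalkCx x).obj F)) := by
  let e : DRing.toD ((DerSch.stalkCxOver (𝟙 X) x).obj F) ≅ DRing.toD ((stalkCx x).obj F) :=
    DerivedCategory.Q.mapIso ((NatIso.mapHomologicalComplex (stalkOverIdIso x) (ComplexShape.up ℤ)).app F)
  exact ⟨fun ⟨E, h1, h2, ⟨q⟩⟩ => ⟨E, h1, h2, ⟨q ≪≫ e⟩⟩, fun ⟨E, h1, h2, ⟨q⟩⟩ => ⟨E, h1, h2, ⟨q ≪≫ e.symm⟩⟩⟩

/-- The stalk of a tensor product of a complex by a module. -/
noncomputable def stalkTensorModIso (x : X) (G : X.Modules) (P : CochainComplex X.Modules ℤ) :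
    (stalkCx x).obj ((tensorModCx G).obj P) ≅ DRing.tensorCx ((stalkCx x).obj P) ((stalk x).obj G) :=
  HomologicalComplex.Hom.isoOfComponents (fun i => stalkTensorBiIso x (P.X i) G)
    (fun i j _ => (stalkTensorBiIso_natural₁ x (P.d i j) G).symm)

/-- Stalkwise tor amplitude gives flat amplitude. -/
theorem flatAmplitude_of_stalks {F : CochainComplex X.Modules ℤ} (d : ℤ) [(DCoh.toD X F).IsLE d] {a b : ℤ}
    (hab : a ≤ b) (h : ∀ x : X, DerSch.HasTorAmplitudeAt (𝟙 X) a b F x) :
    DCoh.HasFlatAmplitudeIn a b (DCoh.toD X F) := by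
  obtain ⟨P, c, hP, hflat, ⟨e⟩⟩ := exists_flat_rep F d
  obtain ⟨E', h1, h2, ⟨e'⟩⟩ := flatAmplitude_of_vanish (isKFlat_of_bounded_above P c hP hflat) hflat hab
    fun G i hi => by
      let T : CochainComplex X.Modules ℤ := (tensorModCx G).obj P
      have hs : ∀ x : X, IsZero ((stalk x).obj (T.homology i)) := fun x => by
        obtain ⟨E, hv, hE, ⟨q⟩⟩ := (hasTorAmplitudeAt_id_iff x a b F).1 (h x)
        obtain ⟨w⟩ := nonempty_stalkCx_iso x e
        have hc : DRing.VanishesAbove ((stalkCx x).obj P) c := fun j hj => (stalk x).map_isZero (hP j hj)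
        have hf : DRing.TermwiseFlat ((stalkCx x).obj P) := fun j => (GrothLib.OX.flat_iff _).1 (hflat j) x
        have ht := (GrothLib.DR.hasTorAmplitudeIn_iff hc hf a b).1 ⟨E, hv, hE, ⟨q ≪≫ w.symm⟩⟩
          ((stalk x).obj G) i hi
        have ht' : (DRing.tensorCx ((stalkCx x).obj P) ((stalk x).obj G)).ExactAt i :=
          (GrothLib.DR.tExact_iff _ _ i).1 ht
        have hz : IsZero (((stalkCx x).obj T).homology i) :=
          ((exactAt_iff_isZero_homology _ _).1 ht').of_iso
            ((homologyFunctor _ (ComplexShape.up ℤ) i).mapIso (stalkTensorModIso x G P))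
        exact hz.of_iso ((T.sc i).mapHomologyIso (stalk x)).symm
      have : IsIso (0 : T.homology i ⟶ T.homology i) :=
        (GrothLib.OX.isIso_iff _).2 fun x => ⟨0, (hs x).eq_of_src _ _, (hs x).eq_of_src _ _⟩
      exact (IsZero.iff_id_eq_zero _).2 ((cancel_epi (0 : T.homology i ⟶ _)).1 (by simp))
  exact ⟨E', h1, h2, ⟨e' ≪≫ e⟩⟩

/-- Flat amplitude gives stalkwise tor amplitude. -/
theorem stalks_of_flatAmplitude {F : CochainComplex X.Modules ℤ} {a b : ℤ}
    (h : DCoh.HasFlatAmplitudeIn a b (DCoh.toD X F)) (x : X) : DerSch.HasTorAmplitudeAt (𝟙 X) a b F x := by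
  obtain ⟨E, hE, hflat, ⟨e⟩⟩ := h
  obtain ⟨w⟩ := nonempty_stalkCx_iso x e
  exact (hasTorAmplitudeAt_id_iff x a b F).2
    ⟨(stalkCx x).obj E, fun i hi => (stalk x).map_isZero (hE i hi), fun i => (GrothLib.OX.flat_iff _).1 (hflat i) x, ⟨w⟩⟩

/-- A stalkwise zero object is zero, so the empty interval is allowed. -/
theorem flatAmplitude_iff_stalks {F : CochainComplex X.Modules ℤ} (d : ℤ) [(DCoh.toD X F).IsLE d] (a b : ℤ) :
    DCoh.HasFlatAmplitudeIn a b (DCoh.toD X F) ↔ DerSch.HasTorAmplitude (𝟙 X) a b F := by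
  refine ⟨fun h => stalks_of_flatAmplitude h, fun h => ?_⟩
  rcases le_or_gt a b with hab | hab
  · exact flatAmplitude_of_stalks d hab h
  · refine ⟨0, fun i _ => (HomologicalComplex.eval _ _ i).map_isZero (isZero_zero _),
      fun i => flat_of_isZero ((HomologicalComplex.eval _ _ i).map_isZero (isZero_zero _)), ?_⟩
    have hac : F.Acyclic := fun i => by
      rw [exactAt_iff_isZero_homology]
      have hs : ∀ x : X, IsZero ((stalk x).obj (F.homology i)) := fun x => by
        obtain ⟨E, hv, -, ⟨q⟩⟩ := (hasTorAmplitudeAt_id_iff x a b F).1 (h x)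
        have hE : IsZero (E.homology i) := (exactAt_iff_isZero_homology _ i).1 (ExactAt.of_isZero (hv i (by omega)))
        have hz : IsZero (((stalkCx x).obj F).homology i) :=
          hE.of_iso (((DerivedCategory.homologyFunctorFactors _ i).app _).symm ≪≫
            (DerivedCategory.homologyFunctor _ i).mapIso q.symm ≪≫ (DerivedCategory.homologyFunctorFactors _ i).app _)
        exact hz.of_iso ((F.sc i).mapHomologyIso (stalk x)).symm
      have : IsIso (0 : F.homology i ⟶ F.homology i) :=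
        (GrothLib.OX.isIso_iff _).2 fun x => ⟨0, (hs x).eq_of_src _ _, (hs x).eq_of_src _ _⟩
      exact (IsZero.iff_id_eq_zero _).2 ((cancel_epi (0 : F.homology i ⟶ _)).1 (by simp))
    have : QuasiIso (0 : (0 : CochainComplex X.Modules ℤ) ⟶ F) := ⟨fun i => by
      rw [quasiIsoAt_iff_isIso_homologyMap]
      exact ⟨0, ((exactAt_iff_isZero_homology _ i).1 (ExactAt.of_isZero
        ((HomologicalComplex.eval _ _ i).map_isZero (isZero_zero _)))).eq_of_src _ _,
        ((exactAt_iff_isZero_homology _ i).1 (hac i)).eq_of_src _ _⟩⟩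
    exact ⟨asIso (DerivedCategory.Q.map (0 : (0 : CochainComplex X.Modules ℤ) ⟶ F))⟩

end GrothLib.KSix19
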