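import Groth.Agent.Lib.OX.PCohQCoh
import Groth.Agent.Lib.OX.ClosedPush
import Groth.Agent.Lib.OX.LocalTensor
import Groth.Prelude.Def_DerSch2

/-! # Charts for relative pseudo-coherence -/

set_option autoImplicit false
set_option maxHeartbeats 800000
set_option backward.isDefEq.respectTransparency false
universe u

open CategoryTheory CategoryTheory.Limits AlgebraicGeometry HomologicalComplex TopologicalSpace

attribute [local instance] HasDerivedCategory.standard

namespace GrothLib.KSix19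

open GrothLib.OX

variable {X Y : Scheme.{u}}

theorem isClosedImmersion_chartImm {U : X.Opens} (hU : IsAffineOpen U) {R : Type u} [CommRing R] {n : ℕ}
    {φ : MvPolynomial (Fin n) R →+* Γ(X, U)} (hφ : Function.Surjective φ) :
    IsClosedImmersion (DerSch.chartImm U φ) := by
  have : IsClosedImmersion (Spec.map (CommRingCat.ofHom φ)) :=
    IsClosedImmersion.spec_of_surjective (CommRingCat.ofHom φ) hφ
  have : IsIso U.toSpecΓ := by rw [← hU.isoSpec_hom]; infer_instance
  unfold DerSch.chartImm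
  infer_instance

/-- A module with vanishing stalks vanishes. -/
theorem isZero_of_stalks {M : X.Modules} (h : ∀ x : X, IsZero ((stalk x).obj M)) : IsZero M := by
  have : IsIso (0 : M ⟶ M) := (GrothLib.OX.isIso_iff _).2 fun x => ⟨0, (h x).eq_of_src _ _, (h x).eq_of_src _ _⟩
  exact (IsZero.iff_id_eq_zero _).2 ((cancel_epi (0 : M ⟶ M)).1 (by simp))

/-- The point-wise content of relative pseudo-coherence: some chart at each point. -/
theorem exists_chart {f : X ⟶ Y} {m : ℤ} {K : DCoh.D X} (h : DerSch.IsPseudoCoherentRel f m K) (x : X) :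
    ∃ (U : X.Opens) (V : Y.Opens) (_ : U ≤ f ⁻¹ᵁ V) (n : ℕ) (φ : MvPolynomial (Fin n) Γ(Y, V) →+* Γ(X, U)),
      x ∈ U ∧ IsAffineOpen U ∧ IsAffineOpen V ∧ IsClosedImmersion (DerSch.chartImm U φ) ∧
        DerSch.ChartPC m K U V φ := by
  obtain ⟨-, 𝒱, hV, h𝒱⟩ := h
  have hx : f x ∈ (⨆ V ∈ 𝒱, (V : Y.Opens)) := by rw [hV]; trivial
  obtain ⟨V, hV'⟩ := Opens.mem_iSup.1 hx
  obtain ⟨hVm, hfx⟩ := Opens.mem_iSup.1 hV'
  obtain ⟨𝒰, hU, h𝒰⟩ := h𝒱 V hVm
  have hx' : x ∈ (⨆ U ∈ 𝒰, (U : X.Opens)) := by rw [hU]; exact hfx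
  obtain ⟨U, hU'⟩ := Opens.mem_iSup.1 hx'
  obtain ⟨hUm, hxU⟩ := Opens.mem_iSup.1 hU'
  have hle : (U : X.Opens) ≤ f ⁻¹ᵁ (V : Y.Opens) := hU ▸ le_iSup₂ (f := fun W (_ : W ∈ 𝒰) => (W : X.Opens)) U hUm
  obtain ⟨n, φ, hφ, hpc⟩ := h𝒰 U hUm hle
  exact ⟨U, V, hle, n, φ, hxU, U.2, V.2, isClosedImmersion_chartImm U.2 hφ.1, hpc⟩

variable {U Z : Scheme.{u}} (i : U ⟶ Z) [IsClosedImmersion i]

/-- Homology commutes with direct image along a closed immersion. -/
theorem nonempty_homology_pushCx (C : CochainComplex U.Modules ℤ) (k : ℤ) :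
    Nonempty (((DerSch.pushCx i).obj C).homology k ≅ (Scheme.Modules.pushforward i).obj (C.homology k)) := by
  have : (Scheme.Modules.pushforward i).Additive :=
    (Scheme.Modules.pullbackPushforwardAdjunction i).right_adjoint_additive
  have := preservesHomology_pushforward i
  exact ⟨(C.sc k).mapHomologyIso (Scheme.Modules.pushforward i)⟩

/-- Local cohomological bounds descend along a closed immersion. -/
theorem isZero_stalk_of_push {C : CochainComplex U.Modules ℤ} {k : ℤ} {y : U}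
    (h : IsZero ((stalk (i y)).obj (((DerSch.pushCx i).obj C).homology k))) :
    IsZero ((stalk y).obj (C.homology k)) := by
  obtain ⟨e⟩ := nonempty_homology_pushCx i C k
  have h' : IsZero ((ModuleCat.restrictScalars (i.stalkMap y).hom).obj ((stalk y).obj (C.homology k))) :=
    h.of_iso (((stalk (i y)).mapIso e ≪≫ (pushStalkIso i y).app (C.homology k)).symm)
  have := ModuleCat.subsingleton_of_isZero h'
  have : Subsingleton ((stalk y).obj (C.homology k)) := this
  exact ModuleCat.isZero_of_subsingleton _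

theorem exists_bound_of_chart {m : ℤ} {C : CochainComplex U.Modules ℤ}
    (h : DCoh.IsPseudoCoherentD m (DCoh.toD Z ((DerSch.pushCx i).obj C))) (y : U) :
    ∃ (W : U.Opens) (b : ℤ), y ∈ W ∧ ∀ z ∈ W, ∀ k, b < k → IsZero ((stalk z).obj (C.homology k)) := by
  obtain ⟨V, hy, hV⟩ := Approx.exists_open h (i y)
  obtain ⟨b, hb⟩ := exists_isLE_of_approx hV
  refine ⟨i ⁻¹ᵁ V, b, hy, fun z hz k hk => isZero_stalk_of_push i ?_⟩
  have hz0 := DerivedCategory.isZero_of_isLE ((resD V.ι).obj (DerivedCategory.Q.obj ((DerSch.pushCx i).obj C))) b k hk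
  obtain ⟨e⟩ := nonempty_hd_resD V.ι (DerivedCategory.Q.obj ((DerSch.pushCx i).obj C)) k
  have hzero : IsZero ((Scheme.Modules.restrictFunctor V.ι).obj (((DerSch.pushCx i).obj C).homology k)) :=
    hz0.of_iso ((Scheme.Modules.restrictFunctor V.ι).mapIso (hdIso _ k).symm ≪≫ e.symm)
  rw [IsZero.iff_id_eq_zero, ← CategoryTheory.Functor.map_id]
  exact stalk_map_zero_of_restrictZero V.ι (𝟙 _) (⟨i z, hz⟩ : V.toScheme) (hzero.eq_of_src _ _)

theorem isQCoh_of_chart {C : CochainComplex U.Modules ℤ} {m : ℤ}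
    (h : DCoh.IsPseudoCoherentD m (DCoh.toD Z ((DerSch.pushCx i).obj C))) {k : ℤ} (hk : m < k) :
    Coh.IsQCoh (C.homology k) := by
  obtain ⟨e⟩ := nonempty_homology_pushCx i C k
  have : ((Scheme.Modules.pushforward i).obj (C.homology k)).IsQuasicoherent :=
    @QCoh.isQuasicoherent_of_iso _ _ _ ((hdIso ((DerSch.pushCx i).obj C) k) ≪≫ e)
      (isQCoh_HD_of_pseudoCoherent h hk)
  exact QCoh.isQuasicoherent_of_pushforward i (C.homology k)

end GrothLib.KSix19
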