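import Groth.Agent.Lib.OX.PerfectCriterion
import Groth.Agent.Lib.OX.LocalTensor
import Groth.Agent.Lib.OX.PCohQCoh
import Groth.Prelude.Def_KSix

/-! # Flat amplitude is local; perfect amplitude through pseudo-coherence and flat amplitude -/

set_option autoImplicit false
set_option maxHeartbeats 800000
universe u

open CategoryTheory CategoryTheory.Limits AlgebraicGeometry HomologicalComplex

attribute [local instance] HasDerivedCategory.standard

namespace GrothLib.KSix19

open GrothLib.OX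

variable {X : Scheme.{u}}

/-- Restriction commutes with tensoring by a module. -/
noncomputable def resTensorModIso {U : Scheme.{u}} (j : U ⟶ X) [IsOpenImmersion j] (G : X.Modules) :
    (DCoh.tensorBi (X := X)).flip.obj G ⋙ Scheme.Modules.pullback j ≅
      Scheme.Modules.pullback j ⋙ (DCoh.tensorBi (X := U)).flip.obj ((Scheme.Modules.pullback j).obj G) :=
  NatIso.ofComponents (fun M => pullTensorIso j M G) (fun a => pullTensorIso_natural₁ j a G)

/-- The local computation. -/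
theorem isZero_stalk_of_res {U : Scheme.{u}} (j : U ⟶ X) [IsOpenImmersion j] {P : CochainComplex X.Modules ℤ}
    {K : DCoh.D X} (e : DerivedCategory.Q.obj P ≅ K) (hP : DCoh.IsKFlat P) (G : X.Modules) (y : U) {a b : ℤ}
    (h : DCoh.HasFlatAmplitudeIn a b ((resD j).obj K)) (i : ℤ) (hi : i < a ∨ b < i) :
    IsZero ((stalk (j y)).obj (((tensorModCx G).obj P).homology i)) := by
  obtain ⟨E, hE, hEflat, ⟨eE⟩⟩ := h
  let G' : U.Modules := (Scheme.Modules.pullback j).obj G
  have := hasLTensorMod G'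
  have hEK : DCoh.IsKFlat E := isKFlat_of_bounded_above E b (fun n hn => hE n (Or.inr hn)) hEflat
  obtain ⟨w₁⟩ := hd_ltensor G' E hEK eE i
  let P' : CochainComplex U.Modules ℤ := (resCx j).obj P
  have hP' : DCoh.IsKFlat P' := isKFlat_resCx j hP
  let eP : DerivedCategory.Q.obj P' ≅ (resD j).obj K := ((resDFac j).app P).symm ≪≫ (resD j).mapIso e
  obtain ⟨w₂⟩ := hd_ltensor G' P' hP' eP i
  have hz : IsZero (((tensorModCx G').obj P').homology i) :=
    (isZero_homology_map ((DCoh.tensorBi (X := U)).flip.obj G') E i (hE i hi)).of_iso (w₂.symm ≪≫ w₁)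
  let T : CochainComplex X.Modules ℤ := (tensorModCx G).obj P
  let c₁ : (resCx j).obj T ≅ (pullCxF j).obj T := (resPullCxIso j).app T
  let c₂ : (pullCxF j).obj T ≅ (tensorModCx G').obj ((pullCxF j).obj P) :=
    (NatIso.mapHomologicalComplex (resTensorModIso j G) (ComplexShape.up ℤ)).app P
  let c₃ : (tensorModCx G').obj P' ≅ (tensorModCx G').obj ((pullCxF j).obj P) :=
    (tensorModCx G').mapIso ((resPullCxIso j).app P)
  let c : (resCx j).obj T ≅ (tensorModCx G').obj P' := c₁ ≪≫ c₂ ≪≫ c₃.symm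
  have hz' : IsZero (((resCx j).obj T).homology i) :=
    hz.of_iso ((homologyFunctor U.Modules (ComplexShape.up ℤ) i).mapIso c)
  have hz'' : IsZero ((Scheme.Modules.restrictFunctor j).obj (T.homology i)) :=
    hz'.of_iso ((T.sc i).mapHomologyIso (Scheme.Modules.restrictFunctor j)).symm
  rw [IsZero.iff_id_eq_zero, ← CategoryTheory.Functor.map_id]
  exact stalk_map_zero_of_restrictZero j (𝟙 (T.homology i)) y (hz''.eq_of_src _ _)

/-- Flat amplitude is local on the scheme. -/
theorem flatAmplitude_of_locally {a b : ℤ} (hab : a ≤ b) {K : DCoh.D X}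
    (h : Locally (fun _ L => DCoh.HasFlatAmplitudeIn a b L) K) : DCoh.HasFlatAmplitudeIn a b K := by
  obtain ⟨P, q, hP, hflat, hq, -⟩ := exists_kflat_resolution (DerivedCategory.Q.objPreimage K)
  have : IsIso (DerivedCategory.Q.map q) := (DerivedCategory.isIso_Q_map_iff_quasiIso _ q).2 hq
  let e : DerivedCategory.Q.obj P ≅ K :=
    asIso (DerivedCategory.Q.map q) ≪≫ DerivedCategory.Q.objObjPreimageIso K
  obtain ⟨E', h1, h2, ⟨e'⟩⟩ := flatAmplitude_of_vanish hP hflat hab fun G i hi => by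
    have hs : ∀ x : X, IsZero ((stalk x).obj (((tensorModCx G).obj P).homology i)) := fun x => by
      obtain ⟨U, j, hj, ⟨y, rfl⟩, hU⟩ := h x
      obtain ⟨E, hE, hEflat, ⟨eE⟩⟩ := hU
      exact isZero_stalk_of_res j e hP G y ⟨E, hE, hEflat, ⟨eE⟩⟩ i hi
    have : IsIso (0 : ((tensorModCx G).obj P).homology i ⟶ ((tensorModCx G).obj P).homology i) :=
      (isIso_iff _).2 fun x => ⟨0, (hs x).eq_of_src _ _, (hs x).eq_of_src _ _⟩
    exact (IsZero.iff_id_eq_zero _).2 ((cancel_epi (0 : ((tensorModCx G).obj P).homology i ⟶ _)).1 (by simp))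
  exact ⟨E', h1, h2, ⟨e' ≪≫ e⟩⟩

/-- Perfect with amplitude `[m, n]`, locally. -/
def StrictIn (m n : ℤ) {U : Scheme.{u}} (L : DCoh.D U) : Prop :=
  ∃ E : CochainComplex U.Modules ℤ, DCoh.VanishesOutside E m n ∧ (∀ i, FlatMod.IsFinLocFree (E.X i)) ∧
    Nonempty (DerivedCategory.Q.obj E ≅ L)

theorem strictIn_of_iso {m n : ℤ} {U : Scheme.{u}} {A B : DCoh.D U} (h : StrictIn m n A) (e : A ≅ B) :
    StrictIn m n B := by
  obtain ⟨E, h1, h2, ⟨q⟩⟩ := h
  exact ⟨E, h1, h2, ⟨q ≪≫ e⟩⟩

theorem hasPerfectAmplitudeIn_iff {m n : ℤ} {K : DCoh.D X} :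
    KSix.HasPerfectAmplitudeIn m n K ↔ Locally (fun _ => StrictIn m n) K := by
  refine ⟨fun h x => ?_, fun h x => ?_⟩
  · obtain ⟨V, hx, hV⟩ := h x
    let F := DerivedCategory.Q.objPreimage K
    let e : DerivedCategory.Q.obj F ≅ K := DerivedCategory.Q.objObjPreimageIso K
    obtain ⟨E, hE, hfl, ⟨q⟩⟩ := hV F ⟨e⟩
    exact ⟨V.toScheme, V.ι, inferInstance, ⟨⟨x, hx⟩, rfl⟩, E, hE, hfl,
      ⟨q.symm ≪≫ ((resDFac V.ι).app F).symm ≪≫ (resD V.ι).mapIso e⟩⟩
  · obtain ⟨U, j, hj, hx, E, hE, hfl, ⟨q⟩⟩ := h x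
    let k := j.isoOpensRange.inv
    have hιj : k ≫ j = j.opensRange.ι := by
      rw [Iso.inv_comp_eq, Scheme.Hom.isoOpensRange_hom_ι]
    refine ⟨j.opensRange, hx, fun F ⟨e⟩ => ⟨(resCx k).obj E,
      fun i hi => (Scheme.Modules.restrictFunctor k).map_isZero (hE i hi),
      fun i => isFinLocFree_restrict k (hfl i), ⟨?_⟩⟩⟩
    exact (((resDFac k).app E).symm ≪≫ (resD k).mapIso q ≪≫ ((nonempty_resD_comp k j K).some.symm ≪≫
      (nonempty_resD_congr hιj K).some ≪≫ (resD j.opensRange.ι).mapIso e.symm ≪≫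
      (resDFac j.opensRange.ι).app F)).symm

/-- A strictly perfect complex with cohomology vanishing above `n` and terms vanishing below `m ≤ n`. -/
theorem strictIn_of_strictlyPerfect {m n : ℤ} (hmn : m ≤ n) {E : CochainComplex X.Modules ℤ}
    (hE : DCoh.IsStrictlyPerfect E) (hm : ∀ i, i < m → IsZero (E.X i)) (hn : ∀ i, n < i → E.ExactAt i) :
    StrictIn m n (DerivedCategory.Q.obj E) := by
  have : E.IsLE n := (E.isLE_iff n).2 hn
  refine ⟨E.truncLE n, fun i hi => ?_, fun i => ?_, ⟨asIso (DerivedCategory.Q.map (E.ιTruncLE n))⟩⟩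
  · rcases hi with hi | hi
    · exact (hm i hi).of_iso (E.truncLEXIso n i (by omega))
    · exact CochainComplex.isZero_of_isStrictlyLE _ n i hi
  · rcases lt_trichotomy i n with hi | rfl | hi
    · exact DCoh.isFinLocFree_of_iso (E.truncLEXIso n i hi).symm (hE.2 i)
    · exact DCoh.isFinLocFree_of_iso (E.truncLEXIsoCycles i).symm (isFinLocFree_cycles hE i hn)
    · exact DCoh.isFinLocFree_of_isZero (CochainComplex.isZero_of_isStrictlyLE _ n i hi)

theorem strictIn_of_approx {E F : CochainComplex X.Modules ℤ} (β : E ⟶ F) {a b : ℤ} (hab : a ≤ b)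
    (hE : DCoh.IsStrictlyPerfect E) (hF : DCoh.VanishesOutside F a b) (hflat : ∀ i, FlatMod.IsFlat (F.X i))
    (hβ : DerCat.Good (DerivedCategory.Q.map β) (a - 1)) : StrictIn a b (DerivedCategory.Q.obj F) := by
  have hC : ∀ i, a - 1 ≤ i → IsZero ((CochainComplex.mappingCone β).homology i) := fun i hi =>
    have : (DerivedCategory.Q.obj (CochainComplex.mappingCone β)).IsLE (a - 1 - 1) :=
      (DerCat.good_iff_isLE (DerivedCategory.mappingCone_triangle_distinguished β) (a - 1)).1 hβ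
    (DerivedCategory.isZero_of_isLE (DerivedCategory.Q.obj (CochainComplex.mappingCone β)) (a - 1 - 1) i
      (by omega)).of_iso (hdIso _ i).symm
  have hQ := flat_opcycles_of_cone β a b hE hF hflat hC
  obtain ⟨⟨p, q, hpq⟩, hEfl⟩ := hE
  have : F.IsStrictlyGE a := (F.isStrictlyGE_iff a).2 fun i hi => hF i (Or.inl hi)
  let F₀ := fun i => DerivedCategory.homologyFunctorFactors X.Modules i
  have : QuasiIso (CochainComplex.truncGEMap β a) := (CochainComplex.quasiIso_truncGEMap_iff β a).2 fun i hi =>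
    (quasiIsoAt_iff_isIso_homologyMap β i).2 (((MorphismProperty.isomorphisms _).arrow_mk_iso_iff
      (Arrow.isoMk ((F₀ i).app E) ((F₀ i).app F) ((F₀ i).hom.naturality β).symm)).1 (hβ.1 i (by omega)))
  let e : DerivedCategory.Q.obj (E.truncGE a) ≅ DerivedCategory.Q.obj F :=
    asIso (DerivedCategory.Q.map (CochainComplex.truncGEMap β a)) ≪≫
      (asIso (DerivedCategory.Q.map (F.πTruncGE a))).symm
  refine strictIn_of_iso (strictIn_of_strictlyPerfect hab ⟨⟨a, max a q, fun i hi => ?_⟩, fun i => ?_⟩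
    (fun i hi => CochainComplex.isZero_of_isStrictlyGE _ a i hi) fun i hi => ?_) e
  · rcases hi with hi | hi
    · exact CochainComplex.isZero_of_isStrictlyGE _ a i hi
    · exact (hpq i (Or.inr (by omega))).of_iso (E.truncGEXIso a i (by omega))
  · rcases lt_trichotomy i a with hi | rfl | hi
    · exact DCoh.isFinLocFree_of_isZero (CochainComplex.isZero_of_isStrictlyGE _ a i hi)
    · exact DCoh.isFinLocFree_of_iso
        ((IsColimit.coconePointUniqueUpToIso (cokernelIsCokernel (E.d (i - 1) i))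
          (E.opcyclesIsCokernel (i - 1) i (by simp))) ≪≫ (E.truncGEXIsoOpcycles i).symm)
        (isFinLocFree_cokernel_of_flat _ (hEfl _) (hEfl _) hQ)
    · exact DCoh.isFinLocFree_of_iso (E.truncGEXIso a i hi).symm (hEfl i)
  · rw [exactAt_iff_isZero_homology]
    have hFz : IsZero (F.homology i) :=
      (exactAt_iff_isZero_homology _ i).1 (ExactAt.of_isZero (hF i (Or.inr hi)))
    exact hFz.of_iso ((hdIso _ i).symm ≪≫ (DerivedCategory.homologyFunctor X.Modules i).mapIso e ≪≫ hdIso _ i)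

/-- Pseudo-coherence and flat amplitude give perfect amplitude. -/
theorem perfectAmplitude_of_flatAmplitude {m n : ℤ} (hmn : m ≤ n) {K : DCoh.D X}
    (h1 : DCoh.HasFlatAmplitudeIn m n K) (h2 : DCoh.IsPseudoCoherentD (m - 1) K) :
    KSix.HasPerfectAmplitudeIn m n K := by
  obtain ⟨F, hF, hflat, ⟨e⟩⟩ := h1
  refine hasPerfectAmplitudeIn_iff.2 (locally_comp strictIn_of_iso fun x => ?_)
  obtain ⟨U, j, hj, ⟨y, rfl⟩, hU⟩ := isPseudoCoherentD_iff.1 h2 x
  obtain ⟨E, α, hE, hα⟩ := hU.of_iso ((resD j).mapIso e.symm ≪≫ (resDFac j).app F)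
  obtain ⟨V, β, hy, hβ⟩ := exists_resD_chain hE α y
  have hβ' : DerivedCategory.Q.map β = (resDFac V.ι).inv.app E ≫ (resD V.ι).map α ≫ (resDFac V.ι).hom.app _ := by
    rw [hβ]
    simp
  have hgood : DerCat.Good (DerivedCategory.Q.map β) (m - 1) := by
    rw [hβ']
    exact (DerCat.good_of_isIso _ _).comp ((hα.map _).comp (DerCat.good_of_isIso _ _))
  have hF' : DCoh.VanishesOutside ((resCx V.ι).obj ((resCx j).obj F)) m n := fun i hi =>
    (Scheme.Modules.restrictFunctor V.ι).map_isZero ((Scheme.Modules.restrictFunctor j).map_isZero (hF i hi))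
  have hfl' : ∀ i, FlatMod.IsFlat (((resCx V.ι).obj ((resCx j).obj F)).X i) :=
    fun i => flat_restrict V.ι (flat_restrict j (hflat i))
  have hS := strictIn_of_approx β hmn (strictlyPerfect_resCx V.ι hE) hF' hfl' hgood
  exact ⟨U, j, hj, y, rfl, V.toScheme, V.ι, inferInstance, ⟨⟨y, hy⟩, rfl⟩,
    strictIn_of_iso hS (((resDFac V.ι).app _).symm ≪≫ (resD V.ι).mapIso
      (((resDFac j).app F).symm ≪≫ (resD j).mapIso e))⟩

end GrothLib.KSix19
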