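import Groth.Agent.Lib.KSix19.PushPC

/-! # Direct images along closed immersions, degree by degree -/

set_option autoImplicit false
set_option maxHeartbeats 800000
set_option backward.isDefEq.respectTransparency false
universe u

open CategoryTheory CategoryTheory.Limits CategoryTheory.Pretriangulated AlgebraicGeometry HomologicalComplex

attribute [local instance] HasDerivedCategory.standard

namespace GrothLib.KSix19

open GrothLib.OX

/-- A module in degree zero is `r`-pseudo-coherent. -/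
def ModPCm {Y : Scheme.{u}} (M : Y.Modules) (r : ℤ) : Prop :=
  DCoh.IsPseudoCoherentD r (DerivedCategory.Q.obj ((single Y.Modules (ComplexShape.up ℤ) 0).obj M))

theorem modPCm_of_iso {Y : Scheme.{u}} {M N : Y.Modules} (e : M ≅ N) {r : ℤ} (h : ModPCm M r) : ModPCm N r :=
  isPseudoCoherentD_of_iso h (DerivedCategory.Q.mapIso ((single Y.Modules (ComplexShape.up ℤ) 0).mapIso e))

theorem modPCm_restrict {Y W : Scheme.{u}} (j : W ⟶ Y) [IsOpenImmersion j] {M : Y.Modules} {r : ℤ}
    (h : ModPCm M r) : ModPCm ((Scheme.Modules.restrictFunctor j).obj M) r := by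
  obtain ⟨e⟩ := nonempty_resD_single j M
  exact isPseudoCoherentD_of_iso (isPseudoCoherentD_resD' j h) e

theorem modPCm_sigma {Y : Scheme.{u}} {M : Y.Modules} {r : ℤ} (h : ModPCm M r) :
    ∀ n : ℕ, ModPCm (∐ fun _ : Fin n => M) r
  | 0 => modPC_of_isZero (IsZero.of_iso (isZero_zero _) (HasZeroObject.zeroIsoInitial ≪≫
      (IsInitial.uniqueUpToIso initialIsInitial
        (IsInitial.ofUniqueHom (fun Z => Sigma.desc fun k : Fin 0 => k.elim0)
          (fun Z g => Sigma.hom_ext _ _ fun k : Fin 0 => k.elim0)))).symm) r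
  | n + 1 => by
    let e : (∐ fun _ : Fin (n + 1) => M) ≅ M ⊞ (∐ fun _ : Fin n => M) :=
      { hom := Sigma.desc (Fin.cases biprod.inl fun k => Sigma.ι (fun _ : Fin n => M) k ≫ biprod.inr)
        inv := biprod.desc (Sigma.ι (fun _ : Fin (n + 1) => M) 0)
          (Sigma.desc fun k => Sigma.ι (fun _ : Fin (n + 1) => M) k.succ)
        hom_inv_id := Sigma.hom_ext _ _ fun k => by
          refine Fin.cases ?_ (fun k => ?_) k <;> simp
        inv_hom_id := by
          refine biprod.hom_ext' _ _ ?_ ?_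
          · simp
          · refine Sigma.hom_ext _ _ fun k => ?_
            simp }
    let S := ShortComplex.mk (biprod.inl : M ⟶ M ⊞ (∐ fun _ : Fin n => M)) biprod.snd biprod.inl_snd
    have hS : S.ShortExact :=
      ShortComplex.Splitting.shortExact ⟨biprod.fst, biprod.inr, biprod.inl_fst, biprod.inr_snd, biprod.total⟩
    exact modPCm_of_iso e.symm ((isPseudoCoherentD_triangle r (DerivedCategory.triangleOfSES_distinguished
      (hS.map_of_exact (single Y.Modules (ComplexShape.up ℤ) 0)))).2.1 h (modPCm_sigma h n))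

/-- A single term in degree `b`. -/
theorem single_shift_pcm {Y : Scheme.{u}} {M : Y.Modules} {r : ℤ} (h : ModPCm M r) (b : ℤ) :
    DCoh.IsPseudoCoherentD (r + b) (DerivedCategory.Q.obj ((single Y.Modules (ComplexShape.up ℤ) b).obj M)) :=
  isPseudoCoherentD_of_iso (isPseudoCoherentD_shift h (-b) (r + b) (by omega))
    ((((DerivedCategory.Q (C := Y.Modules)).commShiftIso (-b)).app _).symm ≪≫
      DerivedCategory.Q.mapIso (((CochainComplex.singleFunctors Y.Modules).shiftIso (-b) b 0 (by omega)).app M))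

variable {U Z : Scheme.{u}} (i : U ⟶ Z)

/-- The direct image of the structure sheaf is `r`-pseudo-coherent. -/
abbrev PushUnitPCm (r : ℤ) : Prop := ModPCm ((Scheme.Modules.pushforward i).obj (Coh.structureModule U)) r

theorem pushUnitPCm_restrict {r : ℤ} (V : Z.Opens) (h : PushUnitPCm i r) : PushUnitPCm (i ∣_ V) r :=
  modPCm_of_iso ((pushRestrictIso i V).app (Coh.structureModule U) ≪≫
    (Scheme.Modules.pushforward (i ∣_ V)).mapIso
      ((Scheme.Modules.restrictFunctorIsoPullback (i ⁻¹ᵁ V).ι).app _ ≪≫ pullUnitIso (i ⁻¹ᵁ V).ι))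
    (modPCm_restrict V.ι h)

/-- A surjection from a free module onto the top cohomology lifts locally to a distinguished triangle. -/
theorem exists_top_triangle {X : Scheme.{u}} {K : DCoh.D X} {b : ℤ} (hKb : K.IsLE b) {n : ℕ}
    (g : FlatMod.freeMod X n ⟶ DCoh.HD K b) [Epi g] (y : X) :
    ∃ (W : X.Opens) (Tc : DCoh.D W.toScheme)
      (φ : DerivedCategory.Q.obj ((single W.toScheme.Modules (ComplexShape.up ℤ) b).obj
        ((Scheme.Modules.restrictFunctor W.ι).obj (FlatMod.freeMod X n))) ⟶ (resD W.ι).obj K)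
      (v : (resD W.ι).obj K ⟶ Tc) (w : Tc ⟶ (DerivedCategory.Q.obj ((single W.toScheme.Modules (ComplexShape.up ℤ) b).obj
        ((Scheme.Modules.restrictFunctor W.ι).obj (FlatMod.freeMod X n))))⟦(1 : ℤ)⟧),
      y ∈ W ∧ Triangle.mk φ v w ∈ distTriang _ ∧ Tc.IsLE (b - 1) := by
  let C₀ := DerivedCategory.Q.objPreimage K
  let e₀ : DerivedCategory.Q.obj C₀ ≅ K := DerivedCategory.Q.objObjPreimageIso K
  have hLE : C₀.IsLE b := (C₀.isLE_iff b).2 fun k hk => by
    rw [exactAt_iff_isZero_homology]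
    exact (DerivedCategory.isZero_of_isLE K b k hk).of_iso ((hdIso C₀ k).symm ≪≫
      (DerivedCategory.homologyFunctor _ k).mapIso e₀)
  let C := C₀.truncLE b
  let e : DerivedCategory.Q.obj C ≅ K := asIso (DerivedCategory.Q.map (C₀.ιTruncLE b)) ≪≫ e₀
  let π : C.cycles b ⟶ DCoh.HD K b :=
    C.homologyπ b ≫ (hdIso C b).inv ≫ (DerivedCategory.homologyFunctor _ b).map e.hom
  have : Epi (C.homologyπ b) := inferInstanceAs (Epi (C.sc b).homologyπ)
  have : Epi π := @epi_comp _ _ _ _ _ _ inferInstance _ inferInstance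
  obtain ⟨W, l, hyW, hl⟩ := exists_local_lift_free π g y
  let R := Scheme.Modules.restrictFunctor W.ι
  let F := R.obj (FlatMod.freeMod X n)
  let D := (resCx W.ι).obj C
  have hd : ∀ k, b + 1 = k → (l ≫ R.map (C.iCycles b)) ≫ D.d b k = 0 := fun k _ => by
    change (l ≫ R.map (C.iCycles b)) ≫ R.map (C.d b k) = 0
    rw [Category.assoc, ← R.map_comp, C.iCycles_d, Functor.map_zero, comp_zero]
  let φ : (single W.toScheme.Modules (ComplexShape.up ℤ) b).obj F ⟶ D :=
    HomologicalComplex.mkHomFromSingle (l ≫ R.map (C.iCycles b)) hd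
  let eD : DerivedCategory.Q.obj D ≅ (resD W.ι).obj K :=
    ((resDFac W.ι).app C).symm ≪≫ (resD W.ι).mapIso e
  have hDz : ∀ k, b < k → IsZero (D.X k) := fun k hk =>
    (Scheme.Modules.restrictFunctor W.ι).map_isZero (CochainComplex.isZero_of_isStrictlyLE C b k hk)
  have hgood : DerCat.Good (DerivedCategory.Q.map φ) b := by
    let F₀ := fun k => DerivedCategory.homologyFunctorFactors W.toScheme.Modules k
    refine ⟨fun k hk => ?_, ?_⟩
    · have h1 : IsZero ((DerivedCategory.homologyFunctor _ k).obj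
          (DerivedCategory.Q.obj ((single W.toScheme.Modules (ComplexShape.up ℤ) b).obj F))) :=
        ((exactAt_iff_isZero_homology _ k).1 (ExactAt.of_isZero
          (isZero_single_obj_X _ b F k (by omega)))).of_iso ((F₀ k).app _)
      have h2 : IsZero ((DerivedCategory.homologyFunctor _ k).obj (DerivedCategory.Q.obj D)) :=
        ((exactAt_iff_isZero_homology _ k).1 (ExactAt.of_isZero (hDz k hk))).of_iso ((F₀ k).app _)
      exact ⟨0, h1.eq_of_src _ _, h2.eq_of_src _ _⟩
    · suffices Epi (homologyMap φ b) from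
        ((MorphismProperty.epimorphisms _).arrow_mk_iso_iff
          (Arrow.isoMk ((F₀ b).app _) ((F₀ b).app D) ((F₀ b).hom.naturality φ).symm)).2 this
      let s : F ⟶ ((single W.toScheme.Modules (ComplexShape.up ℤ) b).obj F).cycles b :=
        (singleObjCyclesSelfIso (ComplexShape.up ℤ) b F).inv
      let cD : D.cycles b ≅ R.obj (C.cycles b) := (C.sc b).mapCyclesIso R
      have hcD : cD.inv ≫ D.iCycles b = R.map (C.iCycles b) :=
        (Iso.inv_comp_eq _).2 ((C.sc b).mapCyclesIso_hom_iCycles R).symm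
      have hs : s ≫ cyclesMap φ b = l ≫ cD.inv := by
        rw [← cancel_mono (D.iCycles b), Category.assoc, cyclesMap_i, Category.assoc, hcD]
        simp [s, φ]
      let ρ : D.homology b ≅ R.obj (C.homology b) := (C.sc b).mapHomologyIso R
      have hρ : cD.inv ≫ D.homologyπ b ≫ ρ.hom = R.map (C.homologyπ b) := by
        rw [Iso.inv_comp_eq]
        exact homologyπ_mapHomologyIso (C.sc b) R
      have : Epi (l ≫ R.map (C.homologyπ b)) := by
        have h' : (l ≫ R.map (C.homologyπ b)) ≫ R.map ((hdIso C b).inv ≫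
            (DerivedCategory.homologyFunctor _ b).map e.hom) = R.map g := by
          rw [Category.assoc, ← R.map_comp]
          exact hl
        have : Epi ((l ≫ R.map (C.homologyπ b)) ≫ R.map ((hdIso C b).inv ≫
            (DerivedCategory.homologyFunctor _ b).map e.hom)) := by
          rw [h']; infer_instance
        have hh := @epi_comp _ _ _ _ _ _ this (inv (R.map ((hdIso C b).inv ≫
          (DerivedCategory.homologyFunctor _ b).map e.hom))) inferInstance
        rwa [Category.assoc _ (R.map _), IsIso.hom_inv_id, Category.comp_id] at hh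
      have h3 : (s ≫ ((single W.toScheme.Modules (ComplexShape.up ℤ) b).obj F).homologyπ b) ≫
          homologyMap φ b ≫ ρ.hom = l ≫ R.map (C.homologyπ b) := by
        rw [Category.assoc, homologyπ_naturality_assoc, reassoc_of% hs, hρ]
      have : Epi ((s ≫ ((single W.toScheme.Modules (ComplexShape.up ℤ) b).obj F).homologyπ b) ≫
          homologyMap φ b ≫ ρ.hom) := h3 ▸ this
      have : Epi (homologyMap φ b ≫ ρ.hom) :=
        epi_of_epi (s ≫ ((single W.toScheme.Modules (ComplexShape.up ℤ) b).obj F).homologyπ b) _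
      have hh := @epi_comp _ _ _ _ _ _ this ρ.inv inferInstance
      rwa [Category.assoc, ρ.hom_inv_id, Category.comp_id] at hh
  obtain ⟨Tc, v, w, hT, hT'⟩ := GrothLib.DerCat.exists_triangle_of_good hgood
  refine ⟨W, Tc, DerivedCategory.Q.map φ ≫ eD.hom, eD.inv ≫ v, w, hyW, ?_, hT'⟩
  exact isomorphic_distinguished _ hT _
    (Triangle.isoMk _ _ (Iso.refl _) eD.symm (Iso.refl _) (by simp) (by simp) (by simp))

variable [IsClosedImmersion i]

theorem pc_single_free {X : Scheme.{u}} (W : X.Opens) (n : ℕ) (b k : ℤ) :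
    DCoh.IsPseudoCoherentD k (DerivedCategory.Q.obj ((single W.toScheme.Modules (ComplexShape.up ℤ) b).obj
      ((Scheme.Modules.restrictFunctor W.ι).obj (FlatMod.freeMod X n)))) :=
  isPseudoCoherentD_of_isPerfect (isPerfect_iff.2 fun x => ⟨_, 𝟙 _, inferInstance, ⟨x, rfl⟩,
    Strict.restrict ⟨_, ⟨⟨b, b, fun q hq => isZero_single_obj_X _ b _ q (by omega)⟩, fun q => by
      by_cases hq : q = b
      · subst hq
        exact DCoh.isFinLocFree_of_iso (singleObjXSelf _ _ _).symm
          (isFinLocFree_restrict W.ι (isFinLocFree_freeMod _ n))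
      · exact DCoh.isFinLocFree_of_isZero (isZero_single_obj_X _ b _ q hq)⟩, ⟨Iso.refl _⟩⟩ (𝟙 _)⟩) k

/-- The direct image of free modules in degree `b`. -/
theorem pc_push_free {r : ℤ} (V : Z.Opens) (h : PushUnitPCm i r) (V' : V.toScheme.Opens) (n : ℕ) (b : ℤ) :
    DCoh.IsPseudoCoherentD (r + b) ((pushD ((i ∣_ V) ∣_ V')).obj
      (DerivedCategory.Q.obj ((single _ (ComplexShape.up ℤ) b).obj ((Scheme.Modules.restrictFunctor
        ((i ∣_ V) ⁻¹ᵁ V').ι).obj (FlatMod.freeMod (i ⁻¹ᵁ V).toScheme n))))) := by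
  let j := (i ∣_ V) ∣_ V'
  have hj : PushUnitPCm j r := pushUnitPCm_restrict _ V' (pushUnitPCm_restrict i V h)
  have hc : ModPCm ((Scheme.Modules.pushforward j).obj ((Scheme.Modules.restrictFunctor
      ((i ∣_ V) ⁻¹ᵁ V').ι).obj (FlatMod.freeMod (i ⁻¹ᵁ V).toScheme n))) r :=
    modPCm_of_iso ((PreservesCoproduct.iso (Scheme.Modules.pushforward j) _).symm ≪≫
      (Scheme.Modules.pushforward j).mapIso (DCoh.restrictFreeModIso _ n).symm) (modPCm_sigma hj n)
  exact isPseudoCoherentD_of_iso (single_shift_pcm hc b) ((pushDFac j _ ≪≫ DerivedCategory.Q.mapIso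
    ((singleMapHomologicalComplex (Scheme.Modules.pushforward j) (ComplexShape.up ℤ) b).app _)).symm)

/-- Boundedness passes to direct images. -/
theorem isLE_pushD {K : DCoh.D U} {b : ℤ} (hK : K.IsLE b) : ((pushD i).obj K).IsLE b :=
  (DerivedCategory.isLE_iff _ _).2 fun k hk => ((Scheme.Modules.pushforward i).map_isZero
    (DerivedCategory.isZero_of_isLE K b k hk)).of_iso
      (GrothLib.DerTrunc.nonempty_homology_mapDerivedCategory (Scheme.Modules.pushforward i) K k).some

theorem isLE_resD {X W : Scheme.{u}} (j : W ⟶ X) [IsOpenImmersion j] {K : DCoh.D X} {b : ℤ} (hK : K.IsLE b) :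
    ((resD j).obj K).IsLE b :=
  (DerivedCategory.isLE_iff _ _).2 fun k hk => ((Scheme.Modules.restrictFunctor j).map_isZero
    (DerivedCategory.isZero_of_isLE K b k hk)).of_iso (nonempty_hd_resD j K k).some

/-- **Direct image along a closed immersion, degree by degree.** -/
theorem isPseudoCoherentD_pushD_graded_aux (m r : ℤ) :
    ∀ (d : ℕ) {U Z : Scheme.{u}} (i : U ⟶ Z) [IsClosedImmersion i], PushUnitPCm i r → ∀ (K : DCoh.D U),
      K.IsLE (m - 1 + d) → (d = 0 ∨ r + (m - 1 + d) ≤ m) → DCoh.IsPseudoCoherentD m K →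
        DCoh.IsPseudoCoherentD m ((pushD i).obj K)
  | 0, U, Z, i, _, _, K, hK, _, _ => by
    have : K.IsLE (m - 1) := by simpa using hK
    have := isLE_pushD i this
    exact isPseudoCoherentD_iff.2 fun x => ⟨_, 𝟙 _, inferInstance, ⟨x, rfl⟩, (approx_of_isLE this).restrict (𝟙 _)⟩
  | d + 1, U, Z, i, _, h, K, hK, hr, hpc => by
    let b : ℤ := m + d
    have hb : m - 1 + ((d + 1 : ℕ) : ℤ) = b := by simp only [b]; push_cast; omega
    rw [hb] at hK hr
    have hr' : r + b ≤ m := by omega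
    refine isPseudoCoherentD_iff.2 (Locally.of_local Approx.of_iso fun z => ?_)
    by_cases hz : z ∈ Set.range i
    · obtain ⟨y, rfl⟩ := hz
      obtain ⟨U₁, n, p, hy, hp⟩ := exists_free_epi_top (isPseudoCoherentD_mono hpc (show m ≤ b by omega))
        (fun k hk => DerivedCategory.isZero_of_isLE K b k hk) y
      obtain ⟨V, rfl⟩ := exists_preimage_eq i (U' := U₁)
      let K' := (resD (i ⁻¹ᵁ V).ι).obj K
      obtain ⟨e₁⟩ := nonempty_hd_resD (i ⁻¹ᵁ V).ι K b
      let g : FlatMod.freeMod (i ⁻¹ᵁ V).toScheme n ⟶ DCoh.HD K' b := p ≫ e₁.inv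
      have : Epi g := @epi_comp _ _ _ _ _ _ hp _ inferInstance
      obtain ⟨W, Tc, φ, v, w, hyW, hT, hTle⟩ := exists_top_triangle (isLE_resD _ hK) g ⟨y, hy⟩
      obtain ⟨V', hV'⟩ := exists_preimage_eq (i ∣_ V) (U' := W)
      subst hV'
      have hTpc : DCoh.IsPseudoCoherentD m Tc := (isPseudoCoherentD_triangle m hT).1
        (pc_single_free _ _ _ _) (isPseudoCoherentD_resD' _ (isPseudoCoherentD_resD' _ hpc))
      have hTle' : Tc.IsLE (m - 1 + d) := by
        rw [show m - 1 + (d : ℤ) = b - 1 by simp only [b]; omega]; exact hTle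
      have hpT := isPseudoCoherentD_pushD_graded_aux m r d ((i ∣_ V) ∣_ V')
        (pushUnitPCm_restrict _ V' (pushUnitPCm_restrict i V h)) Tc hTle' (Or.inr (by omega)) hTpc
      have hpK := (isPseudoCoherentD_triangle m ((pushD ((i ∣_ V) ∣_ V')).map_distinguished _ hT)).2.1
        (isPseudoCoherentD_mono (pc_push_free i V h V' n b) hr') hpT
      obtain ⟨a₁⟩ := nonempty_resD_pushD i V K
      obtain ⟨a₂⟩ := nonempty_resD_pushD (i ∣_ V) V' K'
      obtain ⟨c⟩ := nonempty_resD_comp V'.ι V.ι ((pushD i).obj K)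
      have hpt : V.ι ((i ∣_ V) ⟨y, hy⟩) = i y := by
        rw [← Scheme.Hom.comp_apply, morphismRestrict_ι]; rfl
      refine ⟨_, V'.ι ≫ V.ι, inferInstance, ⟨⟨(i ∣_ V) ⟨y, hy⟩, hyW⟩, hpt⟩, isPseudoCoherentD_iff.1 ?_⟩
      exact isPseudoCoherentD_of_iso hpK ((c ≪≫ (resD V'.ι).mapIso a₁ ≪≫ a₂).symm)
    · let V : Z.Opens := ⟨(Set.range i)ᶜ, i.isClosedEmbedding.isClosed_range.isOpen_compl⟩
      have hV : i ⁻¹ᵁ V = ⊥ :=
        TopologicalSpace.Opens.ext (Set.eq_empty_of_forall_notMem fun y hy => hy ⟨y, rfl⟩)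
      exact ⟨V.toScheme, V.ι, inferInstance, ⟨⟨z, hz⟩, rfl⟩,
        isPseudoCoherentD_iff.1 (isPseudoCoherentD_pushD_outside i K V hV m)⟩

/-- **Direct image along a closed immersion, degree by degree.** -/
theorem isPseudoCoherentD_pushD_graded {r : ℤ} (h : PushUnitPCm i r) {m b : ℤ} {K : DCoh.D U} (hKb : K.IsLE b)
    (hr : r + b ≤ m) (hK : DCoh.IsPseudoCoherentD m K) : DCoh.IsPseudoCoherentD m ((pushD i).obj K) := by
  rcases lt_or_ge b m with hb | hb
  · refine isPseudoCoherentD_pushD_graded_aux m r 0 i h K ?_ (Or.inl rfl) hK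
    exact (DerivedCategory.isLE_iff _ _).2 fun k hk => DerivedCategory.isZero_of_isLE K b k (by simp at hk; omega)
  · refine isPseudoCoherentD_pushD_graded_aux m r (b - m + 1).toNat i h K ?_ (Or.inr (by omega)) hK
    rw [show m - 1 + ((b - m + 1).toNat : ℤ) = b by omega]; exact hKb

/-- **Descent along a closed immersion, degree by degree.** -/
theorem isPseudoCoherentD_of_pushD_graded_aux (m r : ℤ) :
    ∀ (d : ℕ) {U Z : Scheme.{u}} (i : U ⟶ Z) [IsClosedImmersion i], PushUnitPCm i r → ∀ (K : DCoh.D U),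
      K.IsLE (m - 1 + d) → (d = 0 ∨ r + (m - 1 + d) ≤ m + 1) → DCoh.IsPseudoCoherentD m ((pushD i).obj K) →
        DCoh.IsPseudoCoherentD m K
  | 0, U, Z, i, _, _, K, hK, _, _ => by
    have : K.IsLE (m - 1) := by simpa using hK
    exact isPseudoCoherentD_iff.2 fun x => ⟨_, 𝟙 _, inferInstance, ⟨x, rfl⟩, (approx_of_isLE this).restrict (𝟙 _)⟩
  | d + 1, U, Z, i, _, h, K, hK, hr, hpush => by
    let b : ℤ := m + d
    have hb : m - 1 + ((d + 1 : ℕ) : ℤ) = b := by simp only [b]; push_cast; omega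
    rw [hb] at hK hr
    have hr' : r + b ≤ m + 1 := by omega
    refine isPseudoCoherentD_iff.2 (Locally.of_local Approx.of_iso fun y => ?_)
    have hPK := isLE_pushD i hK
    obtain ⟨V, n, p, hy, hp⟩ := exists_free_epi_top (isPseudoCoherentD_mono hpush (show m ≤ b by omega))
      (fun k hk => DerivedCategory.isZero_of_isLE ((pushD i).obj K) b k hk) (i y)
    let i' := i ∣_ V
    let K' := (resD (i ⁻¹ᵁ V).ι).obj K
    have := faithful_push i'
    obtain ⟨e₁⟩ := nonempty_hd_resD (i ⁻¹ᵁ V).ι K b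
    let H := (Scheme.Modules.restrictFunctor (i ⁻¹ᵁ V).ι).obj (DCoh.HD K b)
    let p' : FlatMod.freeMod V.toScheme n ⟶ (Scheme.Modules.pushforward i').obj H :=
      p ≫ (Scheme.Modules.restrictFunctor V.ι).map
        (GrothLib.DerTrunc.nonempty_homology_mapDerivedCategory (Scheme.Modules.pushforward i) K b).some.hom ≫
        (pushRestrictIso i V).hom.app (DCoh.HD K b)
    have : Epi p' := @epi_comp _ _ _ _ _ p hp _ (@epi_comp _ _ _ _ _ _ inferInstance _ inferInstance)
    let adj := Scheme.Modules.pullbackPushforwardAdjunction i'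
    have : PreservesColimitsOfSize.{0, 0} (Scheme.Modules.pullback i') := adj.leftAdjoint_preservesColimits
    let g : FlatMod.freeMod (i ⁻¹ᵁ V).toScheme n ⟶ DCoh.HD K' b :=
      ((pullFreeModIso i' n).inv ≫ (Scheme.Modules.pullback i').map p' ≫ adj.counit.app H) ≫ e₁.inv
    have : Epi g := @epi_comp _ _ _ _ _ _ (@epi_comp _ _ _ _ _ _ inferInstance _
      (@epi_comp _ _ _ _ _ _ inferInstance _ (adj.counit_epi_of_R_faithful H))) _ inferInstance
    obtain ⟨W, Tc, φ, v, w, hyW, hT, hTle⟩ := exists_top_triangle (isLE_resD _ hK) g ⟨y, hy⟩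
    obtain ⟨V', hV'⟩ := exists_preimage_eq i' (U' := W)
    subst hV'
    obtain ⟨a₁⟩ := nonempty_resD_pushD i V K
    obtain ⟨a₂⟩ := nonempty_resD_pushD i' V' K'
    have hpK := isPseudoCoherentD_of_iso (isPseudoCoherentD_resD' V'.ι
      (isPseudoCoherentD_of_iso (isPseudoCoherentD_resD' V.ι hpush) a₁)) a₂
    have hpT := (isPseudoCoherentD_triangle m ((pushD (i' ∣_ V')).map_distinguished _ hT)).1
      (isPseudoCoherentD_mono (pc_push_free i V h V' n b) hr') hpK
    have hTle' : Tc.IsLE (m - 1 + d) := by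
      rw [show m - 1 + (d : ℤ) = b - 1 by simp only [b]; omega]; exact hTle
    have hTpc := isPseudoCoherentD_of_pushD_graded_aux m r d (i' ∣_ V')
      (pushUnitPCm_restrict _ V' (pushUnitPCm_restrict i V h)) Tc hTle' (Or.inr (by omega)) hpT
    have hK'' := (isPseudoCoherentD_triangle m hT).2.1 (pc_single_free _ _ _ m) hTpc
    refine ⟨_, (i' ⁻¹ᵁ V').ι ≫ (i ⁻¹ᵁ V).ι, inferInstance, ⟨⟨⟨y, hy⟩, hyW⟩, rfl⟩, isPseudoCoherentD_iff.1 ?_⟩
    exact isPseudoCoherentD_of_iso hK'' (nonempty_resD_comp (i' ⁻¹ᵁ V').ι (i ⁻¹ᵁ V).ι K).some.symm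

/-- **Descent along a closed immersion, degree by degree.** -/
theorem isPseudoCoherentD_of_pushD_graded {r : ℤ} (h : PushUnitPCm i r) {m b : ℤ} {K : DCoh.D U}
    (hKb : K.IsLE b) (hr : r + b ≤ m + 1) (hK : DCoh.IsPseudoCoherentD m ((pushD i).obj K)) :
    DCoh.IsPseudoCoherentD m K := by
  rcases lt_or_ge b m with hb | hb
  · refine isPseudoCoherentD_of_pushD_graded_aux m r 0 i h K ?_ (Or.inl rfl) hK
    exact (DerivedCategory.isLE_iff _ _).2 fun k hk => DerivedCategory.isZero_of_isLE K b k (by simp at hk; omega)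
  · refine isPseudoCoherentD_of_pushD_graded_aux m r (b - m + 1).toNat i h K ?_ (Or.inr (by omega)) hK
    rw [show m - 1 + ((b - m + 1).toNat : ℤ) = b by omega]; exact hKb

end GrothLib.KSix19
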