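import Groth.Agent.Lib.LCI6.KoszulPerfect

/-! # The Koszul resolution of a quotient by a Koszul regular sequence -/

universe u

open CategoryTheory CategoryTheory.Limits GrothLib.KoszulColon GrothLib.LCI6

attribute [local instance] HasDerivedCategory.standard

namespace GrothLib.KSix19

/-- The quotient by a Koszul regular sequence is perfect. -/
theorem exists_koszul_res {A : Type u} [CommRing A] (l : List A) (hl : LCI.IsKoszulRegularSeq A l) :
    ∃ E : DRing.Cx A, DRing.VanishesOutside E (-(l.length : ℤ)) 0 ∧ DRing.TermwiseFiniteProjective E ∧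
      Nonempty (DRing.toD E ≅ Dual.inD A (A ⧸ Ideal.ofList l)) := by
  let γ : Module.Dual A A := LinearMap.id
  have hmap : l.map γ = l := by simp [γ]
  let E : DRing.Cx A := kc γ l
  have hreg : ∀ i : ℤ, i ≠ 0 → E.ExactAt i := fun i hi => by
    rw [HomologicalComplex.exactAt_iff_isZero_homology]
    show IsZero ((Koszul.koszul A (l.map γ)).homology i)
    rw [hmap]
    exact hl i hi
  have hv : DRing.VanishesOutside E (-(l.length : ℤ)) 0 := fun i hi => isZero_out γ l i (by omega)
  have hE : DRing.TermwiseFiniteProjective E := fun i => by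
    haveI := free_kc γ l i
    exact ⟨finite_kc γ l i, Module.Projective.of_free⟩
  haveI : (DRing.toD E).IsGE 0 := (DerivedCategory.isGE_iff _ 0).2 fun i hi =>
    ((HomologicalComplex.exactAt_iff_isZero_homology _ _).1 (hreg i (by omega))).of_iso (DR.homologyIso E i)
  haveI : (DRing.toD E).IsLE 0 := (DerivedCategory.isLE_iff _ 0).2 fun i hi =>
    ((HomologicalComplex.exactAt_iff_isZero_homology _ _).1 (hreg i (by omega))).of_iso (DR.homologyIso E i)
  obtain ⟨Y, ⟨e⟩⟩ := DerivedCategory.exists_iso_singleFunctor_obj_of_isGE_of_isLE (DRing.toD E) 0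
  have hd01 : E.d 0 1 = 0 := (hv 1 (Or.inr one_pos)).eq_of_tgt _ _
  haveI : IsIso (E.homologyι 0) := E.isIso_homologyι 0 1 (by simp) hd01
  let θ : Y ≅ E.opcycles 0 :=
    ((DerivedCategory.singleFunctorCompHomologyFunctorIso (ModuleCat.{u} A) 0).app Y).symm ≪≫
      ((DerivedCategory.homologyFunctor (ModuleCat.{u} A) 0).mapIso e).symm ≪≫
        DR.homologyIso E 0 ≪≫ asIso (E.homologyι 0)
  -- degree zero
  let q : A →ₗ[A] E.X 0 := LinearMap.toSpanSingleton A _ (unit γ l)
  let g : A →ₗ[A] E.opcycles 0 := (E.pOpcycles 0).hom.comp q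
  have hg : Function.Surjective g := fun y => by
    obtain ⟨x, rfl⟩ := (ModuleCat.epi_iff_surjective (E.pOpcycles 0)).1 inferInstance y
    obtain ⟨r, rfl⟩ := exists_smul_unit γ l x
    exact ⟨r, rfl⟩
  obtain ⟨κ, hd, -, hκ, -⟩ := GrothLib.SeqKinds.exists_degree_neg_one γ l
  have hker : LinearMap.ker g = Ideal.ofList l := by
    have hex : (ShortComplex.mk (E.d (-1) 0) (E.pOpcycles 0) (E.d_pOpcycles (-1) 0)).Exact :=
      ShortComplex.exact_of_g_is_cokernel _ (E.opcyclesIsCokernel (-1) 0 (by simp))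
    rw [ShortComplex.moduleCat_exact_iff] at hex
    refine le_antisymm (fun r hr => ?_) (Ideal.span_le.2 fun f hf => ?_)
    · obtain ⟨y, hy⟩ := hex (q r) hr
      obtain ⟨a, rfl⟩ := hκ y
      have h1 : r = ∑ i, a i * γ (l.get i) :=
        GrothLib.SeqKinds.smul_unit_injective γ l (hy.symm.trans (hd a))
      rw [h1]
      exact sum_mem fun i _ => Ideal.mul_mem_left _ _ (Ideal.subset_span (List.get_mem l i))
    · obtain ⟨i, rfl⟩ := List.get_of_mem hf
      show (E.pOpcycles 0).hom (l.get i • unit γ l) = 0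
      classical
      have h1 := hd (Pi.single i 1)
      rw [Finset.sum_eq_single i (fun j _ hj => by simp [Pi.single_eq_of_ne hj]) (by simp)] at h1
      simp only [Pi.single_eq_same, one_mul] at h1
      rw [show l.get i • unit γ l = γ (l.get i) • unit γ l from rfl, ← h1]
      exact congrArg (fun f => f.hom (κ (Pi.single i 1))) (E.d_pOpcycles (-1) 0)
  let eY : (A ⧸ Ideal.ofList l) ≃ₗ[A] Y := ((Submodule.quotEquivOfEq _ _ hker.symm).trans
    (g.quotKerEquivOfSurjective hg)).trans θ.toLinearEquiv.symm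
  exact ⟨E, hv, hE, ⟨e ≪≫ ((DerivedCategory.singleFunctor (ModuleCat.{u} A) 0).mapIso eY.toModuleIso).symm⟩⟩

end GrothLib.KSix19
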