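import Groth.Agent.Lib.KSix19.TorAmp
import Groth.Agent.Lib.KSix19.KoszulRes
import Groth.Prelude.Def_RegImm

/-! # Koszul-regular immersions are perfect -/

set_option autoImplicit false
set_option maxHeartbeats 800000
set_option backward.isDefEq.respectTransparency false
universe u

open CategoryTheory CategoryTheory.Limits AlgebraicGeometry HomologicalComplex Opposite TopologicalSpace

attribute [local instance] HasDerivedCategory.standard

namespace GrothLib.KSix19

open GrothLib.OX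

variable {X Y Z : Scheme.{u}}

/-- The stalk of a restriction, over the bigger scheme. -/
theorem nonempty_stalkOver_restrict (j : X ⟶ Y) [IsOpenImmersion j] (y : X) :
    Nonempty (Scheme.Modules.restrictFunctor j ⋙ DerSch.stalkOver j y ≅ stalk (j y)) := by
  let φ := (j.stalkMap y).hom
  let e : Y.presheaf.stalk (j y) ≃+* X.presheaf.stalk y :=
    RingEquiv.ofBijective φ (ConcreteCategory.bijective_of_isIso (j.stalkMap y))
  let R := ModuleCat.restrictScalars.{u} φ
  have : R.IsEquivalence := ModuleCat.restrictScalars_isEquivalence_of_ringEquiv e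
  let adj := ModuleCat.extendRestrictScalarsAdj.{u} φ
  have := adj.isEquivalence_left_of_isEquivalence_right
  exact ⟨(Functor.associator _ _ _).symm ≪≫
    Functor.isoWhiskerRight (Functor.isoWhiskerLeft _ (stalkFunctorIso y) ≪≫ restrictStalkExtIso j y) _ ≪≫
    Functor.associator _ _ _ ≪≫ Functor.isoWhiskerLeft _ (asIso adj.unit).symm ≪≫ Functor.rightUnitor _⟩

/-- Tor amplitude is insensitive to restriction to an open. -/
theorem hasTorAmplitudeAt_restrict_iff (j : X ⟶ Y) [IsOpenImmersion j] (f : Y ⟶ Z) (y : X) (a b : ℤ)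
    (F : CochainComplex Y.Modules ℤ) :
    DerSch.HasTorAmplitudeAt (j ≫ f) a b ((resCx j).obj F) y ↔ DerSch.HasTorAmplitudeAt f a b F (j y) := by
  obtain ⟨e₁⟩ := nonempty_stalkCxOver_comp j f y ((resCx j).obj F)
  obtain ⟨e₂⟩ := nonempty_stalkCxOver f (j y) F
  obtain ⟨c⟩ := nonempty_stalkOver_restrict j y
  let e₃ : (DerSch.stalkCxOver j y).obj ((resCx j).obj F) ≅ (stalkCx (j y)).obj F :=
    HomologicalComplex.Hom.isoOfComponents (fun p => c.app (F.X p))
      fun p q _ => (c.hom.naturality (F.d p q)).symm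
  let e : DRing.toD ((DerSch.stalkCxOver (j ≫ f) y).obj ((resCx j).obj F)) ≅
      DRing.toD ((DerSch.stalkCxOver f (j y)).obj F) :=
    e₁ ≪≫ (DRing.restrictD (f.stalkMap (j y)).hom).mapIso (DerivedCategory.Q.mapIso e₃) ≪≫ e₂.symm
  exact ⟨fun h => amp_of_iso e h, fun h => amp_of_iso e.symm h⟩

/-- Perfect amplitude of a complex of projective modules. -/
theorem strictIn_tildeD {A : Type u} [CommRing A] {E : DRing.Cx A} {a b : ℤ}
    (hv : DRing.VanishesOutside E a b) (hp : DRing.TermwiseFiniteProjective E) {M : Dual.D A}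
    (e : DRing.toD E ≅ M) : StrictIn a b ((DCoh.tildeD (CommRingCat.of A)).obj M) :=
  ⟨((tilde.functor (CommRingCat.of A)).mapHomologicalComplex (ComplexShape.up ℤ)).obj E,
    fun i hi => (tilde.functor (CommRingCat.of A)).map_isZero (hv i hi),
    (strictlyPerfect_tilde hv hp).2,
    ⟨((tilde.functor (CommRingCat.of A)).mapDerivedCategoryFactors.app E).symm ≪≫
      (DCoh.tildeD (CommRingCat.of A)).mapIso e⟩⟩

theorem surjective_app_of_isClosedImmersion (i : X ⟶ Y) {U : Y.Opens} (hU : IsAffineOpen U)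
    [IsClosedImmersion (i ∣_ U)] (hW : IsAffineOpen (i ⁻¹ᵁ U)) : Function.Surjective (i.app U).hom := by
  let ψ : Γ(Y, U) ⟶ Γ(X, i ⁻¹ᵁ U) := i.app U
  have himm : (i ∣_ U) ≫ hU.isoSpec.hom = hW.isoSpec.hom ≫ Spec.map ψ := by
    rw [hU.isoSpec_hom, hW.isoSpec_hom]
    exact (Scheme.Opens.toSpecΓ_naturality i U).symm
  have h : Spec.map ψ = hW.isoSpec.inv ≫ (i ∣_ U) ≫ hU.isoSpec.hom := by
    rw [himm, Iso.inv_hom_id_assoc]
  have : IsClosedImmersion (Spec.map ψ) := by rw [h]; infer_instance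
  have h' := (IsClosedImmersion.isAffine_surjective_of_isAffine (Spec.map ψ)).2
  have hn : ψ = (Scheme.ΓSpecIso _).inv ≫ (Spec.map ψ).appTop ≫ (Scheme.ΓSpecIso _).hom := by
    rw [Scheme.ΓSpecIso_naturality, Iso.inv_hom_id_assoc]
  change Function.Surjective ψ
  rw [hn]
  exact (ConcreteCategory.bijective_of_isIso (Scheme.ΓSpecIso _).hom).2.comp
    (h'.comp (ConcreteCategory.bijective_of_isIso (Scheme.ΓSpecIso _).inv).2)

/-- The direct image of the structure sheaf on an affine open of the target. -/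
theorem nonempty_push_unit_iso (i : X ⟶ Y) {U : Y.Opens} (hU : IsAffineOpen U) (hW : IsAffineOpen (i ⁻¹ᵁ U)) :
    Nonempty ((Scheme.Modules.pushforward (i ∣_ U)).obj (Coh.structureModule (i ⁻¹ᵁ U).toScheme) ≅
      (Scheme.Modules.restrictFunctor hU.isoSpec.hom).obj ((tilde.functor Γ(Y, U)).obj
        ((ModuleCat.restrictScalars.{u} (i.app U).hom).obj (ModuleCat.of Γ(X, i ⁻¹ᵁ U) Γ(X, i ⁻¹ᵁ U))))) := by
  let ψ : Γ(Y, U) ⟶ Γ(X, i ⁻¹ᵁ U) := i.app U
  have himm : (i ∣_ U) ≫ hU.isoSpec.hom = hW.isoSpec.hom ≫ Spec.map ψ := by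
    rw [hU.isoSpec_hom, hW.isoSpec_hom]
    exact (Scheme.Opens.toSpecΓ_naturality i U).symm
  let M := (Scheme.Modules.pushforward (i ∣_ U)).obj (Coh.structureModule (i ⁻¹ᵁ U).toScheme)
  let e₁ : (Scheme.Modules.pushforward hU.isoSpec.hom).obj M ≅
      (Scheme.Modules.pushforward (Spec.map ψ)).obj (Coh.structureModule (Spec Γ(X, i ⁻¹ᵁ U))) :=
    (Scheme.Modules.pushforwardComp (i ∣_ U) hU.isoSpec.hom).app _ ≪≫
      (Scheme.Modules.pushforwardCongr himm).app _ ≪≫
      ((Scheme.Modules.pushforwardComp hW.isoSpec.hom (Spec.map ψ)).app _).symm ≪≫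
      (Scheme.Modules.pushforward (Spec.map ψ)).mapIso (pushStructureIso hW.isoSpec)
  let e₂ : (Scheme.Modules.pushforward hU.isoSpec.hom).obj M ≅
      (tilde.functor Γ(Y, U)).obj
        ((ModuleCat.restrictScalars.{u} (i.app U).hom).obj (ModuleCat.of Γ(X, i ⁻¹ᵁ U) Γ(X, i ⁻¹ᵁ U))) :=
    e₁ ≪≫ pushSpecStructureIso ψ
  exact ⟨(pushEquiv hU.isoSpec).counitIso.symm.app M ≪≫
    (Scheme.Modules.pushforward hU.isoSpec.inv).mapIso e₂ ≪≫ ((restrictIsoPush hU.isoSpec).app _).symm⟩

theorem strictIn_tilde_quot {A B : Type u} [CommRing A] [CommRing B] (φ : A →+* B) (hφ : Function.Surjective φ)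
    (rs : List A) (hreg : LCI.IsKoszulRegularSeq A rs) (hker : RingHom.ker φ = Ideal.ofList rs) :
    StrictIn (-(rs.length : ℤ)) 0 (DerivedCategory.Q.obj ((single _ (ComplexShape.up ℤ) 0).obj
      ((tilde.functor (CommRingCat.of A)).obj ((ModuleCat.restrictScalars.{u} φ).obj (ModuleCat.of B B))))) := by
  let N := (ModuleCat.restrictScalars.{u} φ).obj (ModuleCat.of B B)
  obtain ⟨E, hv, hp, ⟨eE⟩⟩ := exists_koszul_res rs hreg
  let l : A →ₗ[A] N :=
    { toFun := fun p => (φ p : B)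
      map_add' := fun p q => map_add φ p q
      map_smul' := fun p q => map_mul φ p q }
  have hl : LinearMap.ker l = Ideal.ofList rs := hker
  let eN : (A ⧸ Ideal.ofList rs) ≃ₗ[A] N :=
    (Submodule.quotEquivOfEq _ _ hl.symm).trans (l.quotKerEquivOfSurjective hφ)
  refine strictIn_of_iso (strictIn_tildeD hv hp
    (eE ≪≫ (DerivedCategory.singleFunctor (ModuleCat.{u} A) 0).mapIso eN.toModuleIso)) ?_
  exact (DCoh.tildeD (CommRingCat.of A)).mapIso
      ((DerivedCategory.singleFunctorIsoCompQ (ModuleCat.{u} A) 0).app N) ≪≫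
    (tilde.functor (CommRingCat.of A)).mapDerivedCategoryFactors.app _ ≪≫
    DerivedCategory.Q.mapIso
      ((singleMapHomologicalComplex (tilde.functor (CommRingCat.of A)) (ComplexShape.up ℤ) 0).app N)

/-- Strictness passes along open immersions. -/
theorem strictIn_res {W : Scheme.{u}} (j : W ⟶ X) [IsOpenImmersion j] {a b : ℤ} {K : DCoh.D X}
    (h : StrictIn a b K) : StrictIn a b ((resD j).obj K) := by
  obtain ⟨E, hE, hfl, ⟨q⟩⟩ := h
  exact ⟨(resCx j).obj E, fun k hk => (Scheme.Modules.restrictFunctor j).map_isZero (hE k hk),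
    fun k => isFinLocFree_restrict j (hfl k), ⟨((resDFac j).app E).symm ≪≫ (resD j).mapIso q⟩⟩

/-- Over an affine open on which the ideal is generated by a Koszul regular sequence. -/
theorem strictIn_push_unit (i : X ⟶ Y) {U : Y.Opens} (hU : IsAffineOpen U) [IsClosedImmersion (i ∣_ U)]
    (rs : List Γ(Y, U)) (hreg : LCI.IsKoszulRegularSeq Γ(Y, U) rs)
    (hker : RingHom.ker (i.app U).hom = Ideal.ofList rs) :
    StrictIn (-(rs.length : ℤ)) 0 (DerivedCategory.Q.obj ((single U.toScheme.Modules (ComplexShape.up ℤ) 0).obj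
      ((Scheme.Modules.pushforward (i ∣_ U)).obj (Coh.structureModule (i ⁻¹ᵁ U).toScheme)))) := by
  have : IsAffine U.toScheme := hU
  have hW : IsAffineOpen (i ⁻¹ᵁ U) := isAffine_of_isAffineHom (i ∣_ U)
  obtain ⟨c⟩ := nonempty_push_unit_iso i hU hW
  have h := strictIn_res hU.isoSpec.hom
    (strictIn_tilde_quot (i.app U).hom (surjective_app_of_isClosedImmersion i hU hW) rs hreg hker)
  obtain ⟨s⟩ := nonempty_resD_single hU.isoSpec.hom ((tilde.functor Γ(Y, U)).obj
    ((ModuleCat.restrictScalars.{u} (i.app U).hom).obj (ModuleCat.of Γ(X, i ⁻¹ᵁ U) Γ(X, i ⁻¹ᵁ U))))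
  exact strictIn_of_iso h (s ≪≫ DerivedCategory.Q.mapIso ((single _ (ComplexShape.up ℤ) 0).mapIso c.symm))

/-- The direct image of the structure sheaf of a Koszul regular closed immersion is perfect. -/
theorem isPerfect_push_unit (i : X ⟶ Y) [IsClosedImmersion i]
    (hi : ∀ x : X, RegImm.IsRegularImmersionAt RegImm.Kind.koszul i x) :
    DCoh.IsPerfect (DCoh.inD Y ((Scheme.Modules.pushforward i).obj (Coh.structureModule X))) := by
  let e : DerivedCategory.Q.obj ((single Y.Modules (ComplexShape.up ℤ) 0).obj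
      ((Scheme.Modules.pushforward i).obj (Coh.structureModule X))) ≅
      DCoh.inD Y ((Scheme.Modules.pushforward i).obj (Coh.structureModule X)) :=
    ((DerivedCategory.singleFunctorIsoCompQ Y.Modules 0).app _).symm
  refine isPerfect_iff.2 fun y => ?_
  by_cases hy : y ∈ Set.range i
  · obtain ⟨x, rfl⟩ := hy
    obtain ⟨U, hxU, hcl, rs, hrs, hker⟩ := hi x
    obtain ⟨E, hE, hfl, ⟨q⟩⟩ := strictIn_push_unit i U.2 rs hrs hker
    obtain ⟨s⟩ := nonempty_resD_single U.1.ι ((Scheme.Modules.pushforward i).obj (Coh.structureModule X))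
    exact ⟨_, U.1.ι, inferInstance, ⟨⟨i x, hxU⟩, rfl⟩, E, ⟨⟨_, _, hE⟩, hfl⟩, ⟨q ≪≫
      DerivedCategory.Q.mapIso ((single _ (ComplexShape.up ℤ) 0).mapIso
        ((pushRestrictIso i U.1).app (Coh.structureModule X) ≪≫
          (Scheme.Modules.pushforward (i ∣_ U.1)).mapIso
            ((Scheme.Modules.restrictFunctorIsoPullback (i ⁻¹ᵁ U.1).ι).app _ ≪≫ pullUnitIso _)).symm) ≪≫
      s.symm ≪≫ (resD U.1.ι).mapIso e⟩⟩
  · let V : Y.Opens := ⟨(Set.range i)ᶜ, i.isClosedEmbedding.isClosed_range.isOpen_compl⟩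
    have hz : IsZero ((Scheme.Modules.restrictFunctor V.ι).obj
        ((Scheme.Modules.pushforward i).obj (Coh.structureModule X))) := by
      refine IsZero.of_iso ((Scheme.Modules.pushforward (i ∣_ V)).map_isZero ?_) ((pushRestrictIso i V).app _)
      refine isZero_of_stalks fun z => absurd z.2 ?_
      exact fun hz => hz ⟨z.1, rfl⟩
    refine ⟨_, V.ι, inferInstance, ⟨⟨y, hy⟩, rfl⟩, (single _ (ComplexShape.up ℤ) 0).obj
      ((Scheme.Modules.restrictFunctor V.ι).obj ((Scheme.Modules.pushforward i).obj (Coh.structureModule X))), ?_,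
      ⟨(nonempty_resD_single V.ι _).some.symm ≪≫ (resD V.ι).mapIso e⟩⟩
    exact ⟨⟨0, 0, fun q hq => isZero_single_obj_X _ 0 _ q (by omega)⟩, fun q => by
      by_cases hq : q = 0
      · subst hq; exact DCoh.isFinLocFree_of_isZero (hz.of_iso (singleObjXSelf _ _ _))
      · exact DCoh.isFinLocFree_of_isZero (isZero_single_obj_X _ 0 _ q hq)⟩

/-- Koszul regular immersions of codimension `d` have perfect dimension `≤ d`. -/
theorem hasPerfDimLE_of_regular (i : X ⟶ Y) (d : ℕ)
    (hi : RegImm.IsRegularImmersionOfCodim RegImm.Kind.koszul d i) : DerSch.HasPerfDimLE i d := by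
  have := hi.1
  have key : ∀ x : X, ∃ W : X.Opens, x ∈ W ∧
      (∀ m : ℤ, DerSch.IsPseudoCoherentRel (W.ι ≫ i) m (DCoh.toD W.toScheme ((resCx W.ι).obj (DerSch.unitCx X)))) ∧
      DerSch.HasTorAmplitudeAt i (-(d : ℤ)) 0 (DerSch.unitCx X) x := by
    intro x
    obtain ⟨U, hxU, hcl, rs, hlen, hrs, hker⟩ := hi.2 x
    have hS := strictIn_push_unit i U.2 rs hrs hker
    rw [hlen] at hS
    let W := i ⁻¹ᵁ U.1
    let j := i ∣_ U.1
    let cU : (resCx W.ι).obj (DerSch.unitCx X) ≅ DerSch.unitCx W.toScheme :=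
      ((singleMapHomologicalComplex (Scheme.Modules.restrictFunctor W.ι) (ComplexShape.up ℤ) 0).app _) ≪≫
        (single _ (ComplexShape.up ℤ) 0).mapIso
          ((Scheme.Modules.restrictFunctorIsoPullback W.ι).app _ ≪≫ pullUnitIso W.ι)
    let c : DerivedCategory.Q.obj ((single U.1.toScheme.Modules (ComplexShape.up ℤ) 0).obj
        ((Scheme.Modules.pushforward j).obj (Coh.structureModule W.toScheme))) ≅
        DCoh.toD U.1.toScheme ((DerSch.pushCx j).obj ((resCx W.ι).obj (DerSch.unitCx X))) :=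
      DerivedCategory.Q.mapIso ((((singleMapHomologicalComplex (Scheme.Modules.pushforward j)
        (ComplexShape.up ℤ) 0).app _)).symm ≪≫ (DerSch.pushCx j).mapIso cU.symm)
    have hP : KSix.HasPerfectAmplitudeIn (-(d : ℤ)) 0
        (DCoh.toD U.1.toScheme ((DerSch.pushCx j).obj ((resCx W.ι).obj (DerSch.unitCx X)))) :=
      hasPerfectAmplitudeIn_iff.2 fun z => by
        obtain ⟨E, hE, hfl, ⟨q⟩⟩ := hS
        exact ⟨_, 𝟙 _, inferInstance, ⟨z, rfl⟩, (resCx (𝟙 _)).obj E,
          fun k hk => (Scheme.Modules.restrictFunctor _).map_isZero (hE k hk),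
          fun k => isFinLocFree_restrict _ (hfl k),
          ⟨((resDFac (𝟙 U.1.toScheme)).app E).symm ≪≫ (resD _).mapIso (q ≪≫ c)⟩⟩
    have heq : j ≫ U.1.ι = W.ι ≫ i := morphismRestrict_ι i U.1
    have hamp := (hasTorAmplitude_of_flatAmplitude j U.1.ι (flatAmplitude_of_perfectAmplitude hP)) ⟨x, hxU⟩
    rw [heq] at hamp
    refine ⟨W, hxU, fun m => ?_, (hasTorAmplitudeAt_restrict_iff W.ι i ⟨x, hxU⟩ _ _ _).1 hamp⟩
    rw [← heq]
    exact (isPseudoCoherentRel_closedImmersion_iff j U.1.ι (fun k => isNPseudoCoherent_of_flat _ k) m _).2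
      (isPseudoCoherentD_of_isPerfect (isPerfect_of_perfectAmplitude hP) m)
  refine ⟨fun m => isPseudoCoherentRel_of_cover fun x => ?_, fun x => ?_⟩
  · obtain ⟨W, hx, hW, -⟩ := key x
    exact ⟨_, W.ι, inferInstance, ⟨⟨x, hx⟩, rfl⟩, hW m⟩
  · exact (key x).choose_spec.2.2

end GrothLib.KSix19
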