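import Groth.Agent.Lib.KSix19.AmpSmooth
import Groth.Agent.Lib.KSix19.KoszulPerf
import Groth.Agent.Lib.DCxRing.LBaseComp
import Groth.Prelude.Def_DTor2
import Mathlib.AlgebraicGeometry.Morphisms.Smooth

/-! # Direct images along closed immersions into smooth schemes -/

set_option autoImplicit false
set_option maxHeartbeats 800000
set_option backward.isDefEq.respectTransparency false
set_option linter.style.haveILetI false
universe u

open CategoryTheory CategoryTheory.Limits AlgebraicGeometry HomologicalComplex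

attribute [local instance] HasDerivedCategory.standard

namespace GrothLib.KSix19

open GrothLib.OX

variable {X Y S : Scheme.{u}}

/-- Some standard smooth chart of dimension at most `d` at the point. -/
def SmoothDimLEAt (g : Y ⟶ S) (d : ℕ) (y : Y) : Prop :=
  ∃ (W : S.Opens) (U : Y.Opens) (_ : IsAffineOpen W) (_ : IsAffineOpen U) (_ : y ∈ U) (e : U ≤ g ⁻¹ᵁ W)
    (n : ℕ) (p : MvPolynomial (Fin n) Γ(S, W) →+* Γ(Y, U)),
    n ≤ d ∧ p.comp MvPolynomial.C = (g.appLE W U e).hom ∧ p.Etale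

theorem smoothDimLEAt_of_relativeDimension (g : Y ⟶ S) {n d : ℕ} (hn : n ≤ d) {V : Y.Opens} {y : Y} (hy : y ∈ V)
    (h : SmoothOfRelativeDimension n (V.ι ≫ g)) : SmoothDimLEAt g d y := by
  obtain ⟨W, hW, U, hU, hyU, e, hstd⟩ := h.exists_isStandardSmoothOfRelativeDimension ⟨y, hy⟩
  have e' : V.ι ''ᵁ U ≤ g ⁻¹ᵁ W := by
    rintro z ⟨w, hw, rfl⟩
    exact e hw
  have he : (V.ι ≫ g).appLE W U e = g.appLE W (V.ι ''ᵁ U) e' := by
    rw [← Scheme.Hom.appLE_comp_appLE V.ι g W (V.ι ''ᵁ U) U e' (fun w hw => ⟨w, hw, rfl⟩),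
      Scheme.Opens.ι_appLE]
    simp
  rw [he] at hstd
  obtain ⟨p, hp, hpe⟩ := hstd.exists_etale_mvPolynomial
  exact ⟨W, V.ι ''ᵁ U, hW, hU.image_of_isOpenImmersion V.ι, ⟨_, hyU, rfl⟩, e', n, p, hn, hp, hpe⟩

theorem exists_smoothDimLE (g : Y ⟶ S) [Smooth g] (y : Y) :
    ∃ (U : Y.Opens) (n : ℕ), y ∈ U ∧ ∀ z ∈ U, SmoothDimLEAt g n z := by
  obtain ⟨W, hW, U, hU, hy, e, hstd⟩ := (Smooth.iff_forall_exists_isStandardSmooth g).1 ‹_› y
  obtain ⟨n, p, hp, hpe⟩ := hstd.exists_etale_mvPolynomial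
  exact ⟨U, n, hy, fun z hz => ⟨W, U, hW, hU, hz, e, n, p, le_rfl, hp, hpe⟩⟩

/-- **Tor amplitude over the base controls tor amplitude on a smooth scheme.** -/
theorem amp_stalk_smooth (g : Y ⟶ S) {d : ℕ} {y : Y} (hg : SmoothDimLEAt g d y)
    {K : DRing.Cx (Y.presheaf.stalk y)} {a b : ℤ}
    (h : DRing.HasTorAmplitudeIn (S.presheaf.stalk (g y)) a b
      ((DRing.restrictD (g.stalkMap y).hom).obj (DRing.toD K))) :
    DRing.HasTorAmplitudeIn (Y.presheaf.stalk y) (a - d) b (DRing.toD K) := by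
  obtain ⟨W, U, hW, hU, hy, e, n, p, hnd, hp, hpe⟩ := hg
  let α : Γ(S, W) →+* S.presheaf.stalk (g y) := (S.presheaf.germ W (g y) (e hy)).hom
  let ψ : Γ(Y, U) →+* Y.presheaf.stalk y := (Y.presheaf.germ U y hy).hom
  let φ : Γ(S, W) →+* Γ(Y, U) := (g.appLE W U e).hom
  have hc : (g.stalkMap y).hom.comp α = ψ.comp φ := by
    refine RingHom.ext fun s => ?_
    change (g.stalkMap y).hom ((S.presheaf.germ W (g y) (e hy)).hom s) =
      (Y.presheaf.germ U y hy).hom ((g.appLE W U e).hom s)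
    rw [Scheme.Hom.germ_stalkMap_apply g W y (e hy)]
    exact (TopCat.Presheaf.germ_res_apply Y.presheaf (homOfLE e) y hy _).symm
  have hα : α.Flat := by
    letI := α.toAlgebra
    haveI : IsLocalization.AtPrime (S.presheaf.stalk (g y)) (hW.primeIdealOf ⟨g y, e hy⟩).asIdeal :=
      hW.isLocalization_stalk ⟨g y, e hy⟩
    exact IsLocalization.flat (S.presheaf.stalk (g y)) (hW.primeIdealOf ⟨g y, e hy⟩).asIdeal.primeCompl
  have hR : DRing.HasTorAmplitudeIn Γ(S, W) (-((0 : ℕ) : ℤ)) 0 (Dual.inD Γ(S, W)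
      ((ModuleCat.restrictScalars.{u} α).obj (ModuleCat.of (S.presheaf.stalk (g y)) (S.presheaf.stalk (g y))))) := by
    have := (flat_restrict_iff α).2 hα
    simpa using DR.hasTorAmplitudeIn_flat (A := Γ(S, W))
      ((ModuleCat.restrictScalars.{u} α).obj (ModuleCat.of (S.presheaf.stalk (g y)) (S.presheaf.stalk (g y))))
  have h1 := amp_restrict α 0 hR h
  let c : (DRing.restrictD α).obj ((DRing.restrictD (g.stalkMap y).hom).obj (DRing.toD K)) ≅
      DRing.toD ((DRing.restrictCx (ψ.comp φ)).obj K) :=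
    (DR.restrictDComp α (g.stalkMap y).hom (ψ.comp φ) hc.symm).app (DRing.toD K) ≪≫
      (ModuleCat.restrictScalars (ψ.comp φ)).mapDerivedCategoryFactors.app K
  have h2 : AmpOver (ψ.comp φ) a b K := by simpa using amp_of_iso c h1
  have h3 : AmpOver ψ (a - n) b K := amp_of_etale_mvPolynomial hp hpe ((amp_congr φ ψ K a b).1 h2)
  letI := ψ.toAlgebra
  haveI : IsLocalization.AtPrime (Y.presheaf.stalk y) (hU.primeIdealOf ⟨y, hy⟩).asIdeal :=
    hU.isLocalization_stalk ⟨y, hy⟩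
  exact amp_mono (by omega) le_rfl
    (amp_of_isLocalization (hU.primeIdealOf ⟨y, hy⟩).asIdeal.primeCompl (K := K) h3)

/-- Tor amplitude of a direct image at a point of the image. -/
theorem amp_push_stalk (i : X ⟶ Y) [IsClosedImmersion i] (g : Y ⟶ S) {d : ℕ} {x : X}
    (hg : SmoothDimLEAt g d (i x)) {F : CochainComplex X.Modules ℤ} {a b : ℤ}
    (hF : DerSch.HasTorAmplitudeAt (i ≫ g) a b F x) :
    DerSch.HasTorAmplitudeAt (𝟙 Y) (a - d) b ((DerSch.pushCx i).obj F) (i x) := by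
  obtain ⟨e₁⟩ := nonempty_stalkCxOver_comp i g x F
  obtain ⟨e₂⟩ := nonempty_stalkCx_push i x F
  refine (hasTorAmplitudeAt_id_iff (i x) _ _ _).2 (amp_stalk_smooth g hg ?_)
  exact amp_of_iso (e₁ ≪≫ (DRing.restrictD (g.stalkMap (i x)).hom).mapIso e₂.symm) hF

/-- Tor amplitude of a direct image off the image. -/
theorem amp_push_stalk_outside (i : X ⟶ Y) [IsClosedImmersion i] {y : Y} (hy : y ∉ Set.range i)
    (F : CochainComplex X.Modules ℤ) (a b : ℤ) :
    DerSch.HasTorAmplitudeAt (𝟙 Y) a b ((DerSch.pushCx i).obj F) y := by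
  refine (hasTorAmplitudeAt_id_iff y a b _).2 ?_
  exact ⟨(stalkCx y).obj ((DerSch.pushCx i).obj F), fun k _ => isZero_stalk_push i (F.X k) y hy, fun k => by
    have : Subsingleton (((stalkCx y).obj ((DerSch.pushCx i).obj F)).X k) :=
      ModuleCat.subsingleton_of_isZero (isZero_stalk_push i (F.X k) y hy)
    infer_instance, ⟨Iso.refl _⟩⟩

/-- Stalkwise amplitude bounds the cohomology sheaves. -/
theorem isLE_of_stalks {F : CochainComplex Y.Modules ℤ} {a b : ℤ}
    (h : ∀ y : Y, DerSch.HasTorAmplitudeAt (𝟙 Y) a b F y) : (DCoh.toD Y F).IsLE b := by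
  refine (DerivedCategory.isLE_iff _ _).2 fun i hi => ?_
  have hs : ∀ y : Y, IsZero ((stalk y).obj (F.homology i)) := fun y => by
    obtain ⟨E, hv, -, ⟨q⟩⟩ := (hasTorAmplitudeAt_id_iff y a b F).1 (h y)
    have hE : IsZero (E.homology i) :=
      (exactAt_iff_isZero_homology _ i).1 (ExactAt.of_isZero (hv i (Or.inr hi)))
    have hz : IsZero (((stalkCx y).obj F).homology i) :=
      hE.of_iso (((DerivedCategory.homologyFunctorFactors _ i).app _).symm ≪≫
        (DerivedCategory.homologyFunctor _ i).mapIso q.symm ≪≫ (DerivedCategory.homologyFunctorFactors _ i).app _)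
    exact hz.of_iso ((F.sc i).mapHomologyIso (stalk y)).symm
  have : IsIso (0 : F.homology i ⟶ F.homology i) :=
    (GrothLib.OX.isIso_iff _).2 fun y => ⟨0, (hs y).eq_of_src _ _, (hs y).eq_of_src _ _⟩
  exact ((IsZero.iff_id_eq_zero _).2 ((cancel_epi (0 : F.homology i ⟶ _)).1 (by simp))).of_iso
    ((DerivedCategory.homologyFunctorFactors _ i).app F)

theorem flatAmplitude_of_stalks' {F : CochainComplex Y.Modules ℤ} {a b : ℤ}
    (h : ∀ y : Y, DerSch.HasTorAmplitudeAt (𝟙 Y) a b F y) : DCoh.HasFlatAmplitudeIn a b (DCoh.toD Y F) :=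
  have := isLE_of_stalks h
  (flatAmplitude_iff_stalks b a b).2 h

/-- **Flat amplitude of a direct image into a smooth scheme.** -/
theorem flatAmplitude_push (i : X ⟶ Y) [IsClosedImmersion i] (g : Y ⟶ S) {d : ℕ}
    (hg : ∀ y, SmoothDimLEAt g d y) {F : CochainComplex X.Modules ℤ} {a b : ℤ}
    (hF : DerSch.HasTorAmplitude (i ≫ g) a b F) :
    DCoh.HasFlatAmplitudeIn (a - d) b (DCoh.toD Y ((DerSch.pushCx i).obj F)) :=
  flatAmplitude_of_stalks' fun y => by
    by_cases hy : y ∈ Set.range i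
    · obtain ⟨x, rfl⟩ := hy
      exact amp_push_stalk i g (hg _) (hF x)
    · exact amp_push_stalk_outside i hy F _ _

theorem smoothDimLE_of_bound (g : Y ⟶ S) (d : ℕ)
    (hd : ∀ y : Y, ∃ (n : ℕ) (V : Y.Opens), n ≤ d ∧ y ∈ V ∧ SmoothOfRelativeDimension n (V.ι ≫ g)) (y : Y) :
    SmoothDimLEAt g d y :=
  let ⟨_, _, hn, hy, hV⟩ := hd y
  smoothDimLEAt_of_relativeDimension g hn hy hV

/-- **Perfect amplitude of a direct image into a smooth scheme.** -/
theorem perfectAmplitude_push (i : X ⟶ Y) [IsClosedImmersion i] (g : Y ⟶ S) [Smooth g] {d : ℕ}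
    (hg : ∀ y, SmoothDimLEAt g d y) {F : CochainComplex X.Modules ℤ} {a b : ℤ}
    (hF : DerSch.HasPerfAmplitudeRel (i ≫ g) a b F) :
    KSix.HasPerfectAmplitudeIn (a - d) b (DCoh.toD Y ((DerSch.pushCx i).obj F)) := by
  have h1 := flatAmplitude_push i g hg hF.2
  have h2 : DCoh.IsPseudoCoherentD (a - d - 1) (DCoh.toD Y ((DerSch.pushCx i).obj F)) :=
    (isPseudoCoherentRel_closedImmersion_iff i g (fun k => isNPseudoCoherent_of_flat _ k) _ F).1 (hF.1 _)
  rcases le_or_gt (a - (d : ℤ)) b with hab | hab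
  · exact perfectAmplitude_of_flatAmplitude hab h1 h2
  · obtain ⟨E, hv, -, ⟨q⟩⟩ := h1
    exact hasPerfectAmplitudeIn_iff.2 fun y => ⟨Y, 𝟙 Y, inferInstance, ⟨y, rfl⟩, (resCx (𝟙 Y)).obj E,
      fun k hk => (Scheme.Modules.restrictFunctor _).map_isZero (hv k hk),
      fun k => DCoh.isFinLocFree_of_isZero ((Scheme.Modules.restrictFunctor _).map_isZero (hv k (by omega))),
      ⟨((resDFac (𝟙 Y)).app E).symm ≪≫ (resD _).mapIso q⟩⟩

/-- Stalkwise amplitude and restriction to an open. -/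
theorem hasTorAmplitudeAt_id_restrict_iff (j : X ⟶ Y) [IsOpenImmersion j] (x : X) (a b : ℤ)
    (G : CochainComplex Y.Modules ℤ) :
    DerSch.HasTorAmplitudeAt (𝟙 X) a b ((resCx j).obj G) x ↔ DerSch.HasTorAmplitudeAt (𝟙 Y) a b G (j x) := by
  rw [← hasTorAmplitudeAt_restrict_iff j (𝟙 Y) x a b G, Category.comp_id]
  constructor
  · intro h
    have h' := hasTorAmplitudeAt_comp (𝟙 X) j x 0 (by simpa using hasTorAmplitudeAt_of_flat j x) h
    simpa using h'
  · intro h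
    obtain ⟨e⟩ := nonempty_stalkCxOver j x ((resCx j).obj G)
    have hb : Function.Bijective (j.stalkMap x).hom := ConcreteCategory.bijective_of_isIso (j.stalkMap x)
    refine (hasTorAmplitudeAt_id_iff x a b _).2
      (amp_of_hasSection (j.stalkMap x).hom (RingHom.Flat.of_bijective hb) (hasSection_of_surjective _ hb.2) ?_)
    exact amp_of_iso (e ≪≫ (ModuleCat.restrictScalars (j.stalkMap x).hom).mapDerivedCategoryFactors.app _) h

/-- **Locally finite tor amplitude and finite tor dimension of the direct image.** -/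
theorem locHasFiniteTorDim_push (i : X ⟶ Y) [IsClosedImmersion i] (g : Y ⟶ S) [Smooth g]
    {F : CochainComplex X.Modules ℤ} (hF : DerSch.LocFiniteTorAmplitude (i ≫ g) F) :
    DCoh.LocHasFiniteTorDim (DCoh.toD Y ((DerSch.pushCx i).obj F)) := by
  intro y
  obtain ⟨V₁, n, hy₁, hn⟩ := exists_smoothDimLE g y
  obtain ⟨V, a, b, hy, hV⟩ : ∃ (V : Y.Opens) (a b : ℤ), y ∈ V ∧
      ∀ x : X, i x ∈ V → DerSch.HasTorAmplitudeAt (i ≫ g) a b F x := by
    by_cases hy : y ∈ Set.range i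
    · obtain ⟨x, rfl⟩ := hy
      obtain ⟨V, a, b, hx, hV⟩ := hF x
      obtain ⟨V', rfl⟩ := exists_preimage_eq i (U' := V)
      exact ⟨V', a, b, hx, hV⟩
    · exact ⟨⟨(Set.range i)ᶜ, i.isClosedEmbedding.isClosed_range.isOpen_compl⟩, 0, 0, hy,
        fun x hx => absurd ⟨x, rfl⟩ hx⟩
  refine ⟨V ⊓ V₁, a - n, b, ⟨hy, hy₁⟩, fun F' ⟨e'⟩ => ?_⟩
  have key : DCoh.HasFlatAmplitudeIn (a - n) b
      (DCoh.toD (V ⊓ V₁).toScheme ((resCx (V ⊓ V₁).ι).obj ((DerSch.pushCx i).obj F))) :=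
    flatAmplitude_of_stalks' fun z => by
      refine (hasTorAmplitudeAt_id_restrict_iff (V ⊓ V₁).ι z _ _ _).2 ?_
      by_cases hz : (V ⊓ V₁).ι z ∈ Set.range i
      · obtain ⟨x, hx⟩ := hz
        have hm : i x ∈ V ⊓ V₁ := by rw [hx]; exact z.2
        rw [← hx]
        exact amp_push_stalk i g (hn _ hm.2) (hV x hm.1)
      · exact amp_push_stalk_outside i hz F _ _
  obtain ⟨E, hv, hf, ⟨q⟩⟩ := key
  obtain ⟨k⟩ := nonempty_iso_restrictCx (V ⊓ V₁) e'.symm
  exact ⟨E, hv, hf, ⟨q ≪≫ k⟩⟩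

theorem locFiniteTorAmplitude_of_push (i : X ⟶ Y) [IsClosedImmersion i] (g : Y ⟶ S) [Flat g]
    {F : CochainComplex X.Modules ℤ} (h : DCoh.LocHasFiniteTorDim (DCoh.toD Y ((DerSch.pushCx i).obj F))) :
    DerSch.LocFiniteTorAmplitude (i ≫ g) F := by
  intro x
  obtain ⟨V, a, b, hx, hV⟩ := h (i x)
  refine ⟨i ⁻¹ᵁ V, a, b, hx, fun x' hx' => ?_⟩
  have h1 : DCoh.HasFlatAmplitudeIn a b (DCoh.toD V.toScheme ((resCx V.ι).obj ((DerSch.pushCx i).obj F))) :=
    hV _ ⟨Iso.refl _⟩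
  have h2 : DerSch.HasTorAmplitudeAt (𝟙 Y) a b ((DerSch.pushCx i).obj F) (i x') :=
    (hasTorAmplitudeAt_id_restrict_iff V.ι ⟨i x', hx'⟩ a b _).1 (stalks_of_flatAmplitude h1 _)
  obtain ⟨e⟩ := nonempty_stalkCx_push i x' F
  have h3 := hasTorAmplitudeAt_comp i g x' 0 (by simpa using hasTorAmplitudeAt_of_flat g (i x'))
    (amp_of_iso e ((hasTorAmplitudeAt_id_iff (i x') a b _).1 h2))
  simpa using h3

theorem isPerfectRel_iff_push (i : X ⟶ Y) [IsClosedImmersion i] (g : Y ⟶ S) [Smooth g]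
    (F : CochainComplex X.Modules ℤ) :
    DerSch.IsPerfectRel (i ≫ g) F ↔ DCoh.IsPerfect (DCoh.toD Y ((DerSch.pushCx i).obj F)) := by
  have hiff := fun m => isPseudoCoherentRel_closedImmersion_iff i g (fun k => isNPseudoCoherent_of_flat _ k) m F
  exact ⟨fun h => isPerfect_of_locHasFiniteTorDim (fun m => (hiff m).1 (h.1 m)) (locHasFiniteTorDim_push i g h.2),
    fun h => ⟨fun m => (hiff m).2 (isPseudoCoherentD_of_isPerfect h m),
      locFiniteTorAmplitude_of_push i g (locHasFiniteTorDim_of_isPerfect h)⟩⟩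

end GrothLib.KSix19
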