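import Groth.Agent.Lib.KSix19.Chart
import Groth.Agent.Lib.OX.RRLocal
import Groth.Agent.Lib.OX.StupidGE
import Groth.Agent.Lib.OX.PerfectCriterion
import Mathlib.Algebra.Homology.DerivedCategory.ShortExact

/-! # Direct images of pseudo-coherent objects along closed immersions -/

set_option autoImplicit false
set_option maxHeartbeats 800000
set_option backward.isDefEq.respectTransparency false
universe u

open CategoryTheory CategoryTheory.Limits CategoryTheory.Pretriangulated AlgebraicGeometry HomologicalComplex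

attribute [local instance] HasDerivedCategory.standard

namespace GrothLib.KSix19

open GrothLib.OX

variable {U Z : Scheme.{u}} (i : U ⟶ Z)

instance additive_push : (Scheme.Modules.pushforward i).Additive :=
  (Scheme.Modules.pullbackPushforwardAdjunction i).right_adjoint_additive

instance preservesFiniteLimits_push : PreservesFiniteLimits (Scheme.Modules.pushforward i) := by
  have : PreservesLimitsOfSize.{0, 0} (Scheme.Modules.pushforward i) :=
    (Scheme.Modules.pullbackPushforwardAdjunction i).rightAdjoint_preservesLimits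
  exact PreservesLimitsOfSize.preservesFiniteLimits.{0, 0} _

instance preservesFiniteColimits_push [IsClosedImmersion i] :
    PreservesFiniteColimits (Scheme.Modules.pushforward i) :=
  preservesFiniteColimits_pushforward i

variable [IsClosedImmersion i]

/-- Direct image on derived categories. -/
noncomputable abbrev pushD : DCoh.D U ⥤ DCoh.D Z := (Scheme.Modules.pushforward i).mapDerivedCategory

/-- Direct image of a complex represents the direct image. -/
noncomputable def pushDFac (C : CochainComplex U.Modules ℤ) :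
    (pushD i).obj (DerivedCategory.Q.obj C) ≅ DerivedCategory.Q.obj ((DerSch.pushCx i).obj C) :=
  (Scheme.Modules.pushforward i).mapDerivedCategoryFactors.app C

/-- Pseudo-coherence of a module in degree `0`. -/
def ModPC {Y : Scheme.{u}} (M : Y.Modules) : Prop :=
  ∀ m : ℤ, DCoh.IsPseudoCoherentD m (DerivedCategory.Q.obj ((single Y.Modules (ComplexShape.up ℤ) 0).obj M))

theorem modPC_of_iso {Y : Scheme.{u}} {M N : Y.Modules} (e : M ≅ N) (h : ModPC M) : ModPC N := fun m =>
  isPseudoCoherentD_of_iso (h m) (DerivedCategory.Q.mapIso ((single Y.Modules (ComplexShape.up ℤ) 0).mapIso e))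

/-- Restriction of a module in degree zero. -/
theorem nonempty_resD_single {Y W : Scheme.{u}} (j : W ⟶ Y) [IsOpenImmersion j] (M : Y.Modules) :
    Nonempty ((resD j).obj (DerivedCategory.Q.obj ((single Y.Modules (ComplexShape.up ℤ) 0).obj M)) ≅
      DerivedCategory.Q.obj ((single W.Modules (ComplexShape.up ℤ) 0).obj
        ((Scheme.Modules.restrictFunctor j).obj M))) :=
  ⟨(resDFac j).app _ ≪≫ DerivedCategory.Q.mapIso
    ((singleMapHomologicalComplex (Scheme.Modules.restrictFunctor j) (ComplexShape.up ℤ) 0).app M)⟩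

theorem isPseudoCoherentD_resD' {Y W : Scheme.{u}} (j : W ⟶ Y) [IsOpenImmersion j] {m : ℤ} {K : DCoh.D Y}
    (h : DCoh.IsPseudoCoherentD m K) : DCoh.IsPseudoCoherentD m ((resD j).obj K) :=
  isPseudoCoherentD_iff.2 ((isPseudoCoherentD_iff.1 h).restrict Approx.of_iso
    (fun {_ _} h {_} k hk => @Approx.restrict _ _ _ h _ k hk) j)

theorem modPC_restrict {Y W : Scheme.{u}} (j : W ⟶ Y) [IsOpenImmersion j] {M : Y.Modules} (h : ModPC M) :
    ModPC ((Scheme.Modules.restrictFunctor j).obj M) := fun m => by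
  obtain ⟨e⟩ := nonempty_resD_single j M
  exact isPseudoCoherentD_of_iso (isPseudoCoherentD_resD' j (h m)) e

theorem isPseudoCoherentD_of_isZero {Y : Scheme.{u}} {K : DCoh.D Y} (h : IsZero K) (m : ℤ) :
    DCoh.IsPseudoCoherentD m K := by
  have : K.IsLE (m - 1) := (DerivedCategory.isLE_iff _ _).2 fun k _ =>
    (DerivedCategory.homologyFunctor _ k).map_isZero h
  exact isPseudoCoherentD_iff.2 fun x => ⟨Y, 𝟙 Y, inferInstance, ⟨x, rfl⟩,
    (approx_of_isLE this).restrict (𝟙 Y)⟩

theorem modPC_of_isZero {Y : Scheme.{u}} {M : Y.Modules} (h : IsZero M) : ModPC M := fun m =>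
  isPseudoCoherentD_of_isZero (DerivedCategory.Q.map_isZero
    ((single Y.Modules (ComplexShape.up ℤ) 0).map_isZero h)) m

theorem modPC_of_shortExact {Y : Scheme.{u}} {S : ShortComplex Y.Modules} (hS : S.ShortExact)
    (h₁ : ModPC S.X₁) (h₃ : ModPC S.X₃) : ModPC S.X₂ := fun m =>
  (isPseudoCoherentD_triangle m (DerivedCategory.triangleOfSES_distinguished
    (hS.map_of_exact (single Y.Modules (ComplexShape.up ℤ) 0)))).2.1 (h₁ m) (h₃ m)

/-- Finite sums of copies of a pseudo-coherent module. -/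
theorem modPC_sigma {Y : Scheme.{u}} (F : Y.Modules ⥤ Y.Modules) [F.Additive] {M : Y.Modules} (h : ModPC M) :
    ∀ n : ℕ, ModPC (∐ fun _ : Fin n => M)
  | 0 => modPC_of_isZero (IsZero.of_iso (isZero_zero _) (HasZeroObject.zeroIsoInitial ≪≫
      (IsInitial.uniqueUpToIso initialIsInitial
        (IsInitial.ofUniqueHom (fun Z => Sigma.desc fun k : Fin 0 => k.elim0)
          (fun Z g => Sigma.hom_ext _ _ fun k : Fin 0 => k.elim0)))).symm)
  | n + 1 => by
    let e : (∐ fun _ : Fin (n + 1) => M) ≅ M ⊞ (∐ fun _ : Fin n => M) :=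
      { hom := Sigma.desc (Fin.cases biprod.inl fun k => Sigma.ι (fun _ : Fin n => M) k ≫ biprod.inr)
        inv := biprod.desc (Sigma.ι (fun _ : Fin (n + 1) => M) 0)
          (Sigma.desc fun k => Sigma.ι (fun _ : Fin (n + 1) => M) k.succ)
        hom_inv_id := Sigma.hom_ext _ _ fun k => by
          refine Fin.cases ?_ (fun k => ?_) k <;> simp
        inv_hom_id := by
          refine biprod.hom_ext' _ _ ?_ ?_
          · simp
          · refine Sigma.hom_ext _ _ fun k => ?_
            simp }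
    exact modPC_of_iso e.symm (modPC_of_shortExact
      (S := ShortComplex.mk (biprod.inl : M ⟶ M ⊞ _) biprod.snd biprod.inl_snd)
      (ShortComplex.Splitting.shortExact ⟨biprod.fst, biprod.inr, biprod.inl_fst, biprod.inr_snd, biprod.total⟩)
      h (modPC_sigma F h n))

variable (V : Z.Opens)

/-- Direct image and restriction, on complexes. -/
noncomputable def pushResCxIso (C : CochainComplex U.Modules ℤ) :
    (resCx V.ι).obj ((DerSch.pushCx i).obj C) ≅ (DerSch.pushCx (i ∣_ V)).obj ((resCx (i ⁻¹ᵁ V).ι).obj C) :=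
  (NatIso.mapHomologicalComplex (pushRestrictIso i V) (ComplexShape.up ℤ)).app C

theorem nonempty_resD_pushD (K : DCoh.D U) :
    Nonempty ((resD V.ι).obj ((pushD i).obj K) ≅ (pushD (i ∣_ V)).obj ((resD (i ⁻¹ᵁ V).ι).obj K)) := by
  let P := DerivedCategory.Q.objPreimage K
  let e : DerivedCategory.Q.obj P ≅ K := DerivedCategory.Q.objObjPreimageIso K
  exact ⟨(resD V.ι).mapIso ((pushD i).mapIso e.symm ≪≫ pushDFac i P) ≪≫ (resDFac V.ι).app _ ≪≫
    DerivedCategory.Q.mapIso (pushResCxIso i V P) ≪≫ (pushDFac (i ∣_ V) _).symm ≪≫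
    (pushD (i ∣_ V)).mapIso (((resDFac (i ⁻¹ᵁ V).ι).app P).symm ≪≫ (resD (i ⁻¹ᵁ V).ι).mapIso e)⟩

/-- The hypothesis: the direct image of the structure sheaf is pseudo-coherent. -/
abbrev PushUnitPC : Prop := ModPC ((Scheme.Modules.pushforward i).obj (Coh.structureModule U))

theorem pushUnitPC_restrict (h : PushUnitPC i) : PushUnitPC (i ∣_ V) :=
  modPC_of_iso ((pushRestrictIso i V).app (Coh.structureModule U) ≪≫
    (Scheme.Modules.pushforward (i ∣_ V)).mapIso
      ((Scheme.Modules.restrictFunctorIsoPullback (i ⁻¹ᵁ V).ι).app _ ≪≫ pullUnitIso (i ⁻¹ᵁ V).ι))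
    (modPC_restrict V.ι h)

/-- Every open of the source is, near each point, cut out from the target. -/
theorem exists_preimage_eq {U' : U.Opens} : ∃ V : Z.Opens, i ⁻¹ᵁ V = U' := by
  obtain ⟨W, hW, hW'⟩ := i.isClosedEmbedding.isInducing.isOpen_iff.1 U'.2
  exact ⟨⟨W, hW⟩, TopologicalSpace.Opens.ext hW'⟩

/-- Away from the image there is nothing. -/
theorem isPseudoCoherentD_pushD_outside (K : DCoh.D U) (V : Z.Opens) (hV : i ⁻¹ᵁ V = ⊥) (m : ℤ) :
    DCoh.IsPseudoCoherentD m ((resD V.ι).obj ((pushD i).obj K)) := by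
  obtain ⟨e⟩ := nonempty_resD_pushD i V K
  refine isPseudoCoherentD_of_isZero ?_ m
  refine IsZero.of_iso ((pushD (i ∣_ V)).map_isZero ?_) e
  let P := DerivedCategory.Q.objPreimage ((resD (i ⁻¹ᵁ V).ι).obj K)
  refine IsZero.of_iso (DerivedCategory.Q.map_isZero ?_) (DerivedCategory.Q.objObjPreimageIso _).symm
  have hE : IsEmpty ↥(i ⁻¹ᵁ V).toScheme := by
    refine ⟨fun z => ?_⟩
    exact (hV.le (show (z.1 : U) ∈ i ⁻¹ᵁ V from z.2) : _)
  exact (IsZero.iff_id_eq_zero _).2 (HomologicalComplex.hom_ext _ _ fun n =>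
    (isZero_of_stalks (M := P.X n) fun z => hE.elim z).eq_of_src _ _)

/-- The direct image of a finite locally free module is pseudo-coherent. -/
theorem modPC_push_of_isFinLocFree (h : PushUnitPC i) {M : U.Modules} (hM : FlatMod.IsFinLocFree M) :
    ModPC ((Scheme.Modules.pushforward i).obj M) := fun m => by
  refine isPseudoCoherentD_iff.2 (Locally.of_local Approx.of_iso fun z => ?_)
  by_cases hz : z ∈ Set.range i
  · obtain ⟨y, rfl⟩ := hz
    obtain ⟨W, n, hy, ⟨e⟩⟩ := hM y
    obtain ⟨V, rfl⟩ := exists_preimage_eq i (U' := W)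
    refine ⟨V.toScheme, V.ι, inferInstance, ⟨⟨i y, hy⟩, rfl⟩, isPseudoCoherentD_iff.1 ?_⟩
    obtain ⟨s⟩ := nonempty_resD_single V.ι ((Scheme.Modules.pushforward i).obj M)
    refine isPseudoCoherentD_of_iso ?_ s.symm
    have : PreservesColimitsOfShape (Discrete (Fin n)) (Scheme.Modules.pushforward (i ∣_ V)) := inferInstance
    exact modPC_of_iso ((PreservesCoproduct.iso (Scheme.Modules.pushforward (i ∣_ V)) _).symm ≪≫
      (Scheme.Modules.pushforward (i ∣_ V)).mapIso e.symm ≪≫ ((pushRestrictIso i V).app M).symm)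
      (modPC_sigma (𝟭 _) (pushUnitPC_restrict i V h) n) m
  · let V : Z.Opens := ⟨(Set.range i)ᶜ, i.isClosedEmbedding.isClosed_range.isOpen_compl⟩
    have hV : i ⁻¹ᵁ V = ⊥ := by
      refine TopologicalSpace.Opens.ext (Set.eq_empty_of_forall_notMem fun y hy => ?_)
      exact hy ⟨y, rfl⟩
    refine ⟨V.toScheme, V.ι, inferInstance, ⟨⟨z, hz⟩, rfl⟩, isPseudoCoherentD_iff.1 ?_⟩
    exact isPseudoCoherentD_of_iso (isPseudoCoherentD_pushD_outside i
      (DerivedCategory.Q.obj ((single U.Modules (ComplexShape.up ℤ) 0).obj M)) V hV m)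
      ((resD V.ι).mapIso (pushDFac i _ ≪≫ DerivedCategory.Q.mapIso
        ((singleMapHomologicalComplex (Scheme.Modules.pushforward i) (ComplexShape.up ℤ) 0).app M)))

theorem single_shift_pc {Y : Scheme.{u}} {M : Y.Modules} (h : ModPC M) (p m : ℤ) :
    DCoh.IsPseudoCoherentD m (DerivedCategory.Q.obj ((single Y.Modules (ComplexShape.up ℤ) p).obj M)) :=
  isPseudoCoherentD_of_iso (isPseudoCoherentD_shift (h (-p + m)) (-p) m rfl)
    ((((DerivedCategory.Q (C := Y.Modules)).commShiftIso (-p)).app _).symm ≪≫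
      DerivedCategory.Q.mapIso (((CochainComplex.singleFunctors Y.Modules).shiftIso (-p) p 0 (by omega)).app M))

/-- The direct image of a strictly perfect complex is pseudo-coherent. -/
theorem isPseudoCoherentD_pushD_strict (h : PushUnitPC i) (m : ℤ) :
    ∀ (d : ℕ) (p : ℤ) (E : CochainComplex U.Modules ℤ), (∀ k, k < p ∨ p + d ≤ k → IsZero (E.X k)) →
      (∀ k, FlatMod.IsFinLocFree (E.X k)) →
      DCoh.IsPseudoCoherentD m (DerivedCategory.Q.obj ((DerSch.pushCx i).obj E))
  | 0, p, E, hz, _ => isPseudoCoherentD_of_isZero (DerivedCategory.Q.map_isZero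
      ((IsZero.iff_id_eq_zero _).2 (HomologicalComplex.hom_ext _ _ fun k =>
        ((Scheme.Modules.pushforward i).map_isZero (hz k (by omega))).eq_of_src _ _))) m
  | d + 1, p, E, hz, hfl => by
    let T := GrothLib.StupidGE.trunc E (p + 1)
    let ι := GrothLib.StupidGE.ι E (p + 1)
    have hTfl : ∀ k, FlatMod.IsFinLocFree (T.X k) := fun k => by
      rcases lt_or_ge k (p + 1) with hk | hk
      · exact DCoh.isFinLocFree_of_isZero (GrothLib.StupidGE.isZero_trunc E (p + 1) hk)
      · have := GrothLib.StupidGE.isIso_ι_f E (p + 1) hk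
        exact DCoh.isFinLocFree_of_iso (asIso (ι.f k)).symm (hfl k)
    have hTz : ∀ k, k < p + 1 ∨ p + 1 + d ≤ k → IsZero (T.X k) := fun k hk => by
      rcases hk with hk | hk
      · exact GrothLib.StupidGE.isZero_trunc E (p + 1) hk
      · exact GrothLib.StupidGE.isZero_trunc_of_isZero E (p + 1) (hz k (Or.inr (by push_cast; omega)))
    have h₁ := isPseudoCoherentD_pushD_strict h m d (p + 1) T hTz hTfl
    have : Mono ι := HomologicalComplex.mono_of_mono_f ι fun k =>
      show Mono (equalizer.ι (GrothLib.StupidGE.sel E (p + 1) k) 0) from inferInstance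
    let S : ShortComplex (CochainComplex U.Modules ℤ) := ShortComplex.mk ι (cokernel.π ι) (cokernel.condition ι)
    have hS : S.ShortExact :=
      { exact := ShortComplex.exact_of_g_is_cokernel _ (cokernelIsCokernel ι) }
    have hC : ∀ k, k ≠ p → IsZero ((cokernel ι).X k) := fun k hk => by
      have hSk := hS.map_of_exact (HomologicalComplex.eval U.Modules (ComplexShape.up ℤ) k)
      rcases lt_or_gt_of_ne hk with hk | hk
      · exact @IsZero.of_epi _ _ _ _ _ ((cokernel.π ι).f k) hSk.epi_g (hz k (Or.inl hk))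
      · have := GrothLib.StupidGE.isIso_ι_f E (p + 1) (i := k) (by omega)
        refine (IsZero.iff_id_eq_zero _).2 ?_
        have h0 : (cokernel.π ι).f k = 0 := by
          rw [← cancel_epi (ι.f k), comp_zero, ← HomologicalComplex.comp_f, cokernel.condition]; rfl
        have := hSk.epi_g
        exact (cancel_epi ((cokernel.π ι).f k)).1 ((congrArg (· ≫ 𝟙 _) h0).trans (by simp))
    have hCp : FlatMod.IsFinLocFree ((cokernel ι).X p) := by
      have hSk := hS.map_of_exact (HomologicalComplex.eval U.Modules (ComplexShape.up ℤ) p)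
      have : IsIso ((cokernel.π ι).f p) := hSk.isIso_g_iff.2
        (GrothLib.StupidGE.isZero_trunc E (p + 1) (i := p) (by omega))
      exact DCoh.isFinLocFree_of_iso (asIso ((cokernel.π ι).f p)) (hfl p)
    let C' := (DerSch.pushCx i).obj (cokernel ι)
    let c : C' ≅ (single Z.Modules (ComplexShape.up ℤ) p).obj
        ((Scheme.Modules.pushforward i).obj ((cokernel ι).X p)) :=
      { hom := HomologicalComplex.mkHomToSingle (𝟙 _) fun k hk => by
          simp only [ComplexShape.up_Rel] at hk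
          exact ((Scheme.Modules.pushforward i).map_isZero (hC k (by omega))).eq_of_src _ _
        inv := HomologicalComplex.mkHomFromSingle (𝟙 _) fun k hk => by
          simp only [ComplexShape.up_Rel] at hk
          exact ((Scheme.Modules.pushforward i).map_isZero (hC k (by omega))).eq_of_tgt _ _
        hom_inv_id := HomologicalComplex.hom_ext _ _ fun k => by
          by_cases hk : k = p
          · subst hk; simp
          · exact ((Scheme.Modules.pushforward i).map_isZero (hC k hk)).eq_of_src _ _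
        inv_hom_id := HomologicalComplex.from_single_hom_ext (by simp) }
    have h₃ : DCoh.IsPseudoCoherentD m (DerivedCategory.Q.obj C') :=
      isPseudoCoherentD_of_iso (single_shift_pc (modPC_push_of_isFinLocFree i h hCp) p m)
        (DerivedCategory.Q.mapIso c.symm)
    exact (isPseudoCoherentD_triangle m (DerivedCategory.triangleOfSES_distinguished
      (hS.map_of_exact (DerSch.pushCx i)))).2.1 h₁ h₃

/-- **Direct image along a closed immersion preserves pseudo-coherence.** -/
theorem isPseudoCoherentD_pushD (h : PushUnitPC i) {m : ℤ} {K : DCoh.D U} (hK : DCoh.IsPseudoCoherentD m K) :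
    DCoh.IsPseudoCoherentD m ((pushD i).obj K) := by
  refine isPseudoCoherentD_iff.2 (Locally.of_local Approx.of_iso fun z => ?_)
  by_cases hz : z ∈ Set.range i
  · obtain ⟨y, rfl⟩ := hz
    obtain ⟨W, hy, hW⟩ := Approx.exists_open hK y
    obtain ⟨V, rfl⟩ := exists_preimage_eq i (U' := W)
    refine ⟨V.toScheme, V.ι, inferInstance, ⟨⟨i y, hy⟩, rfl⟩, isPseudoCoherentD_iff.1 ?_⟩
    obtain ⟨e⟩ := nonempty_resD_pushD i V K
    refine isPseudoCoherentD_of_iso ?_ e.symm
    obtain ⟨E, α, hE, hα⟩ := hW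
    have hgood := hα.map (Scheme.Modules.pushforward (i ∣_ V))
    obtain ⟨⟨p, q, hpq⟩, hEfl⟩ := hE
    have hP : ∀ n, DCoh.IsPseudoCoherentD n ((pushD (i ∣_ V)).obj (DerivedCategory.Q.obj E)) := fun n =>
      isPseudoCoherentD_of_iso (isPseudoCoherentD_pushD_strict (i ∣_ V) (pushUnitPC_restrict i V h) n
        (q + 1 - p).toNat p E (fun k hk => hpq k (by omega)) hEfl) (pushDFac (i ∣_ V) E).symm
    obtain ⟨T, v, w, hT, hT'⟩ := GrothLib.DerCat.exists_triangle_of_good hgood
    exact (isPseudoCoherentD_triangle m hT).2.1 (hP m)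
      (isPseudoCoherentD_iff.2 fun x => ⟨_, 𝟙 _, inferInstance, ⟨x, rfl⟩, (approx_of_isLE hT').restrict (𝟙 _)⟩)
  · let V : Z.Opens := ⟨(Set.range i)ᶜ, i.isClosedEmbedding.isClosed_range.isOpen_compl⟩
    have hV : i ⁻¹ᵁ V = ⊥ :=
      TopologicalSpace.Opens.ext (Set.eq_empty_of_forall_notMem fun y hy => hy ⟨y, rfl⟩)
    exact ⟨V.toScheme, V.ι, inferInstance, ⟨⟨z, hz⟩, rfl⟩,
      isPseudoCoherentD_iff.1 (isPseudoCoherentD_pushD_outside i K V hV m)⟩

/-- Local generators of the top cohomology, as maps from free modules. -/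
theorem exists_free_epi_top {Y : Scheme.{u}} {m : ℤ} {K : DCoh.D Y} (h : DCoh.IsPseudoCoherentD m K)
    (hz : ∀ k, m < k → IsZero (DCoh.HD K k)) (x : Y) :
    ∃ (V : Y.Opens) (n : ℕ) (p : FlatMod.freeMod V.toScheme n ⟶
      (Scheme.Modules.restrictFunctor V.ι).obj (DCoh.HD K m)), x ∈ V ∧ Epi p := by
  obtain ⟨V, hx, P, α, hP, hα⟩ := Approx.exists_open h x
  have hZ := isFinLocFree_cycles hP m fun k hk => exactAt_approx hα hk (hz k hk)
  obtain ⟨W, n, hW, ⟨t⟩⟩ := hZ ⟨x, hx⟩
  let R := Scheme.Modules.restrictFunctor W.ι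
  let q : P.cycles m ⟶ (Scheme.Modules.restrictFunctor V.ι).obj (DCoh.HD K m) :=
    P.homologyπ m ≫ (hdIso P m).inv ≫ (DerivedCategory.homologyFunctor _ m).map α ≫
      (nonempty_hd_resD V.ι K m).some.hom
  have : Epi q := @epi_comp _ _ _ _ _ _ inferInstance _ (@epi_comp _ _ _ _ _ _ inferInstance _
    (@epi_comp _ _ _ _ _ _ hα.2 _ inferInstance))
  let jj := W.ι ≫ V.ι
  have hjj : jj.isoOpensRange.inv ≫ jj = jj.opensRange.ι := by
    rw [Iso.inv_comp_eq, Scheme.Hom.isoOpensRange_hom_ι]
  let c := Scheme.Modules.restrictFunctorCongr hjj.symm ≪≫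
    Scheme.Modules.restrictFunctorComp jj.isoOpensRange.inv jj
  let R' := Scheme.Modules.restrictFunctor jj.isoOpensRange.inv
  let p₁ : FlatMod.freeMod W n ⟶ (Scheme.Modules.restrictFunctor jj).obj (DCoh.HD K m) :=
    t.inv ≫ R.map q ≫ (Scheme.Modules.restrictFunctorComp W.ι V.ι).inv.app (DCoh.HD K m)
  have : Epi p₁ := @epi_comp _ _ _ _ _ _ inferInstance _ (@epi_comp _ _ _ _ _ _ inferInstance _ inferInstance)
  refine ⟨jj.opensRange, n, (DCoh.restrictFreeModIso _ n).inv ≫ R'.map p₁ ≫ c.inv.app _,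
    ⟨⟨⟨x, hx⟩, hW⟩, rfl⟩, ?_⟩
  exact @epi_comp _ _ _ _ _ _ inferInstance _ (@epi_comp _ _ _ _ _ _ inferInstance _ inferInstance)

theorem homologyπ_mapHomologyIso {C D : Type*} [Category C] [Category D] [Abelian C] [Abelian D]
    (S : ShortComplex C) (F : C ⥤ D) [F.PreservesZeroMorphisms] [F.PreservesLeftHomologyOf S] :
    (S.map F).homologyπ ≫ (S.mapHomologyIso F).hom = (S.mapCyclesIso F).hom ≫ F.map S.homologyπ := by
  rw [S.leftHomologyData.mapHomologyIso_eq F, Iso.trans_hom, Functor.mapIso_hom, Iso.symm_hom,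
    ShortComplex.LeftHomologyData.homologyπ_comp_homologyIso_hom_assoc]
  simp only [ShortComplex.LeftHomologyData.map_π, ← Functor.map_comp]
  congr 2
  rw [Iso.comp_inv_eq, ShortComplex.LeftHomologyData.homologyπ_comp_homologyIso_hom]
  simp [ShortComplex.LeftHomologyData.cyclesIso, ShortComplex.cyclesMapIso']
  exact (Category.id_comp _).symm

/-- Direct image along a closed immersion is faithful. -/
theorem faithful_push : (Scheme.Modules.pushforward i).Faithful := by
  refine ⟨fun {M N} f g hfg => ?_⟩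
  rw [← sub_eq_zero]
  have h0 : (Scheme.Modules.pushforward i).map (f - g) = 0 := by rw [Functor.map_sub, hfg, sub_self]
  have hs : ∀ y : U, (stalk y).map (f - g) = 0 := fun y => by
    have hn := (pushStalkIso i y).hom.naturality (f - g)
    have h1 : (ModuleCat.restrictScalars (i.stalkMap y).hom).map ((stalk y).map (f - g)) = 0 := by
      rw [← cancel_epi ((pushStalkIso i y).hom.app M), comp_zero]
      refine hn.symm.trans ?_
      have h2 : (Scheme.Modules.pushforward i ⋙ stalk (i y)).map (f - g) = 0 := by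
        rw [Functor.comp_map, h0, Functor.map_zero]
      rw [h2, zero_comp]
    exact (ModuleCat.restrictScalars (i.stalkMap y).hom).map_injective (h1.trans (Functor.map_zero _ _ _).symm)
  have hk : IsZero (image (f - g)) := isZero_of_stalks fun y => by
    rw [IsZero.iff_id_eq_zero, ← cancel_epi ((stalk y).map (factorThruImage (f - g))), comp_zero, Category.comp_id,
      ← cancel_mono ((stalk y).map (image.ι (f - g))), zero_comp, ← Functor.map_comp, image.fac]
    exact hs y
  rw [← image.fac (f - g), hk.eq_of_src (image.ι (f - g)) 0, comp_zero]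

/-- **Direct image along a closed immersion reflects pseudo-coherence.** -/
theorem isPseudoCoherentD_of_pushD_aux (m : ℤ) :
    ∀ (d : ℕ) {U Z : Scheme.{u}} (i : U ⟶ Z) [IsClosedImmersion i], PushUnitPC i → ∀ (K : DCoh.D U),
      K.IsLE (m - 1 + d) → DCoh.IsPseudoCoherentD m ((pushD i).obj K) → DCoh.IsPseudoCoherentD m K
  | 0, U, Z, i, _, _, K, hK, _ => by
    have : K.IsLE (m - 1) := by simpa using hK
    exact isPseudoCoherentD_iff.2 fun x => ⟨_, 𝟙 _, inferInstance, ⟨x, rfl⟩, (approx_of_isLE this).restrict (𝟙 _)⟩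
  | d + 1, U, Z, i, _, h, K, hK, hpush => by
    let b : ℤ := m + d
    have hKb : K.IsLE b := by
      have hb : b = m - 1 + ((d + 1 : ℕ) : ℤ) := by simp only [b]; push_cast; omega
      rw [hb]; exact hK
    refine isPseudoCoherentD_iff.2 (Locally.of_local Approx.of_iso fun y => ?_)
    obtain ⟨V, n, p, hy, hp⟩ := exists_free_epi_top (isPseudoCoherentD_mono hpush (show m ≤ b by omega))
      (fun k hk => ((Scheme.Modules.pushforward i).map_isZero (DerivedCategory.isZero_of_isLE K b k hk)).of_iso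
        (GrothLib.DerTrunc.nonempty_homology_mapDerivedCategory (Scheme.Modules.pushforward i) K k).some) (i y)
    let i' := i ∣_ V
    let K' := (resD (i ⁻¹ᵁ V).ι).obj K
    have := faithful_push i'
    let H := (Scheme.Modules.restrictFunctor (i ⁻¹ᵁ V).ι).obj (DCoh.HD K b)
    let p' : FlatMod.freeMod V.toScheme n ⟶ (Scheme.Modules.pushforward i').obj H :=
      p ≫ (Scheme.Modules.restrictFunctor V.ι).map
        (GrothLib.DerTrunc.nonempty_homology_mapDerivedCategory (Scheme.Modules.pushforward i) K b).some.hom ≫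
        (pushRestrictIso i V).hom.app (DCoh.HD K b)
    have : Epi p' := @epi_comp _ _ _ _ _ p hp _ (@epi_comp _ _ _ _ _ _ inferInstance _ inferInstance)
    let adj := Scheme.Modules.pullbackPushforwardAdjunction i'
    have : PreservesColimitsOfSize.{0, 0} (Scheme.Modules.pullback i') := adj.leftAdjoint_preservesColimits
    let g : FlatMod.freeMod (i ⁻¹ᵁ V).toScheme n ⟶ H :=
      (pullFreeModIso i' n).inv ≫ (Scheme.Modules.pullback i').map p' ≫ adj.counit.app H
    have hg : Epi g := @epi_comp _ _ _ _ _ _ inferInstance _ (@epi_comp _ _ _ _ _ _ inferInstance _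
      (adj.counit_epi_of_R_faithful H))
    -- a representative bounded above by `b`
    let C₀ := DerivedCategory.Q.objPreimage K'
    let e₀ : DerivedCategory.Q.obj C₀ ≅ K' := DerivedCategory.Q.objObjPreimageIso K'
    obtain ⟨e₁⟩ := nonempty_hd_resD (i ⁻¹ᵁ V).ι K b
    have hLE : C₀.IsLE b := (C₀.isLE_iff b).2 fun k hk => by
      rw [exactAt_iff_isZero_homology]
      exact ((Scheme.Modules.restrictFunctor (i ⁻¹ᵁ V).ι).map_isZero
        (DerivedCategory.isZero_of_isLE K b k hk)).of_iso ((hdIso C₀ k).symm ≪≫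
          (DerivedCategory.homologyFunctor _ k).mapIso e₀ ≪≫ (nonempty_hd_resD (i ⁻¹ᵁ V).ι K k).some)
    let C := C₀.truncLE b
    let e : DerivedCategory.Q.obj C ≅ K' := asIso (DerivedCategory.Q.map (C₀.ιTruncLE b)) ≪≫ e₀
    let π : C.cycles b ⟶ H := C.homologyπ b ≫ (hdIso C b).inv ≫ (DerivedCategory.homologyFunctor _ b).map e.hom ≫ e₁.hom
    have : Epi (C.homologyπ b) := inferInstanceAs (Epi (C.sc b).homologyπ)
    have : Epi π := @epi_comp _ _ _ _ _ _ inferInstance _ inferInstance
    obtain ⟨W, l, hyW, hl⟩ := exists_local_lift_free π g (⟨y, hy⟩ : (i ⁻¹ᵁ V).toScheme)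
    obtain ⟨V', hV'⟩ := exists_preimage_eq i' (U' := W)
    subst hV'
    let W := i' ⁻¹ᵁ V'
    let R := Scheme.Modules.restrictFunctor W.ι
    let F := R.obj (FlatMod.freeMod (i ⁻¹ᵁ V).toScheme n)
    let D := (resCx W.ι).obj C
    have hd : ∀ k, b + 1 = k → (l ≫ R.map (C.iCycles b)) ≫ D.d b k = 0 := fun k _ => by
      change (l ≫ R.map (C.iCycles b)) ≫ R.map (C.d b k) = 0
      rw [Category.assoc, ← R.map_comp, C.iCycles_d, Functor.map_zero, comp_zero]
    let φ : (single W.toScheme.Modules (ComplexShape.up ℤ) b).obj F ⟶ D :=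
      HomologicalComplex.mkHomFromSingle (l ≫ R.map (C.iCycles b)) hd
    let K'' := (resD W.ι).obj K'
    let eD : DerivedCategory.Q.obj D ≅ K'' := ((resDFac W.ι).app C).symm ≪≫ (resD W.ι).mapIso e
    have hDz : ∀ k, b < k → IsZero (D.X k) := fun k hk =>
      (Scheme.Modules.restrictFunctor W.ι).map_isZero (CochainComplex.isZero_of_isStrictlyLE C b k hk)
    have hgood : DerCat.Good (DerivedCategory.Q.map φ) b := by
      let F₀ := fun k => DerivedCategory.homologyFunctorFactors W.toScheme.Modules k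
      refine ⟨fun k hk => ?_, ?_⟩
      · have h1 : IsZero ((DerivedCategory.homologyFunctor _ k).obj
            (DerivedCategory.Q.obj ((single W.toScheme.Modules (ComplexShape.up ℤ) b).obj F))) :=
          ((exactAt_iff_isZero_homology _ k).1 (ExactAt.of_isZero
            (isZero_single_obj_X _ b F k (by omega)))).of_iso ((F₀ k).app _)
        have h2 : IsZero ((DerivedCategory.homologyFunctor _ k).obj (DerivedCategory.Q.obj D)) :=
          ((exactAt_iff_isZero_homology _ k).1 (ExactAt.of_isZero (hDz k hk))).of_iso ((F₀ k).app _)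
        exact ⟨0, h1.eq_of_src _ _, h2.eq_of_src _ _⟩
      · suffices Epi (homologyMap φ b) from
          ((MorphismProperty.epimorphisms _).arrow_mk_iso_iff
            (Arrow.isoMk ((F₀ b).app _) ((F₀ b).app D) ((F₀ b).hom.naturality φ).symm)).2 this
        let s : F ⟶ ((single W.toScheme.Modules (ComplexShape.up ℤ) b).obj F).cycles b :=
          (singleObjCyclesSelfIso (ComplexShape.up ℤ) b F).inv
        let cD : D.cycles b ≅ R.obj (C.cycles b) := (C.sc b).mapCyclesIso R
        have hcD : cD.inv ≫ D.iCycles b = R.map (C.iCycles b) := (Iso.inv_comp_eq _).2 ((C.sc b).mapCyclesIso_hom_iCycles R).symm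
        have hs : s ≫ cyclesMap φ b = l ≫ cD.inv := by
          rw [← cancel_mono (D.iCycles b), Category.assoc, cyclesMap_i, Category.assoc, hcD]
          simp [s, φ]
        let ρ : D.homology b ≅ R.obj (C.homology b) := (C.sc b).mapHomologyIso R
        have hρ : cD.inv ≫ D.homologyπ b ≫ ρ.hom = R.map (C.homologyπ b) := by
          rw [Iso.inv_comp_eq]
          exact homologyπ_mapHomologyIso (C.sc b) R
        have : Epi (l ≫ R.map (C.homologyπ b)) := by
          have h' : (l ≫ R.map (C.homologyπ b)) ≫ R.map ((hdIso C b).inv ≫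
              (DerivedCategory.homologyFunctor _ b).map e.hom ≫ e₁.hom) = R.map g := by
            rw [Category.assoc, ← R.map_comp]
            exact hl
          have : Epi ((l ≫ R.map (C.homologyπ b)) ≫ R.map ((hdIso C b).inv ≫
              (DerivedCategory.homologyFunctor _ b).map e.hom ≫ e₁.hom)) := by
            rw [h']; infer_instance
          have hh := @epi_comp _ _ _ _ _ _ this (inv (R.map ((hdIso C b).inv ≫
            (DerivedCategory.homologyFunctor _ b).map e.hom ≫ e₁.hom))) inferInstance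
          rwa [Category.assoc _ (R.map _), IsIso.hom_inv_id, Category.comp_id] at hh
        have h3 : (s ≫ ((single W.toScheme.Modules (ComplexShape.up ℤ) b).obj F).homologyπ b) ≫
            homologyMap φ b ≫ ρ.hom = l ≫ R.map (C.homologyπ b) := by
          rw [Category.assoc, homologyπ_naturality_assoc, reassoc_of% hs, hρ]
        have : Epi ((s ≫ ((single W.toScheme.Modules (ComplexShape.up ℤ) b).obj F).homologyπ b) ≫
            homologyMap φ b ≫ ρ.hom) := h3 ▸ this
        have : Epi (homologyMap φ b ≫ ρ.hom) := epi_of_epi (s ≫ ((single W.toScheme.Modules (ComplexShape.up ℤ) b).obj F).homologyπ b) _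
        have hh := @epi_comp _ _ _ _ _ _ this ρ.inv inferInstance
        rwa [Category.assoc, ρ.hom_inv_id, Category.comp_id] at hh
    -- induction
    obtain ⟨Tc, v, w, hT, hT'⟩ := GrothLib.DerCat.exists_triangle_of_good hgood
    have hu : PushUnitPC (i' ∣_ V') := pushUnitPC_restrict i' V' (pushUnitPC_restrict i V h)
    have hFfl : FlatMod.IsFinLocFree F := isFinLocFree_restrict W.ι (isFinLocFree_freeMod _ n)
    have hF : ∀ k, DCoh.IsPseudoCoherentD k (DerivedCategory.Q.obj
        ((single W.toScheme.Modules (ComplexShape.up ℤ) b).obj F)) := fun k =>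
      isPseudoCoherentD_of_isPerfect (isPerfect_iff.2 fun x => ⟨_, 𝟙 _, inferInstance, ⟨x, rfl⟩,
        Strict.restrict ⟨_, ⟨⟨b, b, fun q hq => isZero_single_obj_X _ b F q (by omega)⟩, fun q => by
          by_cases hq : q = b
          · subst hq; exact DCoh.isFinLocFree_of_iso (singleObjXSelf _ _ F).symm hFfl
          · exact DCoh.isFinLocFree_of_isZero (isZero_single_obj_X _ b F q hq)⟩, ⟨Iso.refl _⟩⟩ (𝟙 _)⟩) k
    have hpK : DCoh.IsPseudoCoherentD m ((pushD (i' ∣_ V')).obj (DerivedCategory.Q.obj D)) := by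
      obtain ⟨a₁⟩ := nonempty_resD_pushD i V K
      obtain ⟨a₂⟩ := nonempty_resD_pushD i' V' K'
      exact isPseudoCoherentD_of_iso (isPseudoCoherentD_resD' V'.ι
        (isPseudoCoherentD_of_iso (isPseudoCoherentD_resD' V.ι hpush) a₁)) (a₂ ≪≫
          (pushD (i' ∣_ V')).mapIso eD.symm)
    have hTle : Tc.IsLE (m - 1 + d) := by
      have : m - 1 + (d : ℤ) = b - 1 := by simp only [b]; omega
      rw [this]; exact hT'
    have hTpc : DCoh.IsPseudoCoherentD m Tc :=
      isPseudoCoherentD_of_pushD_aux m d (i' ∣_ V') hu Tc hTle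
        ((isPseudoCoherentD_triangle m ((pushD (i' ∣_ V')).map_distinguished _ hT)).1
          (isPseudoCoherentD_pushD (i' ∣_ V') hu (hF _)) hpK)
    have hK'' : DCoh.IsPseudoCoherentD m K'' :=
      isPseudoCoherentD_of_iso ((isPseudoCoherentD_triangle m hT).2.1 (hF m) hTpc) eD
    refine ⟨W.toScheme, W.ι ≫ (i ⁻¹ᵁ V).ι, inferInstance, ⟨⟨⟨y, hy⟩, hyW⟩, rfl⟩, isPseudoCoherentD_iff.1 ?_⟩
    exact isPseudoCoherentD_of_iso hK'' (nonempty_resD_comp W.ι (i ⁻¹ᵁ V).ι K).some.symm

theorem isPseudoCoherentD_of_pushD (h : PushUnitPC i) {m : ℤ} {K : DCoh.D U}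
    (hK : DCoh.IsPseudoCoherentD m ((pushD i).obj K)) : DCoh.IsPseudoCoherentD m K := by
  refine isPseudoCoherentD_iff.2 (Locally.of_local Approx.of_iso fun y => ?_)
  obtain ⟨V, hy, hV⟩ := Approx.exists_open hK (i y)
  obtain ⟨e⟩ := nonempty_resD_pushD i V K
  obtain ⟨b, hb⟩ := exists_isLE_of_approx (hV.of_iso e)
  let K' := (resD (i ⁻¹ᵁ V).ι).obj K
  have hz : ∀ k, b < k → IsZero ((DerivedCategory.homologyFunctor _ k).obj K') := fun k hk => by
    have := faithful_push (i ∣_ V)
    refine (IsZero.iff_id_eq_zero _).2 ((Scheme.Modules.pushforward (i ∣_ V)).map_injective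
      (IsZero.eq_of_src ?_ _ _))
    exact ((DerivedCategory.isZero_of_isLE _ b k hk).of_iso
      (GrothLib.DerTrunc.nonempty_homology_mapDerivedCategory (Scheme.Modules.pushforward (i ∣_ V)) K' k).some.symm)
  have hLE : K'.IsLE (m - 1 + (b - m + 1).toNat) := (DerivedCategory.isLE_iff _ _).2 fun k hk => hz k (by omega)
  refine ⟨_, (i ⁻¹ᵁ V).ι, inferInstance, ⟨⟨y, hy⟩, rfl⟩, isPseudoCoherentD_iff.1 ?_⟩
  exact isPseudoCoherentD_of_pushD_aux m _ (i ∣_ V) (pushUnitPC_restrict i V h) K' hLE
    (isPseudoCoherentD_of_iso (isPseudoCoherentD_resD' V.ι hK) e)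

theorem isPseudoCoherentD_pushD_iff (h : PushUnitPC i) {m : ℤ} {K : DCoh.D U} :
    DCoh.IsPseudoCoherentD m ((pushD i).obj K) ↔ DCoh.IsPseudoCoherentD m K :=
  ⟨isPseudoCoherentD_of_pushD i h, isPseudoCoherentD_pushD i h⟩

end GrothLib.KSix19
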