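import Groth.Agent.Lib.KSix19.ChartIndep
import Groth.Agent.Lib.PerfHom.Examples

/-! # Operations on relative pseudo-coherence -/

set_option autoImplicit false
set_option maxHeartbeats 800000
set_option backward.isDefEq.respectTransparency false
universe u

open CategoryTheory CategoryTheory.Limits CategoryTheory.Pretriangulated AlgebraicGeometry HomologicalComplex
open Opposite TopologicalSpace

attribute [local instance] HasDerivedCategory.standard

namespace GrothLib.KSix19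

open GrothLib.OX

variable {X Y Z : Scheme.{u}}

/-- Finite locally free modules are pseudo-coherent. -/
theorem modPC_of_isFinLocFree {M : X.Modules} (hM : FlatMod.IsFinLocFree M) : ModPC M := fun k =>
  isPseudoCoherentD_of_isPerfect (isPerfect_iff.2 fun x => ⟨_, 𝟙 _, inferInstance, ⟨x, rfl⟩,
    Strict.restrict ⟨_, ⟨⟨0, 0, fun q hq => isZero_single_obj_X _ 0 M q (by omega)⟩, fun q => by
      by_cases hq : q = 0
      · subst hq; exact DCoh.isFinLocFree_of_iso (singleObjXSelf _ _ M).symm hM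
      · exact DCoh.isFinLocFree_of_isZero (isZero_single_obj_X _ 0 M q hq)⟩, ⟨Iso.refl _⟩⟩ (𝟙 _)⟩) k

theorem modPC_structureModule (X : Scheme.{u}) : ModPC (Coh.structureModule X) :=
  modPC_of_isFinLocFree fun x => ⟨⊤, 1, trivial,
    ⟨(Scheme.Modules.restrictFunctorIsoPullback (⊤ : X.Opens).ι).app _ ≪≫ pullUnitIso _ ≪≫
      { hom := Sigma.ι (fun _ : Fin 1 => Coh.structureModule (⊤ : X.Opens).toScheme) 0
        inv := Sigma.desc fun _ => 𝟙 _
        hom_inv_id := by simp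
        inv_hom_id := Sigma.hom_ext _ _ fun k => by rw [Subsingleton.elim k 0]; simp }⟩⟩

/-- The test as pseudo-coherence of a direct image in the derived category. -/
theorem pcOn_iff_pushD {P : Type u} [CommRing P] {U : X.Opens} (hU : IsAffineOpen U) {φ : P →+* Γ(X, U)}
    (hφ : Function.Surjective φ) [IsClosedImmersion (immOf U φ)] {m : ℤ} {K : DCoh.D X} :
    PCOn m K U φ ↔ DCoh.IsPseudoCoherentD m ((pushD (immOf U φ)).obj ((resD U.ι).obj K)) := by
  obtain ⟨G, ⟨e⟩⟩ := exists_rep K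
  let a : DerivedCategory.Q.obj ((DerSch.pushCx (immOf U φ)).obj ((resCx U.ι).obj G)) ≅
      (pushD (immOf U φ)).obj ((resD U.ι).obj K) :=
    (pushDFac (immOf U φ) _).symm ≪≫
      (pushD (immOf U φ)).mapIso (((resDFac U.ι).app G).symm ≪≫ (resD U.ι).mapIso e)
  rw [pcOn_iff_of_rep hU hφ e]
  exact ⟨fun h => isPseudoCoherentD_of_iso h a, fun h => isPseudoCoherentD_of_iso h a.symm⟩

/-- The test does not change along open immersions. -/
theorem pcOn_preimage_iff {X' : Scheme.{u}} (j : X' ⟶ X) [IsOpenImmersion j] {W : X.Opens}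
    (hW : IsAffineOpen W) (hle : W ≤ j.opensRange) {P : Type u} [CommRing P] {φ : P →+* Γ(X, W)}
    (hφ : Function.Surjective φ) {φ' : P →+* Γ(X', j ⁻¹ᵁ W)} (hφ' : φ' = (j.app W).hom.comp φ) {m : ℤ}
    (Gc : CochainComplex X.Modules ℤ) :
    PCOn m (DCoh.toD X' ((resCx j).obj Gc)) (j ⁻¹ᵁ W) φ' ↔ PCOn m (DCoh.toD X Gc) W φ := by
  have := j.isIso_app W hle
  have hφ's : Function.Surjective φ' := by
    rw [hφ']; exact (ConcreteCategory.bijective_of_isIso (j.app W)).2.comp hφ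
  have hrange : Set.range ((j ⁻¹ᵁ W).ι ≫ j) = Set.range W.ι := by
    rw [Scheme.Hom.comp_base, TopCat.coe_comp, Set.range_comp, Scheme.Opens.range_ι, Scheme.Opens.range_ι]
    exact Set.image_preimage_eq_of_subset hle
  let κ : (j ⁻¹ᵁ W).toScheme ≅ W.toScheme := IsOpenImmersion.isoOfRangeEq ((j ⁻¹ᵁ W).ι ≫ j) W.ι hrange
  have hκ : κ.hom ≫ W.ι = (j ⁻¹ᵁ W).ι ≫ j := IsOpenImmersion.isoOfRangeEq_hom_fac _ _ _
  have hκ' : κ.hom = j ∣_ W := by rw [← cancel_mono W.ι, hκ, morphismRestrict_ι]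
  have himm : immOf (j ⁻¹ᵁ W) φ' = κ.hom ≫ immOf W φ := by
    rw [immOf, immOf, hφ', CommRingCat.ofHom_comp, CommRingCat.ofHom_hom, Spec.map_comp, hκ',
      Scheme.Opens.toSpecΓ_naturality_assoc]
  let c : Scheme.Modules.restrictFunctor j ⋙ Scheme.Modules.restrictFunctor (j ⁻¹ᵁ W).ι ⋙
      Scheme.Modules.pushforward κ.hom ≅ Scheme.Modules.restrictFunctor W.ι :=
    (Functor.associator _ _ _).symm ≪≫ Functor.isoWhiskerRight
      ((Scheme.Modules.restrictFunctorComp (j ⁻¹ᵁ W).ι j).symm ≪≫ Scheme.Modules.restrictFunctorCongr hκ.symm ≪≫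
        Scheme.Modules.restrictFunctorComp κ.hom W.ι) _ ≪≫ Functor.associator _ _ _ ≪≫
      Functor.isoWhiskerLeft _ (Functor.isoWhiskerRight (restrictIsoPush κ) _ ≪≫
        (pushEquiv κ).unitIso.symm) ≪≫ Functor.rightUnitor _
  let c' : (DerSch.pushCx κ.hom).obj ((resCx (j ⁻¹ᵁ W).ι).obj ((resCx j).obj Gc)) ≅ (resCx W.ι).obj Gc :=
    HomologicalComplex.Hom.isoOfComponents (fun p => c.app (Gc.X p))
      fun p q _ => (c.hom.naturality (Gc.d p q)).symm
  rw [pcOn_iff_of_rep (hW.preimage_of_isOpenImmersion j hle) hφ's (Iso.refl _),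
    pcOn_iff_of_rep hW hφ (Iso.refl _), himm]
  let a := DerivedCategory.Q.mapIso ((pushCxCompIso κ.hom (immOf W φ) _).symm ≪≫
    (DerSch.pushCx (immOf W φ)).mapIso c')
  exact ⟨fun h => isPseudoCoherentD_of_iso h a, fun h => isPseudoCoherentD_of_iso h a.symm⟩

variable {f : X ⟶ Y}

theorem isChart_preimage {X' : Scheme.{u}} (j : X' ⟶ X) [IsOpenImmersion j] {W : X.Opens}
    (hle : W ≤ j.opensRange) {V : Y.Opens} (hWV : W ≤ f ⁻¹ᵁ V) (hWV' : j ⁻¹ᵁ W ≤ (j ≫ f) ⁻¹ᵁ V) {n : ℕ}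
    {c : MvPolynomial (Fin n) Γ(Y, V) →+* Γ(X, W)} (hc : DerSch.IsChart f W V hWV c) :
    DerSch.IsChart (j ≫ f) (j ⁻¹ᵁ W) V hWV' ((j.app W).hom.comp c) := by
  have := j.isIso_app W hle
  refine ⟨(ConcreteCategory.bijective_of_isIso (j.app W)).2.comp hc.1, ?_⟩
  rw [RingHom.comp_assoc, hc.2, ← CommRingCat.hom_comp, Scheme.Hom.app_eq_appLE,
    Scheme.Hom.appLE_comp_appLE]

/-- An affine pair around a point, inside a given open. -/
theorem exists_affine_pair (f : X ⟶ Y) {O : X.Opens} {x : X} (hx : x ∈ O) :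
    ∃ (W : X.Opens) (V : Y.Opens), IsAffineOpen W ∧ IsAffineOpen V ∧ x ∈ W ∧ W ≤ O ∧ W ≤ f ⁻¹ᵁ V := by
  obtain ⟨V, hV, hfx, -⟩ := exists_isAffineOpen_mem_and_subset (x := f x) (U := ⊤) trivial
  obtain ⟨W, hW, hxW, hle⟩ := exists_isAffineOpen_mem_and_subset (x := x) (U := O ⊓ f ⁻¹ᵁ V) ⟨hx, hfx⟩
  exact ⟨W, V, hW, hV, hxW, fun y hy => (hle hy).1, fun y hy => (hle hy).2⟩

/-- Relative pseudo-coherence passes to open subschemes. -/
theorem isPseudoCoherentRel_restrict {m : ℤ} {E : CochainComplex X.Modules ℤ}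
    (h : DerSch.IsPseudoCoherentRel f m (DCoh.toD X E)) {X' : Scheme.{u}} (j : X' ⟶ X) [IsOpenImmersion j] :
    DerSch.IsPseudoCoherentRel (j ≫ f) m (DCoh.toD X' ((resCx j).obj E)) := by
  have := h.1
  refine isPseudoCoherentRel_of_local fun x => ?_
  obtain ⟨W, V, hW, hV, hxW, hle, hWV⟩ := exists_affine_pair f (O := j.opensRange) (x := j x) ⟨x, rfl⟩
  obtain ⟨n, c, hc⟩ := exists_isChart f hW hV hWV
  have hWV' : j ⁻¹ᵁ W ≤ (j ≫ f) ⁻¹ᵁ V := fun y hy => hWV hy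
  exact ⟨j ⁻¹ᵁ W, V, hWV', n, _, hxW, hW.preimage_of_isOpenImmersion j hle, hV,
    isChart_preimage j hle hWV hWV' hc,
    (pcOn_preimage_iff j hW hle hc.1 rfl E).2 (pcOn_of_isPseudoCoherentRel h hW hV hc)⟩

/-- Relative pseudo-coherence is local on the source. -/
theorem isPseudoCoherentRel_of_cover [LocallyOfFiniteType f] {m : ℤ} {E : CochainComplex X.Modules ℤ}
    (h : ∀ x : X, ∃ (X' : Scheme.{u}) (j : X' ⟶ X) (_ : IsOpenImmersion j), x ∈ Set.range j ∧
      DerSch.IsPseudoCoherentRel (j ≫ f) m (DCoh.toD X' ((resCx j).obj E))) :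
    DerSch.IsPseudoCoherentRel f m (DCoh.toD X E) := by
  refine isPseudoCoherentRel_of_local fun x => ?_
  obtain ⟨X', j, hj, hx, h'⟩ := h x
  obtain ⟨W, V, hW, hV, hxW, hle, hWV⟩ := exists_affine_pair f (O := j.opensRange) (x := x) hx
  obtain ⟨n, c, hc⟩ := exists_isChart f hW hV hWV
  have hWV' : j ⁻¹ᵁ W ≤ (j ≫ f) ⁻¹ᵁ V := fun y hy => hWV hy
  exact ⟨W, V, hWV, n, c, hxW, hW, hV, hc, (pcOn_preimage_iff j hW hle hc.1 rfl E).1
    (pcOn_of_isPseudoCoherentRel h' (hW.preimage_of_isOpenImmersion j hle) hV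
      (isChart_preimage j hle hWV hWV' hc))⟩

/-- Two out of three, relatively. -/
theorem isPseudoCoherentRel_triangle (f : X ⟶ Y) [LocallyOfFiniteType f] (m : ℤ) {T : Triangle (DCoh.D X)}
    (hT : T ∈ distTriang _) :
    (DerSch.IsPseudoCoherentRel f (m + 1) T.obj₁ → DerSch.IsPseudoCoherentRel f m T.obj₂ →
        DerSch.IsPseudoCoherentRel f m T.obj₃) ∧
      (DerSch.IsPseudoCoherentRel f m T.obj₁ → DerSch.IsPseudoCoherentRel f m T.obj₃ →
        DerSch.IsPseudoCoherentRel f m T.obj₂) ∧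
      (DerSch.IsPseudoCoherentRel f (m + 1) T.obj₂ → DerSch.IsPseudoCoherentRel f m T.obj₃ →
        DerSch.IsPseudoCoherentRel f (m + 1) T.obj₁) := by
  have key : ∀ (a b c : ℤ) (K L M : DCoh.D X),
      (∀ (W : X.Opens) (Zs : Scheme.{u}) (i : W.toScheme ⟶ Zs) [IsClosedImmersion i],
        DCoh.IsPseudoCoherentD a ((pushD i).obj ((resD W.ι).obj K)) →
          DCoh.IsPseudoCoherentD b ((pushD i).obj ((resD W.ι).obj L)) →
            DCoh.IsPseudoCoherentD c ((pushD i).obj ((resD W.ι).obj M))) →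
      DerSch.IsPseudoCoherentRel f a K → DerSch.IsPseudoCoherentRel f b L →
        DerSch.IsPseudoCoherentRel f c M := by
    intro a b c K L M step hK hL
    refine isPseudoCoherentRel_of_local fun x => ?_
    obtain ⟨W, V, hW, hV, hxW, -, hWV⟩ := exists_affine_pair f (O := ⊤) (x := x) trivial
    obtain ⟨n, φ, hφ⟩ := exists_isChart f hW hV hWV
    have := isClosedImmersion_immOf hW hφ.1
    exact ⟨W, V, hWV, n, φ, hxW, hW, hV, hφ, (pcOn_iff_pushD hW hφ.1).2 (step W _ (immOf W φ)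
      ((pcOn_iff_pushD hW hφ.1).1 (pcOn_of_isPseudoCoherentRel hK hW hV hφ))
      ((pcOn_iff_pushD hW hφ.1).1 (pcOn_of_isPseudoCoherentRel hL hW hV hφ)))⟩
  exact ⟨key _ _ _ _ _ _ fun W _ i _ =>
      (isPseudoCoherentD_triangle m ((pushD i).map_distinguished _ ((resD W.ι).map_distinguished _ hT))).1,
    key _ _ _ _ _ _ fun W _ i _ =>
      (isPseudoCoherentD_triangle m ((pushD i).map_distinguished _ ((resD W.ι).map_distinguished _ hT))).2.1,
    key _ _ _ _ _ _ fun W _ i _ =>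
      (isPseudoCoherentD_triangle m ((pushD i).map_distinguished _ ((resD W.ι).map_distinguished _ hT))).2.2⟩

/-- Charts of a pseudo-coherent morphism have pseudo-coherent direct image. -/
theorem pushUnitPC_chart {g : Y ⟶ Z} (hg : ∀ n : ℤ, DerSch.IsNPseudoCoherent g n) {V : Y.Opens}
    (hV : IsAffineOpen V) {S : Z.Opens} (hS : IsAffineOpen S) {hle : V ≤ g ⁻¹ᵁ S} {n : ℕ}
    {ψ : MvPolynomial (Fin n) Γ(Z, S) →+* Γ(Y, V)} (hψ : DerSch.IsChart g V S hle ψ)
    [IsClosedImmersion (immOf V ψ)] : PushUnitPC (immOf V ψ) := fun m => by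
  have h := (pcOn_iff_pushD hV hψ.1).1 (pcOn_of_isPseudoCoherentRel (hg m) hV hS hψ)
  exact isPseudoCoherentD_of_iso h ((pushD (immOf V ψ)).mapIso (resUnitCxIso V.ι) ≪≫
    pushDFac (immOf V ψ) _ ≪≫ DerivedCategory.Q.mapIso
      ((singleMapHomologicalComplex (Scheme.Modules.pushforward (immOf V ψ)) (ComplexShape.up ℤ) 0).app _))

/-- Over a pseudo-coherent morphism, absolute and relative pseudo-coherence agree. -/
theorem isPseudoCoherentD_iff_rel {g : Y ⟶ Z} [LocallyOfFiniteType g]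
    (hg : ∀ n : ℤ, DerSch.IsNPseudoCoherent g n) {m : ℤ} {E : DCoh.D Y} :
    DCoh.IsPseudoCoherentD m E ↔ DerSch.IsPseudoCoherentRel g m E := by
  refine ⟨fun h => isPseudoCoherentRel_of_local fun y => ?_, fun h => ?_⟩
  · obtain ⟨W, V, hW, hV, hyW, -, hWV⟩ := exists_affine_pair g (O := ⊤) (x := y) trivial
    obtain ⟨n, φ, hφ⟩ := exists_isChart g hW hV hWV
    have := isClosedImmersion_immOf hW hφ.1
    exact ⟨W, V, hWV, n, φ, hyW, hW, hV, hφ, (pcOn_iff_pushD hW hφ.1).2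
      ((isPseudoCoherentD_pushD_iff _ (pushUnitPC_chart hg hW hV hφ)).2 (isPseudoCoherentD_resD' _ h))⟩
  · refine GrothLib.OX.isPseudoCoherentD_of_local fun y => ?_
    obtain ⟨W, V, hW, hV, hyW, -, hWV⟩ := exists_affine_pair g (O := ⊤) (x := y) trivial
    obtain ⟨n, φ, hφ⟩ := exists_isChart g hW hV hWV
    have := isClosedImmersion_immOf hW hφ.1
    exact ⟨_, W.ι, inferInstance, ⟨⟨y, hyW⟩, rfl⟩, (isPseudoCoherentD_pushD_iff _ (pushUnitPC_chart hg hW hV hφ)).1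
      ((pcOn_iff_pushD hW hφ.1).1 (pcOn_of_isPseudoCoherentRel h hW hV hφ))⟩

/-- Flat morphisms locally of finite presentation are pseudo-coherent. -/
theorem isNPseudoCoherent_of_flat (g : Y ⟶ Z) [Flat g] [LocallyOfFinitePresentation g] (m : ℤ) :
    DerSch.IsNPseudoCoherent g m := by
  refine isPseudoCoherentRel_of_local fun y => ?_
  obtain ⟨W, V, hW, hV, hyW, -, hWV⟩ := exists_affine_pair g (O := ⊤) (x := y) trivial
  obtain ⟨n, φ, hφ⟩ := exists_isChart g hW hV hWV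
  refine ⟨W, V, hWV, n, φ, hyW, hW, hV, hφ, ?_⟩
  letI : Algebra Γ(Z, V) Γ(Y, W) := (g.appLE V W hWV).hom.toAlgebra
  have : Module.Flat Γ(Z, V) Γ(Y, W) := g.flat_appLE hV hW hWV
  have : Algebra.FinitePresentation Γ(Z, V) Γ(Y, W) := g.finitePresentation_appLE hV hW hWV
  let α : MvPolynomial (Fin n) Γ(Z, V) →ₐ[Γ(Z, V)] Γ(Y, W) :=
    { toRingHom := φ
      commutes' := fun a => DFunLike.congr_fun hφ.2 a }
  exact (pcOn_iff_absolute hW hφ.1 (GrothLib.PHom.ringPC_pres GrothLib.PHom.of_flat α hφ.1)).2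
    (isPseudoCoherentD_of_iso (modPC_structureModule W.toScheme m) (resUnitCxIso W.ι).symm)

/-- A closed subscheme of a pseudo-coherent scheme over the base. -/
theorem isPseudoCoherentRel_closedImmersion_iff (f : X ⟶ Y) [IsClosedImmersion f] (g : Y ⟶ Z)
    [LocallyOfFiniteType g] (hg : ∀ n : ℤ, DerSch.IsNPseudoCoherent g n) (m : ℤ)
    (E : CochainComplex X.Modules ℤ) :
    DerSch.IsPseudoCoherentRel (f ≫ g) m (DCoh.toD X E) ↔
      DCoh.IsPseudoCoherentD m (DCoh.toD Y ((DerSch.pushCx f).obj E)) := by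
  have key : ∀ {V : Y.Opens} (hV : IsAffineOpen V) {S : Z.Opens} (hS : IsAffineOpen S) (hle : V ≤ g ⁻¹ᵁ S),
      ∃ (n : ℕ) (φ : MvPolynomial (Fin n) Γ(Z, S) →+* Γ(X, f ⁻¹ᵁ V)),
        DerSch.IsChart (f ≫ g) (f ⁻¹ᵁ V) S (fun x hx => hle hx) φ ∧
          (PCOn m (DCoh.toD X E) (f ⁻¹ᵁ V) φ ↔
            DCoh.IsPseudoCoherentD m ((resD V.ι).obj (DCoh.toD Y ((DerSch.pushCx f).obj E)))) := by
    intro V hV S hS hle
    obtain ⟨n, ψ, hψ⟩ := exists_isChart g hV hS hle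
    have := isClosedImmersion_immOf hV hψ.1
    have hs : Function.Surjective ((f.app V).hom.comp ψ) := (f.app_surjective V hV).comp hψ.1
    refine ⟨n, (f.app V).hom.comp ψ, ⟨hs, ?_⟩, ?_⟩
    · rw [RingHom.comp_assoc, hψ.2, ← CommRingCat.hom_comp, Scheme.Hom.app_eq_appLE, Scheme.Hom.appLE_comp_appLE]
    rw [pcOn_iff_of_rep (hV.preimage f) hs (Iso.refl _)]
    have himm : immOf (f ⁻¹ᵁ V) ((f.app V).hom.comp ψ) = (f ∣_ V) ≫ immOf V ψ := by
      rw [immOf, immOf, CommRingCat.ofHom_comp, CommRingCat.ofHom_hom, Spec.map_comp,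
        Scheme.Opens.toSpecΓ_naturality_assoc]
    rw [himm, isPseudoCoherentD_pushCx_comp_iff _ _ (pushUnitPC_chart hg hV hS hψ)]
    let a : DerivedCategory.Q.obj ((DerSch.pushCx (f ∣_ V)).obj ((resCx (f ⁻¹ᵁ V).ι).obj E)) ≅
        (resD V.ι).obj (DCoh.toD Y ((DerSch.pushCx f).obj E)) :=
      DerivedCategory.Q.mapIso (pushResCxIso f V E).symm ≪≫ ((resDFac V.ι).app _).symm
    exact ⟨fun h => isPseudoCoherentD_of_iso h a, fun h => isPseudoCoherentD_of_iso h a.symm⟩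
  constructor
  · intro h
    refine GrothLib.OX.isPseudoCoherentD_of_local fun y => ?_
    obtain ⟨V, S, hV, hS, hyV, -, hle⟩ := exists_affine_pair g (O := ⊤) (x := y) trivial
    obtain ⟨n, φ, hφ, hiff⟩ := key hV hS hle
    exact ⟨_, V.ι, inferInstance, ⟨⟨y, hyV⟩, rfl⟩,
      hiff.1 (pcOn_of_isPseudoCoherentRel h (hV.preimage f) hS hφ)⟩
  · intro h
    refine isPseudoCoherentRel_of_local fun x => ?_
    obtain ⟨V, S, hV, hS, hyV, -, hle⟩ := exists_affine_pair g (O := ⊤) (x := f x) trivial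
    obtain ⟨n, φ, hφ, hiff⟩ := key hV hS hle
    exact ⟨_, S, _, n, φ, hyV, hV.preimage f, hS, hφ, hiff.2 (isPseudoCoherentD_resD' _ h)⟩

end GrothLib.KSix19
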