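import Groth.Agent.Lib.KSix19.GradedPush
import Groth.Agent.Lib.KSix19.RelOps
import Groth.Agent.S6935
import Groth.Agent.S7000

/-! # `n`-pseudo-coherent morphisms in terms of rings -/

set_option autoImplicit false
set_option maxHeartbeats 800000
set_option backward.isDefEq.respectTransparency false
universe u

open CategoryTheory CategoryTheory.Limits AlgebraicGeometry HomologicalComplex Opposite TopologicalSpace
open scoped TensorProduct

attribute [local instance] HasDerivedCategory.standard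

namespace GrothLib.KSix19

open GrothLib.OX GrothLib.RelPC

/-- The ring form: the target is `r`-pseudo-coherent as a module over the source. -/
abbrev RingPCm {P B : Type u} [CommRing P] [CommRing B] (φ : P →+* B) (r : ℤ) : Prop :=
  DRing.IsPseudoCoherentModule P r ((ModuleCat.restrictScalars.{u} φ).obj (ModuleCat.of B B))

theorem pcModule_congr {P : Type u} [CommRing P] {M N : Type u} [AddCommGroup M] [Module P M] [AddCommGroup N]
    [Module P N] (e : M ≃ₗ[P] N) {r : ℤ} (h : DRing.IsPseudoCoherentModule P r M) :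
    DRing.IsPseudoCoherentModule P r N :=
  DerBC.isPseudoCoherent_of_iso ((DerivedCategory.singleFunctor (ModuleCat.{u} P) 0).mapIso e.toModuleIso) h

theorem ringPC_iff_forall {P B : Type u} [CommRing P] [CommRing B] (φ : P →+* B) :
    DR.RingPseudoCoherent φ ↔ ∀ r, RingPCm φ r := DR.isPseudoCoherent'_iff

/-- Composition with an isomorphism on the source. -/
theorem ringPCm_comp_equiv {P P' B : Type u} [CommRing P] [CommRing P'] [CommRing B] {φ : P →+* B} {r : ℤ}
    (h : RingPCm φ r) (e : P' ≃+* P) : RingPCm (φ.comp (e : P' →+* P)) r :=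
  (pc_congr (restrictInDIso (φ.comp (e : P' →+* P)) B) r).1
    ((pc_restrict_comp (ringPC_equiv e) rfl (Dual.inD B B) r).2 ((pc_congr (restrictInDIso φ B) r).2 h))

/-- Adjoining variables to source and target. -/
theorem ringPCm_map {P A : Type u} [CommRing P] [CommRing A] {φ : P →+* A} {r : ℤ} (hφ : RingPCm φ r) (σ : Type) :
    RingPCm (MvPolynomial.map (σ := σ) φ) r := by
  algebraize [φ]
  have hA : DRing.IsPseudoCoherentModule P r A := pcModule_congr
    (M := (ModuleCat.restrictScalars.{u} φ).obj (ModuleCat.of A A)) (N := A)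
    { toFun := fun x => x
      map_add' := fun _ _ => rfl
      map_smul' := fun _ _ => rfl
      invFun := fun x => x
      left_inv := fun _ => rfl
      right_inv := fun _ => rfl } hφ
  have h : DRing.IsPseudoCoherentModule (MvPolynomial σ P) r (MvPolynomial σ P ⊗[P] A) :=
    (Groth.Agent.S7000.result r A).1 hA
  let e : MvPolynomial σ P ⊗[P] A ≃+ MvPolynomial σ A :=
    (TensorProduct.comm P (MvPolynomial σ P) A).toAddEquiv.trans
      (MvPolynomial.algebraTensorAlgEquiv P A).toAddEquiv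
  have he : ∀ (q : MvPolynomial σ P) (x : MvPolynomial σ P ⊗[P] A),
      e (q • x) = MvPolynomial.map φ q * e x := by
    intro q x
    induction x using TensorProduct.induction_on with
    | zero => simp
    | tmul q' a =>
      change MvPolynomial.algebraTensorAlgEquiv P A (a ⊗ₜ[P] (q * q')) =
        MvPolynomial.map φ q * MvPolynomial.algebraTensorAlgEquiv P A (a ⊗ₜ[P] q')
      rw [MvPolynomial.algebraTensorAlgEquiv_tmul, MvPolynomial.algebraTensorAlgEquiv_tmul, map_mul,
        mul_smul_comm]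
      rfl
    | add x y hx hy => rw [smul_add, map_add, map_add, hx, hy, mul_add]
  exact pcModule_congr
    (N := (ModuleCat.restrictScalars.{u} (MvPolynomial.map (σ := σ) φ)).obj
      (ModuleCat.of (MvPolynomial σ A) (MvPolynomial σ A)))
    { e with map_smul' := he } h

/-- Finite presentation in terms of a presentation. -/
theorem ringPCm_negOne_iff {R B : Type u} [CommRing R] [CommRing B] [Algebra R B] {n : ℕ}
    (α : MvPolynomial (Fin n) R →ₐ[R] B) (hα : Function.Surjective α) :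
    RingPCm (α : MvPolynomial (Fin n) R →+* B) (-1) ↔ Algebra.FinitePresentation R B := by
  rw [RingPCm, (Groth.Agent.S6935.result _ _).2]
  let M := (ModuleCat.restrictScalars.{u} (α : MvPolynomial (Fin n) R →+* B)).obj (ModuleCat.of B B)
  let l : MvPolynomial (Fin n) R →ₗ[MvPolynomial (Fin n) R] M :=
    { toFun := fun p => (α p : B)
      map_add' := fun a b => map_add α a b
      map_smul' := fun a b => map_mul α a b }
  have hl : Function.Surjective l := hα
  have hker : LinearMap.ker l = RingHom.ker α.toRingHom := rfl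
  refine ⟨fun h => ?_, fun h => ?_⟩
  · refine Algebra.FinitePresentation.of_surjective hα ?_
    exact hker ▸ Module.FinitePresentation.fg_ker l hl
  · refine Module.finitePresentation_of_surjective l hl ?_
    rw [hker]
    exact Algebra.FinitePresentation.ker_fG_of_surjective α hα

variable {X Y Z : Scheme.{u}}

theorem modPCm_tilde_iff {A : Type u} [CommRing A] (M : ModuleCat.{u} A) (r : ℤ) :
    ModPCm ((tilde.functor (CommRingCat.of A)).obj M) r ↔ DRing.IsPseudoCoherentModule A r M := by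
  let e := (DCoh.tildeD (CommRingCat.of A)).mapIso
      ((DerivedCategory.singleFunctorIsoCompQ (ModuleCat.{u} A) 0).app M) ≪≫
    (tilde.functor (CommRingCat.of A)).mapDerivedCategoryFactors.app _ ≪≫
    DerivedCategory.Q.mapIso
      ((singleMapHomologicalComplex (tilde.functor (CommRingCat.of A)) (ComplexShape.up ℤ) 0).app M)
  exact ⟨fun h => (isPseudoCoherentD_tildeD_iff (A := A) (Dual.inD A M) r).1 (isPseudoCoherentD_of_iso h e.symm),
    fun h => isPseudoCoherentD_of_iso ((isPseudoCoherentD_tildeD_iff (A := A) (Dual.inD A M) r).2 h) e⟩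

theorem pushUnitPCm_spec {P B : Type u} [CommRing P] [CommRing B] (χ : P →+* B) {r : ℤ} (h : RingPCm χ r) :
    PushUnitPCm (Spec.map (CommRingCat.ofHom χ)) r :=
  modPCm_of_iso (pushSpecStructureIso (CommRingCat.ofHom χ)).symm ((modPCm_tilde_iff _ r).2 h)

/-- The test on the structure sheaf is the ring condition. -/
theorem pcOn_unit_iff {U : X.Opens} (hU : IsAffineOpen U) {P : Type u} [CommRing P] {φ : P →+* Γ(X, U)}
    (hφ : Function.Surjective φ) {m : ℤ} :
    PCOn m (DCoh.toD X (DerSch.unitCx X)) U φ ↔ RingPCm φ m := by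
  have := isClosedImmersion_immOf hU hφ
  let a := (pushD (immOf U φ)).mapIso (resUnitCxIso U.ι) ≪≫ pushDFac (immOf U φ) _ ≪≫ DerivedCategory.Q.mapIso
      ((singleMapHomologicalComplex (Scheme.Modules.pushforward (immOf U φ)) (ComplexShape.up ℤ) 0).app _)
  let c : (Scheme.Modules.pushforward (immOf U φ)).obj (Coh.structureModule U.toScheme) ≅
      (tilde.functor (CommRingCat.of P)).obj ((ModuleCat.restrictScalars φ).obj (ModuleCat.of Γ(X, U) Γ(X, U))) :=
    (Scheme.Modules.pushforwardCongr (show immOf U φ = hU.isoSpec.hom ≫ Spec.map (CommRingCat.ofHom φ) by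
      rw [immOf, hU.isoSpec_hom])).app _ ≪≫ ((Scheme.Modules.pushforwardComp hU.isoSpec.hom _).app _).symm ≪≫
    (Scheme.Modules.pushforward (Spec.map (CommRingCat.ofHom φ))).mapIso (pushStructureIso hU.isoSpec) ≪≫
    pushSpecStructureIso (CommRingCat.ofHom φ)
  rw [pcOn_iff_pushD hU hφ, RingPCm, ← modPCm_tilde_iff]
  exact ⟨fun h => modPCm_of_iso c (isPseudoCoherentD_of_iso h a),
    fun h => isPseudoCoherentD_of_iso (modPCm_of_iso c.symm h) a.symm⟩

theorem ringPCm_chart {f : X ⟶ Y} {m : ℤ} (hf : DerSch.IsNPseudoCoherent f m) {U : X.Opens}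
    (hU : IsAffineOpen U) {V : Y.Opens} (hV : IsAffineOpen V) {hle : U ≤ f ⁻¹ᵁ V} {n : ℕ}
    {φ : MvPolynomial (Fin n) Γ(Y, V) →+* Γ(X, U)} (hφ : DerSch.IsChart f U V hle φ) : RingPCm φ m :=
  (pcOn_unit_iff hU hφ.1).1 (pcOn_of_isPseudoCoherentRel hf hU hV hφ)

theorem isNPseudoCoherent_of_ring {f : X ⟶ Y} [LocallyOfFiniteType f] {m : ℤ}
    (h : ∀ x : X, ∃ (U : X.Opens) (V : Y.Opens) (hle : U ≤ f ⁻¹ᵁ V) (n : ℕ)
      (φ : MvPolynomial (Fin n) Γ(Y, V) →+* Γ(X, U)),
      x ∈ U ∧ IsAffineOpen U ∧ IsAffineOpen V ∧ DerSch.IsChart f U V hle φ ∧ RingPCm φ m) :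
    DerSch.IsNPseudoCoherent f m := isPseudoCoherentRel_of_local fun x => by
  obtain ⟨U, V, hle, n, φ, hx, hU, hV, hφ, hm⟩ := h x
  exact ⟨U, V, hle, n, φ, hx, hU, hV, hφ, (pcOn_unit_iff hU hφ.1).2 hm⟩

/-- `(-1)`-pseudo-coherent morphisms. -/
theorem isNPseudoCoherent_negOne_iff (f : X ⟶ Y) [LocallyOfFiniteType f] :
    DerSch.IsNPseudoCoherent f (-1) ↔ LocallyOfFinitePresentation f := by
  constructor
  · intro h
    refine ⟨fun {V} hV {U} hU hle => ?_⟩
    obtain ⟨n, φ, hφ⟩ := exists_isChart f hU hV hle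
    letI : Algebra Γ(Y, V) Γ(X, U) := (f.appLE V U hle).hom.toAlgebra
    let α : MvPolynomial (Fin n) Γ(Y, V) →ₐ[Γ(Y, V)] Γ(X, U) :=
      { toRingHom := φ
        commutes' := fun a => DFunLike.congr_fun hφ.2 a }
    exact (ringPCm_negOne_iff α hφ.1).1 (ringPCm_chart h hU hV hφ)
  · intro h
    refine isNPseudoCoherent_of_ring fun x => ?_
    obtain ⟨U, V, hU, hV, hx, -, hle⟩ := exists_affine_pair f (O := ⊤) (x := x) trivial
    obtain ⟨n, φ, hφ⟩ := exists_isChart f hU hV hle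
    letI : Algebra Γ(Y, V) Γ(X, U) := (f.appLE V U hle).hom.toAlgebra
    let α : MvPolynomial (Fin n) Γ(Y, V) →ₐ[Γ(Y, V)] Γ(X, U) :=
      { toRingHom := φ
        commutes' := fun a => DFunLike.congr_fun hφ.2 a }
    exact ⟨U, V, hle, n, φ, hx, hU, hV, hφ, (ringPCm_negOne_iff α hφ.1).2 (f.finitePresentation_appLE hV hU hle)⟩

/-- Composing a test with a surjection, degree by degree. -/
theorem pcOn_comp_graded {U : X.Opens} (hU : IsAffineOpen U) {P P' : Type u} [CommRing P] [CommRing P']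
    {φ : P →+* Γ(X, U)} (hφ : Function.Surjective φ) {χ : P' →+* P} (hχs : Function.Surjective χ) {r : ℤ}
    (hχ : RingPCm χ r) {θ : P' →+* Γ(X, U)} (hθ : θ = φ.comp χ) {m b : ℤ} {K : DCoh.D X} (hKb : K.IsLE b) :
    (r + b ≤ m → PCOn m K U φ → PCOn m K U θ) ∧ (r + b ≤ m + 1 → PCOn m K U θ → PCOn m K U φ) := by
  subst hθ
  have := isClosedImmersion_immOf hU hφ
  have := isClosedImmersion_immOf hU (φ := φ.comp χ) (hφ.comp hχs)
  have : IsClosedImmersion (Spec.map (CommRingCat.ofHom χ)) :=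
    IsClosedImmersion.spec_of_surjective (CommRingCat.ofHom χ) hχs
  obtain ⟨G, ⟨e⟩⟩ := exists_rep K
  have hcomp : immOf U (φ.comp χ) = immOf U φ ≫ Spec.map (CommRingCat.ofHom χ) := by
    rw [immOf, immOf, Category.assoc, ← Spec.map_comp, CommRingCat.ofHom_comp]
  let k := Spec.map (CommRingCat.ofHom χ)
  let L := DerivedCategory.Q.obj ((DerSch.pushCx (immOf U φ)).obj ((resCx U.ι).obj G))
  let a : L ≅ (pushD (immOf U φ)).obj ((resD U.ι).obj K) :=
    (pushDFac (immOf U φ) _).symm ≪≫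
      (pushD (immOf U φ)).mapIso (((resDFac U.ι).app G).symm ≪≫ (resD U.ι).mapIso e)
  have hLb : L.IsLE b := (DerivedCategory.isLE_iff _ _).2 fun q hq =>
    ((DerivedCategory.isLE_iff _ _).1 (isLE_pushD (immOf U φ) (isLE_resD U.ι hKb)) q hq).of_iso
      ((DerivedCategory.homologyFunctor _ q).mapIso a)
  let c : (pushD k).obj L ≅ DerivedCategory.Q.obj ((DerSch.pushCx (immOf U φ ≫ k)).obj ((resCx U.ι).obj G)) :=
    pushDFac k _ ≪≫ DerivedCategory.Q.mapIso (pushCxCompIso _ _ _)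
  rw [pcOn_iff_of_rep hU (φ := φ.comp χ) (hφ.comp hχs) e, pcOn_iff_of_rep hU hφ e, hcomp]
  exact ⟨fun hr h => isPseudoCoherentD_of_iso
      (isPseudoCoherentD_pushD_graded k (pushUnitPCm_spec χ hχ) hLb hr h) c,
    fun hr h => isPseudoCoherentD_of_pushD_graded k (pushUnitPCm_spec χ hχ) hLb hr (isPseudoCoherentD_of_iso h c.symm)⟩

/-- Charts of a composite. -/
theorem exists_chart_comp (f : X ⟶ Y) (g : Y ⟶ Z) {U : X.Opens} {V : Y.Opens} {S : Z.Opens}
    (hle : U ≤ f ⁻¹ᵁ V) (hle' : V ≤ g ⁻¹ᵁ S) (hle'' : U ≤ (f ≫ g) ⁻¹ᵁ S) {n k : ℕ}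
    {φ : MvPolynomial (Fin n) Γ(Y, V) →+* Γ(X, U)} (hφ : DerSch.IsChart f U V hle φ)
    {ψ : MvPolynomial (Fin k) Γ(Z, S) →+* Γ(Y, V)} (hψ : DerSch.IsChart g V S hle' ψ) {r : ℤ} (hr : RingPCm ψ r) :
    ∃ χ : MvPolynomial (Fin (n + k)) Γ(Z, S) →+* MvPolynomial (Fin n) Γ(Y, V),
      Function.Surjective χ ∧ RingPCm χ r ∧ DerSch.IsChart (f ≫ g) U S hle'' (φ.comp χ) := by
  let e := (polyEquiv Γ(Z, S) n k).toRingEquiv
  let χ : MvPolynomial (Fin (n + k)) Γ(Z, S) →+* MvPolynomial (Fin n) Γ(Y, V) :=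
    (MvPolynomial.map ψ).comp (e : MvPolynomial (Fin (n + k)) Γ(Z, S) →+* _)
  have hs : Function.Surjective χ := (MvPolynomial.map_surjective _ hψ.1).comp e.surjective
  refine ⟨χ, hs, ringPCm_comp_equiv (ringPCm_map hr _) e, hφ.1.comp hs, RingHom.ext fun a => ?_⟩
  have h1 : e (MvPolynomial.C a) = MvPolynomial.C (MvPolynomial.C a) := by simp [e, polyEquiv]
  have h2 : χ (MvPolynomial.C a) = MvPolynomial.C (g.appLE S V hle' a) := by
    change MvPolynomial.map ψ (e (MvPolynomial.C a)) = _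
    rw [h1, MvPolynomial.map_C]
    exact congrArg MvPolynomial.C (DFunLike.congr_fun hψ.2 a)
  rw [RingHom.comp_apply, RingHom.comp_apply, h2, ← Scheme.Hom.appLE_comp_appLE f g S V U hle' hle]
  exact DFunLike.congr_fun hφ.2 _

/-- Composites of `n`-pseudo-coherent morphisms. -/
theorem isNPseudoCoherent_comp (f : X ⟶ Y) (g : Y ⟶ Z) [LocallyOfFiniteType f] [LocallyOfFiniteType g] {r s : ℤ}
    (hf : DerSch.IsNPseudoCoherent f r) (hg : DerSch.IsNPseudoCoherent g s) :
    DerSch.IsNPseudoCoherent (f ≫ g) (max r s) := by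
  refine isPseudoCoherentRel_of_local fun x => ?_
  obtain ⟨V, S, hV, hS, hxV, -, hle'⟩ := exists_affine_pair g (O := ⊤) (x := f x) trivial
  obtain ⟨U, hU, hxU, hle⟩ := exists_isAffineOpen_mem_and_subset (x := x) (U := f ⁻¹ᵁ V) hxV
  obtain ⟨n, φ, hφ⟩ := exists_isChart f hU hV hle
  obtain ⟨k, ψ, hψ⟩ := exists_isChart g hV hS hle'
  have hle'' : U ≤ (f ≫ g) ⁻¹ᵁ S := fun y hy => hle' (hle hy)
  obtain ⟨χ, hs, hχ, hγ⟩ := exists_chart_comp f g hle hle' hle'' hφ hψ (ringPCm_chart hg hV hS hψ)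
  have hm := pcOn_of_isPseudoCoherentRel hf hU hV hφ
  have hb : (DCoh.toD X (DerSch.unitCx X)).IsLE 0 := (DerivedCategory.isLE_iff _ _).2 fun q hq =>
    ((exactAt_iff_isZero_homology _ q).1 (ExactAt.of_isZero
      (isZero_single_obj_X (ComplexShape.up ℤ) 0 _ q (by omega)))).of_iso (hdIso (DerSch.unitCx X) q)
  refine ⟨U, S, hle'', _, _, hxU, hU, hS, hγ,
    (pcOn_comp_graded hU hφ.1 hs hχ rfl hb).1 (by omega) fun G hG => ?_⟩
  exact isPseudoCoherentD_mono (hm G hG) (le_max_left r s)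

/-- Relative pseudo-coherence passes from the composite to the first map. -/
theorem isPseudoCoherentRel_of_comp (f : X ⟶ Y) (g : Y ⟶ Z) [LocallyOfFiniteType f] [LocallyOfFiniteType g]
    {a b : ℤ} {E : DCoh.D X} (hEb : E.IsLE b) (hE : DerSch.IsPseudoCoherentRel (f ≫ g) a E)
    (hg : DerSch.IsNPseudoCoherent g (a + 1 - b)) : DerSch.IsPseudoCoherentRel f a E := by
  refine isPseudoCoherentRel_of_local fun x => ?_
  obtain ⟨V, S, hV, hS, hxV, -, hle'⟩ := exists_affine_pair g (O := ⊤) (x := f x) trivial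
  obtain ⟨U, hU, hxU, hle⟩ := exists_isAffineOpen_mem_and_subset (x := x) (U := f ⁻¹ᵁ V) hxV
  obtain ⟨n, φ, hφ⟩ := exists_isChart f hU hV hle
  obtain ⟨k, ψ, hψ⟩ := exists_isChart g hV hS hle'
  have hle'' : U ≤ (f ≫ g) ⁻¹ᵁ S := fun y hy => hle' (hle hy)
  obtain ⟨χ, hs, hχ, hγ⟩ := exists_chart_comp f g hle hle' hle'' hφ hψ (ringPCm_chart hg hV hS hψ)
  exact ⟨U, V, hle, n, φ, hxU, hU, hV, hφ,
    (pcOn_comp_graded hU hφ.1 hs hχ rfl hEb).2 (by omega) (pcOn_of_isPseudoCoherentRel hE hU hS hγ)⟩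

end GrothLib.KSix19
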