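import Groth.Agent.Lib.FlatFP.Resolution
import Groth.Agent.Lib.DCxRing.Restrict
import Groth.Agent.Lib.DCxRing.Approx
import Groth.Agent.S6935

/-! # Flat finitely presented modules are pseudo-coherent -/

set_option autoImplicit false
universe u

open CategoryTheory CategoryTheory.Limits

attribute [local instance] HasDerivedCategory.standard

namespace GrothLib.KSix19

open GrothLib.FlatFP

variable {A B : Type u} [CommRing A] [CommRing B] [Algebra A B] [Algebra.FinitePresentation A B] [Module.Flat A B]

theorem isPseudoCoherentModule_flatFP_aux :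
    ∀ (k : ℕ) (S : FlatFPMod A B), DRing.IsPseudoCoherentModule B (-(k : ℤ)) S.carrier
  | 0, S => by simpa using (Groth.Agent.S6935.result B S.carrier).1.2 inferInstance
  | k + 1, S => by
    let T := ShortComplex.mk (ModuleCat.ofHom S.incl) (ModuleCat.ofHom S.aug)
      (ModuleCat.hom_ext S.exact_incl_aug.linearMap_comp_eq_zero)
    have hT : T.ShortExact :=
      { exact := (ShortComplex.ShortExact.moduleCat_exact_iff_function_exact _).2 S.exact_incl_aug
        mono_f := (ModuleCat.mono_iff_injective _).2 S.incl_injective
        epi_g := (ModuleCat.epi_iff_surjective _).2 S.aug_surjective }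
    have h := (DerBC.isPseudoCoherent_triangle _ hT.singleTriangle_distinguished (-((k + 1 : ℕ) : ℤ))).1
    refine h ?_ (DR.isPseudoCoherent_of_prime (DR.isPseudoCoherentModule'_of_finite_free (Fin S.rk → B)) _)
    rw [show -((k + 1 : ℕ) : ℤ) + 1 = -(k : ℤ) by push_cast; omega]
    exact isPseudoCoherentModule_flatFP_aux k S.next

/-- Finitely presented modules flat over the base are pseudo-coherent. -/
theorem isPseudoCoherentModule_flatFP (S : FlatFPMod A B) (m : ℤ) :
    DRing.IsPseudoCoherentModule B m S.carrier :=
  DR.isPseudoCoherent_mono (show -((-m).toNat : ℤ) ≤ m by omega) (isPseudoCoherentModule_flatFP_aux _ S)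

end GrothLib.KSix19
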