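import Groth.Agent.Lib.KSix19.TorAmp
import Groth.Agent.Lib.KSix19.FlatPC
import Groth.Agent.Lib.FlatFP.Kernel
import Groth.Agent.Lib.QCoh.FT
import Groth.Agent.Lib.QCoh.Locality

/-! # Modules pseudo-coherent relative to a morphism -/

set_option autoImplicit false
set_option maxHeartbeats 800000
set_option backward.isDefEq.respectTransparency false
universe u

open CategoryTheory CategoryTheory.Limits AlgebraicGeometry HomologicalComplex Opposite TopologicalSpace

attribute [local instance] HasDerivedCategory.standard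

namespace GrothLib.KSix19

open GrothLib.OX

variable {X Y : Scheme.{u}}

/-- The test on a quasi-coherent module is the condition on its sections. -/
theorem pcOn_single_iff {U : X.Opens} (hU : IsAffineOpen U) {P : Type u} [CommRing P] {φ : P →+* Γ(X, U)}
    (hφ : Function.Surjective φ) (M : X.Modules)
    (hM : ((Scheme.Modules.restrictFunctor hU.fromSpec).obj M).IsQuasicoherent) {m : ℤ} :
    PCOn m (DCoh.toD X ((single X.Modules (ComplexShape.up ℤ) 0).obj M)) U φ ↔
      DRing.IsPseudoCoherentModule P m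
        ((ModuleCat.restrictScalars.{u} φ).obj (ModuleCat.of Γ(X, U) Γ(M, U))) := by
  have := isClosedImmersion_immOf hU hφ
  let N := (Scheme.Modules.restrictFunctor hU.fromSpec).obj M
  have : IsIso N.fromTildeΓ := @Scheme.Modules.isIso_fromTildeΓ_of_isQuasicoherent _ N hM
  let eN : (Scheme.Modules.pushforward hU.isoSpec.hom).obj ((Scheme.Modules.restrictFunctor U.ι).obj M) ≅ N :=
    ((restrictIsoPush hU.isoSpec.symm).app _).symm ≪≫
      (Scheme.Modules.restrictFunctorComp hU.isoSpec.inv U.ι).symm.app M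
  let eT : (tilde.functor Γ(X, U)).obj (ModuleCat.of Γ(X, U) Γ(M, U)) ≅ N :=
    (tilde.functor Γ(X, U)).mapIso (QCoh.topLinearEquiv hU M).toModuleIso.symm ≪≫ asIso N.fromTildeΓ
  let c : (Scheme.Modules.pushforward (immOf U φ)).obj ((Scheme.Modules.restrictFunctor U.ι).obj M) ≅
      (tilde.functor (CommRingCat.of P)).obj
        ((ModuleCat.restrictScalars φ).obj (ModuleCat.of Γ(X, U) Γ(M, U))) :=
    (Scheme.Modules.pushforwardCongr (show immOf U φ = hU.isoSpec.hom ≫ Spec.map (CommRingCat.ofHom φ) by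
      rw [immOf, hU.isoSpec_hom])).app _ ≪≫ ((Scheme.Modules.pushforwardComp hU.isoSpec.hom _).app _).symm ≪≫
    (Scheme.Modules.pushforward (Spec.map (CommRingCat.ofHom φ))).mapIso (eN ≪≫ eT.symm) ≪≫
    (pushTildeIso (CommRingCat.ofHom φ)).app _
  obtain ⟨eS⟩ := nonempty_resD_single U.ι M
  let a := (pushD (immOf U φ)).mapIso eS ≪≫ pushDFac (immOf U φ) _ ≪≫ DerivedCategory.Q.mapIso
      ((singleMapHomologicalComplex (Scheme.Modules.pushforward (immOf U φ)) (ComplexShape.up ℤ) 0).app _)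
  rw [pcOn_iff_pushD hU hφ, ← modPCm_tilde_iff]
  exact ⟨fun h => modPCm_of_iso c (isPseudoCoherentD_of_iso h a),
    fun h => isPseudoCoherentD_of_iso (modPCm_of_iso c.symm h) a.symm⟩

/-- Relatively pseudo-coherent modules are quasi-coherent. -/
theorem isQuasicoherent_of_rel {f : X ⟶ Y} [LocallyOfFiniteType f] {M : X.Modules} {m : ℤ} (hm : m < 0)
    (h : DerSch.IsPseudoCoherentRel f m (DCoh.toD X ((single X.Modules (ComplexShape.up ℤ) 0).obj M))) :
    M.IsQuasicoherent := by
  have hloc : ∀ x : X, ∃ U : X.Opens, x ∈ U ∧ (M.restrict U.ι).IsQuasicoherent := fun x => by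
    obtain ⟨W, V, hW, hV, hxW, -, hWV⟩ := exists_affine_pair f (O := ⊤) (x := x) trivial
    obtain ⟨n, φ, hφ⟩ := exists_isChart f hW hV hWV
    have := isClosedImmersion_immOf hW hφ.1
    have hh := isQCoh_of_chart (immOf W φ) ((pcOn_of_isPseudoCoherentRel h hW hV hφ) _ ⟨Iso.refl _⟩) hm
    let e : ((resCx W.ι).obj ((single X.Modules (ComplexShape.up ℤ) 0).obj M)).homology 0 ≅
        (Scheme.Modules.restrictFunctor W.ι).obj M :=
      (homologyFunctor _ (ComplexShape.up ℤ) 0).mapIso
          ((singleMapHomologicalComplex (Scheme.Modules.restrictFunctor W.ι) (ComplexShape.up ℤ) 0).app M) ≪≫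
        singleObjHomologySelfIso (ComplexShape.up ℤ) 0 _
    exact ⟨W, hxW, @QCoh.isQuasicoherent_of_iso _ _ _ e hh⟩
  choose U hxU hU using hloc
  exact QCoh.isQuasicoherent_of_restrict M U
    (IsOpenCover.mk (eq_top_iff.2 fun x _ => Opens.mem_iSup.2 ⟨x, hxU x⟩)) hU

/-- Flat modules finitely presented relative to the morphism are pseudo-coherent relative to it. -/
theorem isPseudoCoherentRel_of_flat {f : X ⟶ Y} [LocallyOfFiniteType f] {M : X.Modules}
    (hfl : FlatMod.IsFlatOver f M)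
    (hfp : DerSch.IsPseudoCoherentRel f (-1) (DCoh.toD X ((single X.Modules (ComplexShape.up ℤ) 0).obj M)))
    (m : ℤ) : DerSch.IsPseudoCoherentRel f m (DCoh.toD X ((single X.Modules (ComplexShape.up ℤ) 0).obj M)) := by
  have hq : M.IsQuasicoherent := isQuasicoherent_of_rel (by omega) hfp
  refine isPseudoCoherentRel_of_local fun x => ?_
  obtain ⟨U, V, hU, hV, hxU, -, hle⟩ := exists_affine_pair f (O := ⊤) (x := x) trivial
  obtain ⟨n, φ, hφ⟩ := exists_isChart f hU hV hle
  have hqU : ((Scheme.Modules.restrictFunctor hU.fromSpec).obj M).IsQuasicoherent :=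
    inferInstanceAs (M.restrict hU.fromSpec).IsQuasicoherent
  refine ⟨U, V, hle, n, φ, hxU, hU, hV, hφ, (pcOn_single_iff hU hφ.1 M hqU).2 ?_⟩
  letI : Algebra Γ(Y, V) Γ(X, U) := (f.appLE V U hle).hom.toAlgebra
  letI : Module Γ(Y, V) Γ(M, U) := Module.compHom _ (algebraMap Γ(Y, V) Γ(X, U))
  haveI : IsScalarTower Γ(Y, V) Γ(X, U) Γ(M, U) := IsScalarTower.of_algebraMap_smul fun _ _ => rfl
  have hflat : Module.Flat Γ(Y, V) Γ(M, U) := FlatFP.flat_sections f M hV hU hle rfl fun z _ => hfl z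
  let N := (ModuleCat.restrictScalars.{u} φ).obj (ModuleCat.of Γ(X, U) Γ(M, U))
  letI : Module Γ(Y, V) N := Module.compHom _ (MvPolynomial.C : Γ(Y, V) →+* MvPolynomial (Fin n) Γ(Y, V))
  haveI : IsScalarTower Γ(Y, V) (MvPolynomial (Fin n) Γ(Y, V)) N := IsScalarTower.of_algebraMap_smul fun _ _ => rfl
  let ℓ : N ≃ₗ[Γ(Y, V)] Γ(M, U) :=
    { toFun := fun z => z
      map_add' := fun _ _ => rfl
      map_smul' := fun a z => by
        change φ (MvPolynomial.C a) • (z : Γ(M, U)) = algebraMap Γ(Y, V) Γ(X, U) a • (z : Γ(M, U))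
        exact congrArg (· • (z : Γ(M, U))) (DFunLike.congr_fun hφ.2 a)
      invFun := fun z => z
      left_inv := fun _ => rfl
      right_inv := fun _ => rfl }
  have : Module.Flat Γ(Y, V) N := Module.Flat.of_linearEquiv ℓ
  have : Module.FinitePresentation (MvPolynomial (Fin n) Γ(Y, V)) N :=
    (Groth.Agent.S6935.result _ N).2.1
      ((pcOn_single_iff hU hφ.1 M hqU).1 (pcOn_of_isPseudoCoherentRel hfp hU hV hφ))
  exact isPseudoCoherentModule_flatFP (A := Γ(Y, V)) { carrier := N } m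

/-- Modules of relative perfect amplitude `[0, 0]`. -/
theorem hasPerfAmplitudeRel_single_iff (f : X ⟶ Y) [LocallyOfFiniteType f] (M : X.Modules) :
    DerSch.HasPerfAmplitudeRel f 0 0 ((single X.Modules (ComplexShape.up ℤ) 0).obj M) ↔
      (FlatMod.IsFlatOver f M ∧
        DerSch.IsPseudoCoherentRel f (-1) (DCoh.toD X ((single X.Modules (ComplexShape.up ℤ) 0).obj M))) :=
  ⟨fun h => ⟨fun x => (hasTorAmplitudeAt_single_iff f x M).1 (h.2 x), h.1 (-1)⟩,
    fun h => ⟨isPseudoCoherentRel_of_flat h.1 h.2, fun x => (hasTorAmplitudeAt_single_iff f x M).2 (h.1 x)⟩⟩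

end GrothLib.KSix19
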