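import Groth.Agent.Lib.KSix19.TildeTensorCx
import Groth.Agent.Lib.KSix19.RelOps
import Groth.Agent.Lib.KSix19.ModRel
import Groth.Agent.Lib.OX.TildeKFlat
import Groth.Agent.Lib.OX.LTensorCx
import Groth.Agent.Lib.OX.AffineLocal
import Groth.Agent.Lib.OX.Lpull
import Groth.Agent.Lib.OX.FlatRes

/-! # Complexes of modules modelling objects of `D_qc` on affine opens -/

set_option autoImplicit false
set_option maxHeartbeats 800000
set_option backward.isDefEq.respectTransparency false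
set_option linter.style.haveILetI false
universe u

open CategoryTheory CategoryTheory.Limits AlgebraicGeometry HomologicalComplex

attribute [local instance] HasDerivedCategory.standard

namespace GrothLib.KSix19

open GrothLib.OX

/-- The complex of sheaves of a complex of modules. -/
noncomputable abbrev tlCx {B : Type u} [CommRing B] (C : DRing.Cx B) :
    CochainComplex (Spec (CommRingCat.of B)).Modules ℤ :=
  ((tilde.functor (CommRingCat.of B)).mapHomologicalComplex (ComplexShape.up ℤ)).obj C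

variable {X X' : Scheme.{u}} {A B : Type u} [CommRing A] [CommRing B]

/-- `C` models `K` along `j`. -/
def IsModel (j : Spec (CommRingCat.of B) ⟶ X) [IsOpenImmersion j] (C : DRing.Cx B) (K : DCoh.D X) : Prop :=
  Nonempty ((resD j).obj K ≅ DerivedCategory.Q.obj (tlCx C))

theorem nonempty_tildeD_iso {C C' : DRing.Cx B} (e : DRing.toD C ≅ DRing.toD C') :
    Nonempty (DerivedCategory.Q.obj (tlCx C) ≅ DerivedCategory.Q.obj (tlCx C')) :=
  ⟨((tilde.functor (CommRingCat.of B)).mapDerivedCategoryFactors.app C).symm ≪≫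
    (DCoh.tildeD (CommRingCat.of B)).mapIso e ≪≫
    (tilde.functor (CommRingCat.of B)).mapDerivedCategoryFactors.app C'⟩

theorem isModel_of_iso {j : Spec (CommRingCat.of B) ⟶ X} [IsOpenImmersion j] {C C' : DRing.Cx B}
    (e : DRing.toD C ≅ DRing.toD C') {K : DCoh.D X} (h : IsModel j C K) : IsModel j C' K := by
  obtain ⟨a⟩ := h
  obtain ⟨b⟩ := nonempty_tildeD_iso e
  exact ⟨a ≪≫ b⟩

/-- Objects of `D_qc` bounded above have projective models. -/
theorem exists_model (j : Spec (CommRingCat.of B) ⟶ X) [IsOpenImmersion j] {K : DCoh.D X}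
    (hK : DCoh.IsQCohD K) (b : ℤ) [K.IsLE b] :
    ∃ C : DRing.Cx B, DRing.VanishesAbove C b ∧ (∀ i, Module.Projective B (C.X i)) ∧ IsModel j C K := by
  obtain ⟨M, ⟨eM⟩⟩ := exists_tildeD_rep hK (R := CommRingCat.of B) j
  obtain ⟨C, hC, hCp, ⟨eC⟩⟩ := DR.exists_projective_rep M b fun i hi => by
    have h1 : IsZero (DCoh.HD ((DCoh.tildeD (CommRingCat.of B)).obj M) i) :=
      (((Scheme.Modules.restrictFunctor j).map_isZero
        ((DerivedCategory.isLE_iff K b).1 inferInstance i hi)).of_iso (HDResIso j K i)).of_iso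
          ((DerivedCategory.homologyFunctor _ i).mapIso eM)
    have h2 := h1.of_iso (HDTildeIso M i).symm
    haveI := faithful_tildeGen (CommRingCat.of B)
    exact ModuleCat.subsingleton_of_isZero ((IsZero.iff_id_eq_zero _).2
      ((tilde.functor (CommRingCat.of B)).map_injective (h2.eq_of_src _ _)))
  exact ⟨C, hC, hCp, ⟨eM.symm ≪≫ (DCoh.tildeD _).mapIso eC.symm ≪≫
    (tilde.functor (CommRingCat.of B)).mapDerivedCategoryFactors.app C⟩⟩

/-- The test of pseudo-coherence on a model. -/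
theorem pcOn_iff_model {U : X.Opens} (hU : IsAffineOpen U) {P : Type u} [CommRing P] {φ : P →+* Γ(X, U)}
    (hφ : Function.Surjective φ) {m : ℤ} {K : DCoh.D X} {C : DRing.Cx Γ(X, U)}
    (hC : IsModel (B := Γ(X, U)) hU.fromSpec C K) :
    PCOn m K U φ ↔ DRing.IsPseudoCoherent P m (DRing.toD ((DRing.restrictCx φ).obj C)) := by
  obtain ⟨eC⟩ := hC
  obtain ⟨G, ⟨e⟩⟩ := exists_rep K
  haveI : IsClosedImmersion (Spec.map (CommRingCat.ofHom φ)) :=
    IsClosedImmersion.spec_of_surjective (CommRingCat.ofHom φ) hφ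
  let a : DerivedCategory.Q.obj ((resCx hU.fromSpec).obj G) ≅ DerivedCategory.Q.obj (tlCx C) :=
    ((resDFac hU.fromSpec).app G).symm ≪≫ (resD hU.fromSpec).mapIso e ≪≫ eC
  let b : (DerSch.pushCx hU.isoSpec.hom).obj ((resCx U.ι).obj G) ≅ (resCx hU.fromSpec).obj G :=
    (NatIso.mapHomologicalComplex
      (Functor.isoWhiskerLeft (Scheme.Modules.restrictFunctor U.ι) (restrictIsoPush hU.isoSpec.symm).symm ≪≫
        (Scheme.Modules.restrictFunctorComp hU.isoSpec.inv U.ι).symm) (ComplexShape.up ℤ)).app G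
  let c : DerivedCategory.Q.obj ((DerSch.pushCx (immOf U φ)).obj ((resCx U.ι).obj G)) ≅
      (DCoh.tildeD (CommRingCat.of P)).obj (DRing.toD ((DRing.restrictCx φ).obj C)) :=
    DerivedCategory.Q.mapIso (eqToIso (show (DerSch.pushCx (immOf U φ)).obj ((resCx U.ι).obj G) =
      (DerSch.pushCx (hU.isoSpec.hom ≫ Spec.map (CommRingCat.ofHom φ))).obj ((resCx U.ι).obj G) by
        rw [immOf, hU.isoSpec_hom]) ≪≫ (pushCxCompIso _ _ _).symm ≪≫
      (DerSch.pushCx (Spec.map (CommRingCat.ofHom φ))).mapIso b) ≪≫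
    (pushDFac (Spec.map (CommRingCat.ofHom φ)) _).symm ≪≫ (pushD (Spec.map (CommRingCat.ofHom φ))).mapIso a ≪≫
    pushDFac (Spec.map (CommRingCat.ofHom φ)) _ ≪≫
    DerivedCategory.Q.mapIso (pushTildeCxIso (CommRingCat.ofHom φ) C) ≪≫
    ((tilde.functor (CommRingCat.of P)).mapDerivedCategoryFactors.app _).symm
  rw [pcOn_iff_of_rep hU hφ e, ← isPseudoCoherentD_tildeD_iff]
  exact ⟨fun h => isPseudoCoherentD_of_iso h c, fun h => isPseudoCoherentD_of_iso h c.symm⟩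

/-- The pullback of a model. -/
theorem isModel_lpull (p : X' ⟶ X) [DCoh.HasLpull p] (j : Spec (CommRingCat.of A) ⟶ X) [IsOpenImmersion j]
    (j' : Spec (CommRingCat.of B) ⟶ X') [IsOpenImmersion j'] (φ : A →+* B) (w : j' ≫ p = specHom φ ≫ j)
    {K : DCoh.D X} {b : ℤ} [hKb : K.IsLE b] {C : DRing.Cx A} (hkC : KF.IsKFlat C) (hC : IsModel j C K) :
    IsModel j' ((DR.bc φ).obj C) ((DCoh.Lpull p).obj K) := by
  obtain ⟨eC⟩ := hC
  obtain ⟨G, ⟨e⟩⟩ := exists_rep K
  haveI : (DCoh.toD X G).IsLE b := (DerivedCategory.isLE_iff _ _).2 fun i hi =>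
    ((DerivedCategory.isLE_iff K b).1 inferInstance i hi).of_iso ((DerivedCategory.homologyFunctor _ i).mapIso e)
  obtain ⟨P, t, hP, hfl, ⟨eP⟩⟩ := exists_flat_rep G b
  have hkP : DCoh.IsKFlat P := OX.isKFlat_of_bounded_above P t hP hfl
  let jP := (pullCxF j).obj P
  have hkjP : DCoh.IsKFlat jP := isKFlat_pullback j hkP
  haveI := hasLpull (specHom φ)
  obtain ⟨v⟩ := lpull_value p P hkP
  obtain ⟨v₁⟩ := lpull_value (specHom φ) jP hkjP
  obtain ⟨v₂⟩ := lpull_value (specHom φ) (tlCx C) (kflat_tilde hkC)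
  let a : DerivedCategory.Q.obj jP ≅ DerivedCategory.Q.obj (tlCx C) :=
    DerivedCategory.Q.mapIso ((resPullCxIso j).app P).symm ≪≫ ((resDFac j).app P).symm ≪≫
      (resD j).mapIso (eP ≪≫ e) ≪≫ eC
  let c : (resCx j').obj ((pullCxF p).obj P) ≅ (pullCxF (specHom φ)).obj jP :=
    (resPullCxIso j').app _ ≪≫ (NatIso.mapHomologicalComplex (Scheme.Modules.pullbackComp j' p ≪≫
      Scheme.Modules.pullbackCongr w ≪≫ (Scheme.Modules.pullbackComp (specHom φ) j).symm) (ComplexShape.up ℤ)).app P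
  exact ⟨(resD j').mapIso ((DCoh.Lpull p).mapIso (e.symm ≪≫ eP.symm) ≪≫ v) ≪≫ (resDFac j').app _ ≪≫
    DerivedCategory.Q.mapIso c ≪≫ v₁.symm ≪≫ (DCoh.Lpull (specHom φ)).mapIso a ≪≫ v₂ ≪≫
    DerivedCategory.Q.mapIso ((tildePullCxIso φ).app C)⟩

/-- The derived tensor product of models. -/
theorem isModel_ltensor (j : Spec (CommRingCat.of B) ⟶ X) [IsOpenImmersion j] (E : CochainComplex X.Modules ℤ)
    [DCoh.HasLTensorCx E] (K : DCoh.D X) {C D : DRing.Cx B} (hkD : KF.IsKFlat D)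
    (hC : IsModel j C K) (hD : IsModel j D (DCoh.toD X E)) :
    IsModel j (((KF.tensorCx (R := B)).obj C).obj D) ((DCoh.LTensorCx E).obj K) := by
  obtain ⟨eC⟩ := hC
  obtain ⟨eD⟩ := hD
  obtain ⟨P, hkP, ⟨eP⟩⟩ := exists_kflat_rep K
  obtain ⟨Q, hkQ, ⟨eQ⟩⟩ := exists_kflat_rep (DCoh.toD X E)
  obtain ⟨v⟩ := ltensorCx_value E P hkP
  haveI := hasLTensorCx P
  obtain ⟨w₁⟩ := ltensorCx_value_of_isKFlat P hkP E
  obtain ⟨w₂⟩ := ltensorCx_value_of_isKFlat P hkP Q
  let T := ((DCoh.tensorCx (X := X)).obj Q).obj P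
  let u : (DCoh.LTensorCx E).obj K ≅ DerivedCategory.Q.obj T :=
    (DCoh.LTensorCx E).mapIso eP.symm ≪≫ v ≪≫ DerivedCategory.Q.mapIso (tensorCxSymm E P) ≪≫ w₁.symm ≪≫
      (DCoh.LTensorCx P).mapIso eQ.symm ≪≫ w₂
  let jP := (resCx j).obj P
  let jQ := (resCx j).obj Q
  have hkjP : DCoh.IsKFlat jP := isKFlat_resCx j hkP
  let aP : DerivedCategory.Q.obj jP ≅ DerivedCategory.Q.obj (tlCx C) :=
    ((resDFac j).app P).symm ≪≫ (resD j).mapIso eP ≪≫ eC
  let aQ : DerivedCategory.Q.obj jQ ≅ DerivedCategory.Q.obj (tlCx D) :=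
    ((resDFac j).app Q).symm ≪≫ (resD j).mapIso eQ ≪≫ eD
  haveI := hasLTensorCx jP
  haveI := hasLTensorCx (tlCx D)
  obtain ⟨x₁⟩ := ltensorCx_value_of_isKFlat jP hkjP jQ
  obtain ⟨x₂⟩ := ltensorCx_value_of_isKFlat jP hkjP (tlCx D)
  obtain ⟨x₃⟩ := ltensorCx_value_of_isKFlat (tlCx D) (kflat_tilde hkD) jP
  obtain ⟨x₄⟩ := ltensorCx_value_of_isKFlat (tlCx D) (kflat_tilde hkD) (tlCx C)
  exact ⟨(resD j).mapIso u ≪≫ (resDFac j).app T ≪≫ DerivedCategory.Q.mapIso (resTensorCxIso j Q P) ≪≫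
    x₁.symm ≪≫ (DCoh.LTensorCx jP).mapIso aQ ≪≫ x₂ ≪≫
    DerivedCategory.Q.mapIso (tensorCxSymm jP (tlCx D)) ≪≫ x₃.symm ≪≫
    (DCoh.LTensorCx (tlCx D)).mapIso aP ≪≫ x₄ ≪≫
    DerivedCategory.Q.mapIso (tildeTensorCxIso (CommRingCat.of B) C D).symm⟩

end GrothLib.KSix19
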