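import Groth.Agent.Lib.KSix19.StalkPerfect
import Groth.Agent.Lib.DCxRing.PerfectLimit
import Groth.Agent.Lib.DCxRing.TorLocalMax
import Groth.Agent.Lib.OX.TildeKFlat
import Groth.Agent.Lib.OX.TildePerfect
import Groth.Agent.Lib.OX.AffineApps
import Groth.Agent.Lib.OX.ExtZeroOpen

/-! # Perfect complexes at a point spread to a neighbourhood -/

set_option autoImplicit false
set_option backward.isDefEq.respectTransparency false
set_option linter.style.haveILetI false
set_option maxHeartbeats 1000000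
universe u

open CategoryTheory CategoryTheory.Limits AlgebraicGeometry Opposite TopologicalSpace
attribute [local instance] HasDerivedCategory.standard

noncomputable section

namespace GrothLib.KSix19

open GrothLib.OX

theorem finiteProjective_bc {A B : Type u} [CommRing A] [CommRing B] (φ : A →+* B) {E : DRing.Cx A}
    (h : DRing.TermwiseFiniteProjective E) : DRing.TermwiseFiniteProjective ((DR.bc φ).obj E) := fun i => by
  letI := φ.toAlgebra
  haveI := (h i).1
  haveI := (h i).2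
  exact ⟨inferInstanceAs (Module.Finite B (TensorProduct A B (E.X i))),
    inferInstanceAs (Module.Projective B (TensorProduct A B (E.X i)))⟩

theorem vanishesOutside_bc {A B : Type u} [CommRing A] [CommRing B] (φ : A →+* B) {E : DRing.Cx A} {a b : ℤ}
    (h : DRing.VanishesOutside E a b) : DRing.VanishesOutside ((DR.bc φ).obj E) a b :=
  fun i hi => (ModuleCat.extendScalars φ).map_isZero (h i hi)

variable {X : Scheme.{u}}

/-- A perfect object over a local ring comes from a bounded finite projective complex over a neighbourhood. -/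
theorem exists_perfect_germ (x : X) (P : Dual.D ((X.presheaf.stalk x) : Type u))
    (hP : DRing.IsPerfect ((X.presheaf.stalk x) : Type u) P) :
    ∃ (U : X.Opens) (hx : x ∈ U) (E : DRing.Cx Γ(X, U)) (a b : ℤ), DRing.VanishesOutside E a b ∧
      DRing.TermwiseFiniteProjective E ∧
      Nonempty (DRing.toD ((DR.bc (X.presheaf.germ U x hx).hom).obj E) ≅ P) := by
  let F : (OpenNhds x)ᵒᵖ ⥤ CommRingCat.{u} := (OpenNhds.inclusion x).op ⋙ X.presheaf
  haveI : ∀ j, DRing.HasLBaseChange ((colimit.cocone F).ι.app j).hom := fun j => KF.hasLBaseChange _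
  obtain ⟨j, Kj, ⟨E, a, b, hv, hE, ⟨e⟩⟩, ⟨i⟩⟩ := DR.exists_perfect_stage F (colimit.cocone F) (colimit.isColimit F) P hP
  obtain ⟨⟨U, hx⟩⟩ := j
  refine ⟨U, hx, E, a, b, hv, hE, ?_⟩
  obtain ⟨w⟩ := DR.nonempty_lBase_iso (φ := ((colimit.cocone F).ι.app (op ⟨U, hx⟩)).hom) (P := E) (b := b)
    (fun k hk => hv k (Or.inr hk)) (fun k => haveI := (hE k).2; Module.Flat.of_projective)
  exact ⟨w.symm ≪≫ (DRing.LBaseChange _).mapIso e ≪≫ i⟩

/-- Base change along an isomorphism and back. -/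
theorem nonempty_bc_inv {A B : CommRingCat.{u}} (φ : A ⟶ B) [IsIso φ] (W : DRing.Cx A) :
    Nonempty ((DR.bc (inv φ).hom).obj ((DR.bc φ.hom).obj W) ≅ W) := by
  refine ⟨(DR.bcCompIso φ.hom (inv φ).hom W).symm ≪≫ ?_⟩
  rw [show (inv φ).hom.comp φ.hom = RingHom.id A from RingHom.ext fun a => IsIso.hom_inv_id_apply φ a]
  exact (NatIso.mapHomologicalComplex (ModuleCat.extendScalarsId A) (ComplexShape.up ℤ)).app W

/-- The complex on a neighbourhood, extended by zero. -/
theorem exists_spread (x : X) (P : Dual.D ((X.presheaf.stalk x) : Type u))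
    (hP : DRing.IsPerfect ((X.presheaf.stalk x) : Type u) P) :
    ∃ (U : X.Opens) (F' : CochainComplex X.Modules ℤ), x ∈ U ∧
      DCoh.IsPerfect (DerivedCategory.Q.obj ((DCoh.restrictCx U).obj F')) ∧
      Nonempty (DRing.toD (((DerSch.stalkFunctor X x).mapHomologicalComplex (ComplexShape.up ℤ)).obj F') ≅ P) := by
  obtain ⟨U, hxU, E, a, b, hv, hE, ⟨eP⟩⟩ := exists_perfect_germ x P hP
  obtain ⟨V, hV, hxV, hVU⟩ := exists_isAffineOpen_mem_and_subset hxU
  obtain ⟨y, rfl⟩ : x ∈ Set.range hV.fromSpec := by rw [hV.range_fromSpec]; exact hxV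
  let j := hV.fromSpec
  let R := Γ(X, V)
  let ρ : Γ(X, U) →+* R :=
    (j.appLE U ⊤ (fun z _ => hVU (hV.range_fromSpec.le ⟨z, rfl⟩)) ≫ (Scheme.ΓSpecIso R).hom).hom
  let E₁ : DRing.Cx R := (DR.bc ρ).obj E
  let T := (tilde.functor R).mapHomologicalComplex (ComplexShape.up ℤ)
  let F' : CochainComplex X.Modules ℤ :=
    ((CxOX.extZero j).mapHomologicalComplex (ComplexShape.up ℤ)).obj (T.obj E₁)
  let r : (resCx j).obj F' ≅ T.obj E₁ :=
    (HomologicalComplex.Hom.isoOfComponents (fun i => asIso ((CxOX.extZeroAdj j).unit.app ((T.obj E₁).X i)))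
      fun i k _ => ((CxOX.extZeroAdj j).unit.naturality ((T.obj E₁).d i k)).symm).symm
  refine ⟨V, F', hxV, ?_, ?_⟩
  · have hG : DCoh.IsPerfect (DerivedCategory.Q.obj (T.obj E₁)) := by
      refine isPerfect_iff.2 fun z => ⟨_, 𝟙 _, inferInstance, ⟨z, rfl⟩, Strict.restrict ?_ _⟩
      exact ⟨T.obj E₁, strictlyPerfect_tilde (vanishesOutside_bc ρ hv) (finiteProjective_bc ρ hE), ⟨Iso.refl _⟩⟩
    have h1 := isPerfect_resD hG hV.isoSpec.hom
    obtain ⟨c⟩ := nonempty_resD_comp hV.isoSpec.hom j (DerivedCategory.Q.obj F')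
    refine isPerfect_iff.2 (Locally.of_iso (P := fun _ => Strict) (fun hA e => Strict.of_iso hA e)
      (isPerfect_iff.1 h1) ?_)
    exact (resD hV.isoSpec.hom).mapIso (DerivedCategory.Q.mapIso r.symm ≪≫ ((resDFac j).app F').symm) ≪≫ c.symm ≪≫
      eqToIso (by congr 2; exact hV.isoSpec_hom_fromSpec) ≪≫ (resDFac V.ι).app F'
  · have hg : X.presheaf.germ U (j y) hxU =
        CommRingCat.ofHom ((specToStalk R y).comp ρ) ≫ inv (j.stalkMap y) := by
      rw [IsIso.eq_comp_inv, Scheme.Hom.germ_stalkMap]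
      refine CommRingCat.hom_ext (RingHom.ext fun t => ?_)
      refine Eq.trans ?_ (congrArg ((Spec R).presheaf.germ ⊤ y trivial).hom
        (Iso.hom_inv_id_apply (Scheme.ΓSpecIso R) _)).symm
      exact (TopCat.Presheaf.germ_res_apply (Spec R).presheaf (U := ⊤) _ y trivial _).symm
    obtain ⟨b'⟩ := nonempty_bc_inv (j.stalkMap y) ((stalkCx (j y)).obj F')
    let s : (stalkCx (j y)).obj F' ≅ (DR.bc (X.presheaf.germ U (j y) hxU).hom).obj E :=
      b'.symm ≪≫ (DR.bc (inv (j.stalkMap y)).hom).mapIso ((stalkResIso j y F').symm ≪≫ (stalkCx y).mapIso r ≪≫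
        (NatIso.mapHomologicalComplex (tildeStalkIso R y) (ComplexShape.up ℤ)).app E₁ ≪≫
        (DR.bcCompIso ρ (specToStalk R y) E).symm) ≪≫
      (DR.bcCompIso ((specToStalk R y).comp ρ) (inv (j.stalkMap y)).hom E).symm ≪≫
      eqToIso (by rw [hg]; rfl)
    exact ⟨DerivedCategory.Q.mapIso ((NatIso.mapHomologicalComplex (stalkFunctorIso (j y)) (ComplexShape.up ℤ)).app F' ≪≫ s) ≪≫ eP⟩

end GrothLib.KSix19
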