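import Groth.Agent.Lib.KSix19.TorAmp
import Groth.Agent.Lib.KSix19.SmoothPush
import Groth.Agent.Lib.KSix19.TorDimAffine
import Groth.Agent.Lib.DCxKFlat.Amplitude
import Groth.Agent.Lib.OX.PullbackKFlat
import Groth.Agent.Lib.OX.LTensorCx
import Groth.Agent.Lib.OX.LTensor

/-! # Tor amplitude of derived pullbacks and tensor products, on stalks -/

set_option autoImplicit false
set_option maxHeartbeats 800000
set_option backward.isDefEq.respectTransparency false
set_option linter.style.haveILetI false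
universe u

open CategoryTheory CategoryTheory.Limits AlgebraicGeometry HomologicalComplex MonoidalCategory

attribute [local instance] HasDerivedCategory.standard

namespace GrothLib.KSix19

open GrothLib.OX

/-- Tor amplitude of a tensor product with an extension of scalars. -/
theorem amp_tensor_bc {A B C : Type u} [CommRing A] [CommRing B] [CommRing C] (γ : A →+* B) (β : B →+* C)
    {δ : A →+* C} (hδ : δ = β.comp γ)
    {K : DRing.Cx C} {P : DRing.Cx B} {a b c d : ℤ}
    (hK : DRing.HasTorAmplitudeIn B a b (DRing.toD ((DRing.restrictCx β).obj K))) (hP : KF.IsKFlat P)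
    (hL : DRing.HasTorAmplitudeIn A c d (DRing.toD ((DRing.restrictCx γ).obj P))) :
    AmpOver δ (a + c) (b + d) (((KF.tensorCx (R := C)).obj K).obj ((DR.bc β).obj P)) := by
  subst hδ
  haveI := KF.hasLTensorCx P
  have h := KF.hasTorAmplitudeIn_restrict_lTensorCx γ hK P hL
  obtain ⟨v⟩ := KF.lTensorCx_value_of_isKFlat P hP ((DRing.restrictCx β).obj K)
  refine (amp_congr γ β _ _ _).2 ?_
  exact amp_of_iso ((DRing.restrictD γ).mapIso v ≪≫ DR.restrictToDIso γ _ ≪≫
    DerivedCategory.Q.mapIso ((DRing.restrictCx γ).mapIso (KF.baseChangeTensorIso β K P).symm)) h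

variable {X Y Z : Scheme.{u}}

/-- The stalk of a tensor product of complexes. -/
noncomputable def stalkTensorCxIso (x : X) (L M : CochainComplex X.Modules ℤ) :
    (stalkCx x).obj (((DCoh.tensorCx (X := X)).obj L).obj M) ≅
      ((KF.tensorCx (R := X.presheaf.stalk x)).obj ((stalkCx x).obj L)).obj ((stalkCx x).obj M) :=
  let B := (((DCoh.tensorBi (X := X)).mapBifunctorHomologicalComplex (ComplexShape.up ℤ) (ComplexShape.up ℤ)).obj L).obj M
  let B' := (((curriedTensor (ModuleCat.{u} (X.presheaf.stalk x))).mapBifunctorHomologicalComplex (ComplexShape.up ℤ)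
    (ComplexShape.up ℤ)).obj ((stalkCx x).obj L)).obj ((stalkCx x).obj M)
  let e : TotalMap.mapBicx (stalk x) B ≅ B' :=
    HomologicalComplex.Hom.isoOfComponents
      (fun i => HomologicalComplex.Hom.isoOfComponents (fun j => stalkTensorBiIso x (L.X i) (M.X j))
        (fun j j' _ => (stalkTensorBiIso_natural₂ x (L.X i) (M.d j j')).symm))
      (fun i i' _ => HomologicalComplex.hom_ext _ _ fun j =>
        (stalkTensorBiIso_natural₁ x (L.d i i') (M.X j)).symm)
  (TotalMap.totalMapIso (stalk x) B).symm ≪≫ HomologicalComplex₂.total.mapIso e (ComplexShape.up ℤ)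

/-- Stalkwise relative amplitude bounds the cohomology sheaves. -/
theorem isLE_of_torAmplitude (g : Y ⟶ Z) {G : CochainComplex Y.Modules ℤ} {c d : ℤ}
    (h : DerSch.HasTorAmplitude g c d G) : (DCoh.toD Y G).IsLE d := by
  refine (DerivedCategory.isLE_iff _ _).2 fun i hi => ?_
  have hs : ∀ y : Y, IsZero ((stalk y).obj (G.homology i)) := fun y => by
    obtain ⟨E, hv, -, ⟨q⟩⟩ := h y
    obtain ⟨e⟩ := nonempty_stalkCxOver g y G
    let R := ModuleCat.restrictScalars.{u} (g.stalkMap y).hom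
    have hE : IsZero (E.homology i) :=
      (exactAt_iff_isZero_homology _ i).1 (ExactAt.of_isZero (hv i (Or.inr hi)))
    let C := (DRing.restrictCx (g.stalkMap y).hom).obj ((stalkCx y).obj G)
    let w : DRing.toD E ≅ DRing.toD C := q ≪≫ e ≪≫ DR.restrictToDIso _ _
    have hz : IsZero (C.homology i) :=
      hE.of_iso (((DerivedCategory.homologyFunctorFactors _ i).app _).symm ≪≫
        (DerivedCategory.homologyFunctor _ i).mapIso w.symm ≪≫ (DerivedCategory.homologyFunctorFactors _ i).app _)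
    have hz' : ((stalkCx y).obj G).ExactAt i :=
      (KF.exactAt_restrict_iff (g.stalkMap y).hom _ i).1 ((exactAt_iff_isZero_homology _ _).2 hz)
    exact ((exactAt_iff_isZero_homology _ _).1 hz').of_iso ((G.sc i).mapHomologyIso (stalk y)).symm
  have : IsIso (0 : G.homology i ⟶ G.homology i) :=
    (GrothLib.OX.isIso_iff _).2 fun y => ⟨0, (hs y).eq_of_src _ _, (hs y).eq_of_src _ _⟩
  exact ((IsZero.iff_id_eq_zero _).2 ((cancel_epi (0 : G.homology i ⟶ _)).1 (by simp))).of_iso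
    ((DerivedCategory.homologyFunctorFactors _ i).app G)

/-- Replace a complex by one isomorphic in the derived category. -/
theorem hasTorAmplitude_of_iso (g : Y ⟶ Z) {G G' : CochainComplex Y.Modules ℤ}
    (e : DCoh.toD Y G ≅ DCoh.toD Y G') {c d : ℤ} (h : DerSch.HasTorAmplitude g c d G) :
    DerSch.HasTorAmplitude g c d G' := fun y => by
  obtain ⟨w⟩ := nonempty_stalkCx_iso y e
  obtain ⟨a⟩ := nonempty_stalkCxOver g y G
  obtain ⟨a'⟩ := nonempty_stalkCxOver g y G'
  exact amp_of_iso (a ≪≫ (DRing.restrictD (g.stalkMap y).hom).mapIso w ≪≫ a'.symm) (h y)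

/-- **Tor amplitude of `F ⊗ Lf^*G`.** -/
theorem hasTorAmplitudeD_ltensor_lpull (f : X ⟶ Y) (g : Y ⟶ Z) {F : CochainComplex X.Modules ℤ} {a b : ℤ}
    (hF : DerSch.HasTorAmplitude f a b F) {G : CochainComplex Y.Modules ℤ} {c d : ℤ}
    (hG : DerSch.HasTorAmplitude g c d G) [DCoh.HasLpull f] [DCoh.HasLTensorCx F] :
    DerSch.HasTorAmplitudeD (f ≫ g) (a + c) (b + d) ((DCoh.LTensorCx F).obj ((DCoh.Lpull f).obj (DCoh.toD Y G))) := by
  haveI := isLE_of_torAmplitude g hG
  obtain ⟨P, t, hP, hflat, ⟨eP⟩⟩ := exists_flat_rep G d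
  have hK : DCoh.IsKFlat P := OX.isKFlat_of_bounded_above P t hP hflat
  let P' := ((Scheme.Modules.pullback f).mapHomologicalComplex (ComplexShape.up ℤ)).obj P
  obtain ⟨v⟩ := OX.lpull_value f P hK
  obtain ⟨w⟩ := OX.ltensorCx_value F P' (OX.isKFlat_pullback f hK)
  intro T ⟨eT⟩
  refine hasTorAmplitude_of_iso (f ≫ g) (G := ((DCoh.tensorCx (X := X)).obj P').obj F)
    (w.symm ≪≫ (DCoh.LTensorCx F).mapIso (v.symm ≪≫ (DCoh.Lpull f).mapIso eP) ≪≫ eT.symm) fun x => ?_
  let β := (f.stalkMap x).hom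
  let γ := (g.stalkMap (f x)).hom
  obtain ⟨a₁⟩ := nonempty_stalkCxOver f x F
  obtain ⟨a₂⟩ := nonempty_stalkCxOver g (f x) P
  have hKx : KF.IsKFlat ((stalkCx (f x)).obj P) :=
    KF.isKFlat_of_vanishesAbove (fun k hk => (stalk (f x)).map_isZero (hP k hk))
      (fun k => (GrothLib.OX.flat_iff _).1 (hflat k) (f x))
  have hc : ((f ≫ g).stalkMap x).hom = β.comp γ := by
    rw [Scheme.Hom.stalkMap_comp]; rfl
  have h' := amp_tensor_bc γ β hc (K := (stalkCx x).obj F) (amp_of_iso (a₁ ≪≫ DR.restrictToDIso β _) (hF x)) hKx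
    (amp_of_iso (a₂ ≪≫ DR.restrictToDIso γ _) ((hasTorAmplitude_of_iso g eP.symm hG) (f x)))
  obtain ⟨a₃⟩ := nonempty_stalkCxOver (f ≫ g) x (((DCoh.tensorCx (X := X)).obj P').obj F)
  let s : (stalkCx x).obj P' ≅ (DR.bc β).obj ((stalkCx (f x)).obj P) :=
    (NatIso.mapHomologicalComplex (pullStalkIso f x) (ComplexShape.up ℤ)).app P
  let s' : (stalkCx x).obj (((DCoh.tensorCx (X := X)).obj P').obj F) ≅
      ((KF.tensorCx (R := X.presheaf.stalk x)).obj ((stalkCx x).obj F)).obj ((DR.bc β).obj ((stalkCx (f x)).obj P)) :=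
    stalkTensorCxIso x P' F ≪≫ KF.tensorCxSymm _ _ ≪≫ ((KF.tensorCx (R := X.presheaf.stalk x)).obj _).mapIso s
  exact amp_of_iso ((DR.restrictToDIso _ _).symm ≪≫
    (DRing.restrictD ((f ≫ g).stalkMap x).hom).mapIso (DerivedCategory.Q.mapIso s'.symm) ≪≫ a₃.symm) h'

/-- **Tor amplitude of a derived pullback.** -/
theorem hasTorAmplitudeD_lpull (f : X ⟶ Y) (g : Y ⟶ Z) {m : ℕ} (hf : DerSch.HasTorDimLE f m)
    {G : CochainComplex Y.Modules ℤ} {c d : ℤ} (hG : DerSch.HasTorAmplitude g c d G) [DCoh.HasLpull f] :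
    DerSch.HasTorAmplitudeD (f ≫ g) (c - m) d ((DCoh.Lpull f).obj (DCoh.toD Y G)) := by
  haveI := isLE_of_torAmplitude g hG
  obtain ⟨P, t, hP, hflat, ⟨eP⟩⟩ := exists_flat_rep G d
  have hK : DCoh.IsKFlat P := OX.isKFlat_of_bounded_above P t hP hflat
  let P' := ((Scheme.Modules.pullback f).mapHomologicalComplex (ComplexShape.up ℤ)).obj P
  obtain ⟨v⟩ := OX.lpull_value f P hK
  intro T ⟨eT⟩
  refine hasTorAmplitude_of_iso (f ≫ g) (G := P')
    (v.symm ≪≫ (DCoh.Lpull f).mapIso eP ≪≫ eT.symm) fun x => ?_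
  let β := (f.stalkMap x).hom
  let γ := (g.stalkMap (f x)).hom
  obtain ⟨a₂⟩ := nonempty_stalkCxOver g (f x) P
  have hKx : KF.IsKFlat ((stalkCx (f x)).obj P) :=
    KF.isKFlat_of_vanishesAbove (fun k hk => (stalk (f x)).map_isZero (hP k hk))
      (fun k => (GrothLib.OX.flat_iff _).1 (hflat k) (f x))
  have hc : ((f ≫ g).stalkMap x).hom = β.comp γ := by
    rw [Scheme.Hom.stalkMap_comp]; rfl
  let O := ModuleCat.of (X.presheaf.stalk x) (X.presheaf.stalk x)
  have h' := amp_tensor_bc γ β hc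
    (K := (HomologicalComplex.single (ModuleCat.{u} (X.presheaf.stalk x)) (ComplexShape.up ℤ) 0).obj O)
    ((ampM_iff β _ _ O).1 ((hasTorAmplitudeAt_unit_iff' f x _ _).1 (hf x))) hKx
    (amp_of_iso (a₂ ≪≫ DR.restrictToDIso γ _) ((hasTorAmplitude_of_iso g eP.symm hG) (f x)))
  obtain ⟨a₃⟩ := nonempty_stalkCxOver (f ≫ g) x P'
  let Q := (DR.bc β).obj ((stalkCx (f x)).obj P)
  let s : (stalkCx x).obj P' ≅ Q :=
    (NatIso.mapHomologicalComplex (pullStalkIso f x) (ComplexShape.up ℤ)).app P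
  let s' : (stalkCx x).obj P' ≅ ((KF.tensorCx (R := X.presheaf.stalk x)).obj
      ((HomologicalComplex.single (ModuleCat.{u} (X.presheaf.stalk x)) (ComplexShape.up ℤ) 0).obj O)).obj Q :=
    s ≪≫ (KF.tensorCxUnitIso Q).symm ≪≫ KF.singleIso Q O ≪≫ KF.tensorCxSymm _ _
  rw [show c - (m : ℤ) = -(m : ℤ) + c by ring, show d = 0 + d by ring]
  exact amp_of_iso ((DR.restrictToDIso _ _).symm ≪≫
    (DRing.restrictD ((f ≫ g).stalkMap x).hom).mapIso (DerivedCategory.Q.mapIso s'.symm) ≪≫ a₃.symm) h'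

/-- Exactness of a tensor product with an extension of scalars. -/
theorem exactAt_tensor_bc {B C : Type u} [CommRing B] [CommRing C] (β : B →+* C)
    {K : DRing.Cx C} {P : DRing.Cx B} {a b c d : ℤ}
    (hK : DRing.HasTorAmplitudeIn B a b (DRing.toD ((DRing.restrictCx β).obj K))) (hP : KF.IsKFlat P)
    (hL : ∀ i, i < c ∨ d < i → P.ExactAt i) {i : ℤ} (hi : i < a + c ∨ b + d < i) :
    (((KF.tensorCx (R := C)).obj K).obj ((DR.bc β).obj P)).ExactAt i := by
  haveI := KF.hasLTensorCx P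
  obtain ⟨E, hE, hEf, ⟨q⟩⟩ := hK
  obtain ⟨v⟩ := KF.lTensorCx_value_of_isKFlat P hP ((DRing.restrictCx β).obj K)
  obtain ⟨v'⟩ := KF.lTensorCx_value_of_isKFlat P hP E
  let w : DRing.toD (((KF.tensorCx (R := B)).obj E).obj P) ≅
      DRing.toD (((KF.tensorCx (R := B)).obj ((DRing.restrictCx β).obj K)).obj P) :=
    v'.symm ≪≫ (DRing.LTensorCx B P).mapIso q ≪≫ v
  rw [← KF.exactAt_restrict_iff β]
  refine (KF.exactAt_iff_of_iso (KF.baseChangeTensorIso β K P) i).2 ?_
  have h : (((KF.tensorCx (R := B)).obj E).obj P).ExactAt i := KF.exactAt_tensor_of_exactAt hE hEf hL i hi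
  rw [exactAt_iff_isZero_homology] at h ⊢
  exact h.of_iso (((DerivedCategory.homologyFunctorFactors _ i).app _).symm ≪≫
    (DerivedCategory.homologyFunctor _ i).mapIso w.symm ≪≫ (DerivedCategory.homologyFunctorFactors _ i).app _)

/-- **Bounds for `F ⊗ Lf^*G`.** -/
theorem isZero_HD_ltensor_lpull (f : X ⟶ Y) {F : CochainComplex X.Modules ℤ} {a b : ℤ}
    (hF : DerSch.HasTorAmplitude f a b F) (G : CochainComplex Y.Modules ℤ) {c d : ℤ}
    [(DCoh.toD Y G).IsLE d] (hG : ∀ i, i < c ∨ d < i → G.ExactAt i) [DCoh.HasLpull f] [DCoh.HasLTensorCx F]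
    {i : ℤ} (hi : i < a + c ∨ b + d < i) :
    IsZero (DCoh.HD ((DCoh.LTensorCx F).obj ((DCoh.Lpull f).obj (DCoh.toD Y G))) i) := by
  obtain ⟨P, t, hP, hflat, ⟨eP⟩⟩ := exists_flat_rep G d
  have hK : DCoh.IsKFlat P := OX.isKFlat_of_bounded_above P t hP hflat
  let P' := ((Scheme.Modules.pullback f).mapHomologicalComplex (ComplexShape.up ℤ)).obj P
  obtain ⟨v⟩ := OX.lpull_value f P hK
  obtain ⟨w⟩ := OX.ltensorCx_value F P' (OX.isKFlat_pullback f hK)
  let T := ((DCoh.tensorCx (X := X)).obj P').obj F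
  let u : DerivedCategory.Q.obj T ≅ (DCoh.LTensorCx F).obj ((DCoh.Lpull f).obj (DCoh.toD Y G)) :=
    w.symm ≪≫ (DCoh.LTensorCx F).mapIso (v.symm ≪≫ (DCoh.Lpull f).mapIso eP)
  have hs : ∀ x : X, IsZero ((stalk x).obj (T.homology i)) := fun x => by
    let β := (f.stalkMap x).hom
    obtain ⟨a₁⟩ := nonempty_stalkCxOver f x F
    have hKx : KF.IsKFlat ((stalkCx (f x)).obj P) :=
      KF.isKFlat_of_vanishesAbove (fun k hk => (stalk (f x)).map_isZero (hP k hk))
        (fun k => (GrothLib.OX.flat_iff _).1 (hflat k) (f x))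
    have hPex : ∀ j, j < c ∨ d < j → ((stalkCx (f x)).obj P).ExactAt j := fun j hj => by
      have h0 : IsZero (P.homology j) := ((exactAt_iff_isZero_homology _ _).1 (hG j hj)).of_iso
        (((DerivedCategory.homologyFunctorFactors _ j).app _).symm ≪≫
          (DerivedCategory.homologyFunctor _ j).mapIso eP ≪≫ (DerivedCategory.homologyFunctorFactors _ j).app _)
      rw [exactAt_iff_isZero_homology]
      exact ((stalk (f x)).map_isZero h0).of_iso ((P.sc j).mapHomologyIso (stalk (f x)))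
    have h := exactAt_tensor_bc β (K := (stalkCx x).obj F) (amp_of_iso (a₁ ≪≫ DR.restrictToDIso β _) (hF x))
      hKx hPex hi
    let s' : (stalkCx x).obj T ≅
        ((KF.tensorCx (R := X.presheaf.stalk x)).obj ((stalkCx x).obj F)).obj ((DR.bc β).obj ((stalkCx (f x)).obj P)) :=
      stalkTensorCxIso x P' F ≪≫ KF.tensorCxSymm _ _ ≪≫ ((KF.tensorCx (R := X.presheaf.stalk x)).obj _).mapIso
        ((NatIso.mapHomologicalComplex (pullStalkIso f x) (ComplexShape.up ℤ)).app P)
    exact ((exactAt_iff_isZero_homology _ _).1 ((KF.exactAt_iff_of_iso s' i).2 h)).of_iso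
      ((T.sc i).mapHomologyIso (stalk x)).symm
  have : IsIso (0 : T.homology i ⟶ T.homology i) :=
    (GrothLib.OX.isIso_iff _).2 fun y => ⟨0, (hs y).eq_of_src _ _, (hs y).eq_of_src _ _⟩
  exact ((IsZero.iff_id_eq_zero _).2 ((cancel_epi (0 : T.homology i ⟶ _)).1 (by simp))).of_iso
    (((DerivedCategory.homologyFunctor _ i).mapIso u).symm ≪≫ (DerivedCategory.homologyFunctorFactors _ i).app T)

end GrothLib.KSix19
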