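import Groth.Agent.Lib.KSix19.StalkAmp
import Groth.Agent.Lib.DCxRing.LBase
import Groth.Agent.Lib.DCxKFlat.LBaseKFlat
import Groth.Agent.Lib.DCxRing.PerfectModule

/-! # Perfection from stalks: pseudo-coherent complexes of finite tor dimension at a point -/

set_option autoImplicit false
set_option maxHeartbeats 800000
set_option linter.style.haveILetI false
set_option backward.isDefEq.respectTransparency false
universe u

open CategoryTheory CategoryTheory.Limits AlgebraicGeometry HomologicalComplex CochainComplex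

attribute [local instance] HasDerivedCategory.standard

namespace GrothLib.KSix19

open GrothLib.OX

variable {X : Scheme.{u}}

/-- Tensor exactness transfers back along a map with exact cone in degrees `≥ m`. -/
theorem tExact_of_good {A : Type u} [CommRing A] {E F : DRing.Cx A} (f : E ⟶ F) {b c : ℤ}
    (hb : DRing.VanishesAbove E b) (hE : DRing.TermwiseFlat E) (hc : DRing.VanishesAbove F c)
    (hF : DRing.TermwiseFlat F) {m : ℤ} (hC : ∀ j, m ≤ j → (mappingCone f).ExactAt j)
    (M : Type u) [AddCommGroup M] [Module A M] {i : ℤ} (hi : m < i) (h : GrothLib.DR.TExact F M i) :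
    GrothLib.DR.TExact E M i := by
  let T := (MonoidalCategory.tensorRight (ModuleCat.of A M)).mapHomologicalComplex (ComplexShape.up ℤ)
  have hCb : DRing.VanishesAbove (mappingCone f) (max b c) := fun j hj =>
    GrothLib.DR.isZero_cone_X f (hb (j + 1) (by omega)) (hc j (by omega))
  have hT : ∀ j, m ≤ j → (mappingCone (T.map f)).ExactAt j := fun j hj =>
    ((GrothLib.DR.tExact_iff (mappingCone f) M j).1
      (GrothLib.DR.tExact_of_exact hCb (GrothLib.DR.flat_cone f hE hF) (n := m)
        (fun l hl => hC l hl) j hj M)).of_iso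
      (mappingCone.mapHomologicalComplexIso f (MonoidalCategory.tensorRight (ModuleCat.of A M)))
  haveI : IsIso ((DerivedCategory.homologyFunctor (ModuleCat.{u} A) i).map
      (DerivedCategory.Q.map (T.map f))) := ((GrothLib.DR.cone_exact_iff (T.map f) m).1 hT).1 i hi
  rw [GrothLib.DR.tExact_iff, GrothLib.DR.exactAt_iff] at h ⊢
  exact ((asIso ((DerivedCategory.homologyFunctor (ModuleCat.{u} A) i).map
    (DerivedCategory.Q.map (T.map f)))).toLinearEquiv.toEquiv.subsingleton_congr).2 h

/-- The stalk of a restriction. -/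
noncomputable def stalkResIso {U : Scheme.{u}} (j : U ⟶ X) [IsOpenImmersion j] (y : U)
    (P : CochainComplex X.Modules ℤ) :
    (stalkCx y).obj ((resCx j).obj P) ≅
      (GrothLib.DR.bc (j.stalkMap y).hom).obj ((stalkCx (j y)).obj P) :=
  (stalkCx y).mapIso ((resPullCxIso j).app P) ≪≫
    (NatIso.mapHomologicalComplex (pullStalkIso j y) (ComplexShape.up ℤ)).app P

/-- Tensor exactness on the stalks of restrictions. -/
theorem tExact_stalk_res {U : Scheme.{u}} (j : U ⟶ X) [IsOpenImmersion j] (y : U)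
    (P : CochainComplex X.Modules ℤ) {b : ℤ} (hP : ∀ i, b < i → IsZero (P.X i)) (hflat : ∀ i, FlatMod.IsFlat (P.X i))
    {p q : ℤ} (h : DRing.HasTorAmplitudeIn (X.presheaf.stalk (j y)) p q (DRing.toD ((stalkCx (j y)).obj P)))
    (M : Type u) [AddCommGroup M] [Module (U.presheaf.stalk y) M] (i : ℤ) (hi : i < p ∨ q < i) :
    GrothLib.DR.TExact ((stalkCx y).obj ((resCx j).obj P)) M i := by
  let ψ := (j.stalkMap y).hom
  haveI : DRing.HasLBaseChange ψ := GrothLib.KF.hasLBaseChange ψ
  have hv : DRing.VanishesAbove ((stalkCx (j y)).obj P) b := fun k hk => (stalk (j y)).map_isZero (hP k hk)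
  have hf : DRing.TermwiseFlat ((stalkCx (j y)).obj P) := fun k => (GrothLib.OX.flat_iff _).1 (hflat k) (j y)
  obtain ⟨w⟩ := GrothLib.DR.nonempty_lBase_iso ψ hv hf
  have hv' : DRing.VanishesAbove ((stalkCx y).obj ((resCx j).obj P)) b := fun k hk =>
    (stalk y).map_isZero ((Scheme.Modules.restrictFunctor j).map_isZero (hP k hk))
  have hf' : DRing.TermwiseFlat ((stalkCx y).obj ((resCx j).obj P)) := fun k =>
    (GrothLib.OX.flat_iff _).1 (flat_restrict j (hflat k)) y
  exact (GrothLib.DR.hasTorAmplitudeIn_iff hv' hf' p q).1 (GrothLib.DR.hasTorAmplitudeIn_of_iso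
    (w ≪≫ (DerivedCategory.Q.mapIso (stalkResIso j y P)).symm) (GrothLib.DR.hasTorAmplitudeIn_lBase ψ h)) M i hi

/-- A cokernel with flat stalk is locally free near the point. -/
theorem exists_isFinLocFree_cokernel {U : Scheme.{u}} {M N : U.Modules} (d : M ⟶ N) (hM : FlatMod.IsFinLocFree M)
    (hN : FlatMod.IsFinLocFree N) (y : U) (h : Module.Flat (U.presheaf.stalk y) ((stalk y).obj (cokernel d))) :
    ∃ (W : Scheme.{u}) (k : W ⟶ U) (_ : IsOpenImmersion k), y ∈ Set.range k ∧
      FlatMod.IsFinLocFree (cokernel ((Scheme.Modules.restrictFunctor k).map d)) := by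
  obtain ⟨V, n, hy, ⟨e⟩⟩ := hN y
  let R := Scheme.Modules.restrictFunctor V.ι
  have hS := (ShortComplex.exact_of_g_is_cokernel (ShortComplex.mk d (cokernel.π d) (cokernel.condition d))
    (cokernelIsCokernel d)).map R
  let S' := ShortComplex.mk (R.map d ≫ e.hom) (e.inv ≫ R.map (cokernel.π d))
    (by rw [Category.assoc, e.hom_inv_id_assoc, ← R.map_comp, cokernel.condition, R.map_zero])
  have hS' : S'.Exact := (ShortComplex.exact_iff_of_iso
    (ShortComplex.isoMk (S₁ := (ShortComplex.mk d (cokernel.π d) (cokernel.condition d)).map R) (S₂ := S')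
      (Iso.refl _) e (Iso.refl _) (Category.id_comp _)
      ((e.hom_inv_id_assoc _).trans (Category.comp_id _).symm))).1 hS
  let z₀ : V.toScheme := ⟨y, hy⟩
  let ε₁ : (stalk z₀).obj (R.obj (cokernel d)) ≅ (stalk z₀).obj ((Scheme.Modules.pullback V.ι).obj (cokernel d)) :=
    (stalk z₀).mapIso ((Scheme.Modules.restrictFunctorIsoPullback V.ι).app (cokernel d))
  let ε₂ : (stalk z₀).obj ((Scheme.Modules.pullback V.ι).obj (cokernel d)) ≅
      (ModuleCat.extendScalars (V.ι.stalkMap z₀).hom).obj ((stalk (V.ι z₀)).obj (cokernel d)) :=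
    (pullStalkIso V.ι z₀).app (cokernel d)
  have hq : Module.Flat (V.toScheme.presheaf.stalk z₀) ((stalk z₀).obj (R.obj (cokernel d))) :=
    flat_of_modIso (ε₁ ≪≫ ε₂).symm (flat_extendScalars _ _ h)
  obtain ⟨W, k, hk, r, ⟨z, hz⟩, ⟨i⟩⟩ := exists_restrict_free_of_flat_at _ _ S'.zero hS'
    (isFinLocFree_restrict V.ι hM) (⟨y, hy⟩ : V.toScheme) hq
  refine ⟨W, k ≫ V.ι, inferInstance, ⟨z, congrArg V.ι hz⟩, DCoh.isFinLocFree_of_iso ?_ (isFinLocFree_freeMod W r)⟩
  exact ((Scheme.Modules.restrictFunctorComp k V.ι).app (cokernel d) ≪≫ i).symm ≪≫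
    (PreservesCokernel.iso (Scheme.Modules.restrictFunctor (k ≫ V.ι)) d)

/-- A pseudo-coherent bounded object of finite tor dimension at `x` is perfect near `x`. -/
theorem exists_strict_of_stalk {P : CochainComplex X.Modules ℤ} {b : ℤ} (hP : ∀ i, b < i → IsZero (P.X i))
    (hflat : ∀ i, FlatMod.IsFlat (P.X i)) {a : ℤ} (hGE : ∀ i, i < a → P.ExactAt i)
    (hPC : DCoh.IsPseudoCoherentD (a - 2) (DerivedCategory.Q.obj P)) (x : X) {q : ℤ}
    (hx : DRing.HasTorAmplitudeIn (X.presheaf.stalk x) a q (DRing.toD ((stalkCx x).obj P))) :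
    ∃ (U : Scheme.{u}) (j : U ⟶ X) (_ : IsOpenImmersion j), x ∈ Set.range j ∧
      Strict ((resD j).obj (DerivedCategory.Q.obj P)) := by
  obtain ⟨U, j, hj, ⟨y₀, rfl⟩, hU⟩ := isPseudoCoherentD_iff.1 hPC x
  obtain ⟨E₀, α, hE₀, hα⟩ := hU.of_iso ((resDFac j).app P)
  obtain ⟨V, β, hy, hβ⟩ := exists_resD_chain hE₀ α y₀
  let y : V.toScheme := ⟨y₀, hy⟩
  let E : CochainComplex V.toScheme.Modules ℤ := (resCx V.ι).obj E₀
  let F : CochainComplex V.toScheme.Modules ℤ := (resCx V.ι).obj ((resCx j).obj P)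
  have hβ' : DerivedCategory.Q.map β = (resDFac V.ι).inv.app E₀ ≫ (resD V.ι).map α ≫ (resDFac V.ι).hom.app _ := by
    rw [hβ]
    simp
  have hgood : DerCat.Good (DerivedCategory.Q.map β) (a - 2) := by
    rw [hβ']
    exact (DerCat.good_of_isIso _ _).comp ((hα.map _).comp (DerCat.good_of_isIso _ _))
  have hE : DCoh.IsStrictlyPerfect E := strictlyPerfect_resCx V.ι hE₀
  obtain ⟨⟨p₁, q₁, hpq⟩, hEfl⟩ := hE
  -- on the stalk
  have hCexact : ∀ l, a - 2 ≤ l → (mappingCone β).ExactAt l := fun l hl => by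
    rw [exactAt_iff_isZero_homology]
    have : (DerivedCategory.Q.obj (mappingCone β)).IsLE (a - 2 - 1) :=
      (DerCat.good_iff_isLE (DerivedCategory.mappingCone_triangle_distinguished β) (a - 2)).1 hgood
    exact (DerivedCategory.isZero_of_isLE (DerivedCategory.Q.obj (mappingCone β)) (a - 2 - 1) l
      (by omega)).of_iso (hdIso _ l).symm
  let f := (stalkCx y).map β
  have hC : ∀ l, a - 2 ≤ l → (mappingCone f).ExactAt l := fun l hl => by
    refine ExactAt.of_iso ?_ (mappingCone.mapHomologicalComplexIso β (stalk y))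
    rw [exactAt_iff_isZero_homology]
    exact ((stalk y).map_isZero ((exactAt_iff_isZero_homology _ _).1 (hCexact l hl))).of_iso
      ((mappingCone β).sc l |>.mapHomologyIso (stalk y))
  have hFP : ∀ i, b < i → IsZero (((resCx j).obj P).X i) := fun i hi =>
    (Scheme.Modules.restrictFunctor j).map_isZero (hP i hi)
  have hamp : ∀ (M : Type u) [AddCommGroup M] [Module (U.presheaf.stalk (V.ι y)) M] (i : ℤ),
      (i < a ∨ q < i) → GrothLib.DR.TExact ((stalkCx (V.ι y)).obj ((resCx j).obj P)) M i :=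
    fun M _ _ i hi => tExact_stalk_res j (V.ι y) P hP hflat hx M i hi
  have hampU : DRing.HasTorAmplitudeIn (U.presheaf.stalk (V.ι y)) a q
      (DRing.toD ((stalkCx (V.ι y)).obj ((resCx j).obj P))) :=
    (GrothLib.DR.hasTorAmplitudeIn_iff (fun k hk => (stalk (V.ι y)).map_isZero (hFP k hk))
      (fun k => (GrothLib.OX.flat_iff _).1 (flat_restrict j (hflat k)) (V.ι y)) a q).2 hamp
  have hT : ∀ (M : Type u) [AddCommGroup M] [Module (V.toScheme.presheaf.stalk y) M],
      GrothLib.DR.TExact ((stalkCx y).obj E) M (a - 1) := fun M _ _ =>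
    tExact_of_good f (b := q₁) (c := b)
      (fun k hk => (stalk y).map_isZero (hpq k (Or.inr hk)))
      (fun k => (GrothLib.OX.flat_iff _).1 (flat_of_isFinLocFree (hEfl k)) y)
      (fun k hk => (stalk y).map_isZero ((Scheme.Modules.restrictFunctor V.ι).map_isZero (hFP k hk)))
      (fun k => (GrothLib.OX.flat_iff _).1 (flat_restrict V.ι (flat_restrict j (hflat k))) y)
      hC M (by omega)
      (tExact_stalk_res V.ι y _ hFP (fun k => flat_restrict j (hflat k)) hampU M (a - 1) (Or.inl (by omega)))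
  let Ey := (stalkCx y).obj E
  have hflatQ : Module.Flat (V.toScheme.presheaf.stalk y) ((stalk y).obj (cokernel (E.d (a - 1) a))) := by
    haveI : Module.Flat (V.toScheme.presheaf.stalk y) (Ey.X a) :=
      (GrothLib.OX.flat_iff _).1 (flat_of_isFinLocFree (hEfl a)) y
    haveI := GrothLib.DR.flat_quotient_range (Ey.d (a - 1 - 1) (a - 1)).hom (Ey.d (a - 1) a).hom
      fun M _ _ => by
        have := hT M
        unfold GrothLib.DR.TExact at this
        rwa [show a - 1 + 1 = a by omega] at this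
    exact flat_of_modIso ((ModuleCat.cokernelIsoRangeQuotient (Ey.d (a - 1) a)).symm ≪≫
      (PreservesCokernel.iso (stalk y) (E.d (a - 1) a)).symm) inferInstance
  obtain ⟨W, k, hk, ⟨w, hw⟩, hfree⟩ := exists_isFinLocFree_cokernel _ (hEfl _) (hEfl _) y hflatQ
  -- on the neighbourhood
  let E' : CochainComplex W.Modules ℤ := (resCx k).obj E
  let F' : CochainComplex W.Modules ℤ := (resCx k).obj F
  let γ : E' ⟶ F' := (resCx k).map β
  have hγ : DerCat.Good (DerivedCategory.Q.map γ) (a - 2) := by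
    have : DerivedCategory.Q.map γ =
        (resDFac k).inv.app E ≫ (resD k).map (DerivedCategory.Q.map β) ≫ (resDFac k).hom.app F := by
      have := (resDFac k).hom.naturality β
      dsimp only [Functor.comp_map] at this
      rw [this]
      exact (Iso.inv_hom_id_app_assoc (resDFac k) E _).symm
    rw [this]
    exact (DerCat.good_of_isIso _ _).comp ((hgood.map _).comp (DerCat.good_of_isIso _ _))
  have hE'fl : ∀ i, FlatMod.IsFinLocFree (E'.X i) := fun i => isFinLocFree_restrict k (hEfl i)
  haveI : F'.IsGE a := (F'.isGE_iff a).2 fun i hi => by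
    rw [exactAt_iff_isZero_homology]
    have h0 := (exactAt_iff_isZero_homology _ _).1 (hGE i hi)
    have h1 : IsZero (((resCx j).obj P).homology i) :=
      ((Scheme.Modules.restrictFunctor j).map_isZero h0).of_iso ((P.sc i).mapHomologyIso (Scheme.Modules.restrictFunctor j))
    have h2 : IsZero (F.homology i) :=
      ((Scheme.Modules.restrictFunctor V.ι).map_isZero h1).of_iso ((((resCx j).obj P).sc i).mapHomologyIso (Scheme.Modules.restrictFunctor V.ι))
    exact ((Scheme.Modules.restrictFunctor k).map_isZero h2).of_iso ((F.sc i).mapHomologyIso (Scheme.Modules.restrictFunctor k))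
  let F₀ := fun i => DerivedCategory.homologyFunctorFactors W.Modules i
  have : QuasiIso (CochainComplex.truncGEMap γ a) := (CochainComplex.quasiIso_truncGEMap_iff γ a).2 fun i hi =>
    (quasiIsoAt_iff_isIso_homologyMap γ i).2 (((MorphismProperty.isomorphisms _).arrow_mk_iso_iff
      (Arrow.isoMk ((F₀ i).app E') ((F₀ i).app F') ((F₀ i).hom.naturality γ).symm)).1 (hγ.1 i (by omega)))
  haveI : QuasiIso (F'.πTruncGE a) := (F'.quasiIso_πTruncGE_iff a).2 inferInstance
  have hS : Strict (DerivedCategory.Q.obj F') := by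
    refine ⟨E'.truncGE a, ⟨⟨a, max a q₁, fun i hi => ?_⟩, fun i => ?_⟩,
      ⟨asIso (DerivedCategory.Q.map (CochainComplex.truncGEMap γ a)) ≪≫
        (asIso (DerivedCategory.Q.map (F'.πTruncGE a))).symm⟩⟩
    · rcases hi with hi | hi
      · exact CochainComplex.isZero_of_isStrictlyGE _ a i hi
      · exact ((Scheme.Modules.restrictFunctor k).map_isZero (hpq i (Or.inr (by omega)))).of_iso
          (E'.truncGEXIso a i (by omega))
    · rcases lt_trichotomy i a with hi | rfl | hi
      · exact DCoh.isFinLocFree_of_isZero (CochainComplex.isZero_of_isStrictlyGE _ a i hi)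
      · exact DCoh.isFinLocFree_of_iso
          ((IsColimit.coconePointUniqueUpToIso (cokernelIsCokernel (E'.d (i - 1) i))
            (E'.opcyclesIsCokernel (i - 1) i (by simp))) ≪≫ (E'.truncGEXIsoOpcycles i).symm) hfree
      · exact DCoh.isFinLocFree_of_iso (E'.truncGEXIso a i hi).symm (hE'fl i)
  refine ⟨W, k ≫ V.ι ≫ j, inferInstance, ⟨w, ?_⟩, hS.of_iso ?_⟩
  · exact congrArg (fun z => j (V.ι z)) hw
  · exact (((resDFac k).app F).symm ≪≫ (resD k).mapIso (((resDFac V.ι).app _).symm ≪≫
      (resD V.ι).mapIso ((resDFac j).app P).symm ≪≫ (nonempty_resD_comp V.ι j _).some.symm) ≪≫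
      (nonempty_resD_comp k (V.ι ≫ j) _).some.symm)

end GrothLib.KSix19
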