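import Groth.Agent.Lib.KSix19.PushPC
import Groth.Agent.Lib.OX.AffinePush

/-! # Pseudo-coherence seen through closed immersions into affine schemes -/

set_option autoImplicit false
set_option maxHeartbeats 800000
set_option backward.isDefEq.respectTransparency false
universe u

open CategoryTheory CategoryTheory.Limits AlgebraicGeometry HomologicalComplex

attribute [local instance] HasDerivedCategory.standard

namespace GrothLib.KSix19

open GrothLib.OX

/-- The direct image along an isomorphism, as an equivalence. -/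
noncomputable def pushEquiv {W Z : Scheme.{u}} (e : W ≅ Z) : Z.Modules ≌ W.Modules :=
  CategoryTheory.Equivalence.mk (Scheme.Modules.pushforward e.inv) (Scheme.Modules.pushforward e.hom)
    ((Scheme.Modules.pushforwardId Z).symm ≪≫ Scheme.Modules.pushforwardCongr e.inv_hom_id.symm ≪≫
      (Scheme.Modules.pushforwardComp e.inv e.hom).symm)
    (Scheme.Modules.pushforwardComp e.hom e.inv ≪≫ Scheme.Modules.pushforwardCongr e.hom_inv_id ≪≫
      Scheme.Modules.pushforwardId W)

/-- Restriction along an isomorphism is direct image along the inverse. -/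
noncomputable def restrictIsoPush {W Z : Scheme.{u}} (e : W ≅ Z) :
    Scheme.Modules.restrictFunctor e.hom ≅ Scheme.Modules.pushforward e.inv :=
  (Scheme.Modules.restrictAdjunction e.hom).leftAdjointUniq (pushEquiv e).toAdjunction

/-- The direct image of the structure sheaf along an isomorphism. -/
noncomputable def pushStructureIso {W Z : Scheme.{u}} (e : W ≅ Z) :
    (Scheme.Modules.pushforward e.hom).obj (Coh.structureModule W) ≅ Coh.structureModule Z :=
  ((restrictIsoPush e.symm).app _).symm ≪≫ (Scheme.Modules.restrictFunctorIsoPullback e.inv).app _ ≪≫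
    pullUnitIso e.inv

section Square

variable {W Z W' Z' : Scheme.{u}} (j : W ⟶ Z) (j' : W' ⟶ Z') (κ : W' ⟶ W) (ν : Z' ⟶ Z)
  [IsOpenImmersion κ] [IsOpenImmersion ν]

theorem nonempty_push_restrict_square (hsq : j' ≫ ν = κ ≫ j) (hr : κ.opensRange = j ⁻¹ᵁ ν.opensRange) :
    Nonempty (Scheme.Modules.pushforward j ⋙ Scheme.Modules.restrictFunctor ν ≅
      Scheme.Modules.restrictFunctor κ ⋙ Scheme.Modules.pushforward j') := by
  let a : Z' ≅ ν.opensRange.toScheme := ν.isoOpensRange
  let b : W' ≅ (j ⁻¹ᵁ ν.opensRange).toScheme := κ.isoOpensRange ≪≫ W.isoOfEq hr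
  have ha : a.hom ≫ ν.opensRange.ι = ν := ν.isoOpensRange_hom_ι
  have hb : b.hom ≫ (j ⁻¹ᵁ ν.opensRange).ι = κ := by
    simp [b]
  have hab : (j ∣_ ν.opensRange) ≫ a.inv = b.inv ≫ j' := by
    rw [Iso.eq_inv_comp, ← Category.assoc, Iso.comp_inv_eq, ← cancel_mono ν.opensRange.ι, Category.assoc,
      morphismRestrict_ι, ← Category.assoc, hb, Category.assoc, ha, hsq]
  let e₁ : Scheme.Modules.restrictFunctor ν ≅
      Scheme.Modules.restrictFunctor ν.opensRange.ι ⋙ Scheme.Modules.restrictFunctor a.hom :=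
    Scheme.Modules.restrictFunctorCongr ha.symm ≪≫ Scheme.Modules.restrictFunctorComp a.hom ν.opensRange.ι
  let e₂ : Scheme.Modules.restrictFunctor κ ≅
      Scheme.Modules.restrictFunctor (j ⁻¹ᵁ ν.opensRange).ι ⋙ Scheme.Modules.restrictFunctor b.hom :=
    Scheme.Modules.restrictFunctorCongr hb.symm ≪≫
      Scheme.Modules.restrictFunctorComp b.hom (j ⁻¹ᵁ ν.opensRange).ι
  let e₃ : Scheme.Modules.pushforward (j ∣_ ν.opensRange) ⋙ Scheme.Modules.restrictFunctor a.hom ≅
      Scheme.Modules.restrictFunctor b.hom ⋙ Scheme.Modules.pushforward j' :=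
    Functor.isoWhiskerLeft _ (restrictIsoPush a) ≪≫ Scheme.Modules.pushforwardComp _ _ ≪≫
      Scheme.Modules.pushforwardCongr hab ≪≫ (Scheme.Modules.pushforwardComp _ _).symm ≪≫
      Functor.isoWhiskerRight (restrictIsoPush b).symm _
  exact ⟨Functor.isoWhiskerLeft _ e₁ ≪≫ (Functor.associator _ _ _).symm ≪≫
    Functor.isoWhiskerRight (pushRestrictIso j ν.opensRange) _ ≪≫ Functor.associator _ _ _ ≪≫
    Functor.isoWhiskerLeft _ e₃ ≪≫ (Functor.associator _ _ _).symm ≪≫ Functor.isoWhiskerRight e₂.symm _⟩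

theorem nonempty_resCx_pushCx_square (hsq : j' ≫ ν = κ ≫ j) (hr : κ.opensRange = j ⁻¹ᵁ ν.opensRange)
    (C : CochainComplex W.Modules ℤ) :
    Nonempty ((resCx ν).obj ((DerSch.pushCx j).obj C) ≅ (DerSch.pushCx j').obj ((resCx κ).obj C)) := by
  obtain ⟨e⟩ := nonempty_push_restrict_square j j' κ ν hsq hr
  exact ⟨HomologicalComplex.Hom.isoOfComponents (fun n => e.app (C.X n))
    fun p q _ => (e.hom.naturality (C.d p q)).symm⟩

end Square

section Push

/-- Direct image along a composite, on complexes. -/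
noncomputable def pushCxCompIso {W Z T : Scheme.{u}} (j : W ⟶ Z) (k : Z ⟶ T) (C : CochainComplex W.Modules ℤ) :
    (DerSch.pushCx k).obj ((DerSch.pushCx j).obj C) ≅ (DerSch.pushCx (j ≫ k)).obj C :=
  HomologicalComplex.Hom.isoOfComponents (fun n => (Scheme.Modules.pushforwardComp j k).app (C.X n))
    fun p q _ => ((Scheme.Modules.pushforwardComp j k).hom.naturality (C.d p q)).symm

/-- The direct image of the structure sheaf along a map of affine schemes. -/
noncomputable def pushSpecStructureIso {A B : CommRingCat.{u}} (ψ : A ⟶ B) :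
    (Scheme.Modules.pushforward (Spec.map ψ)).obj (Coh.structureModule (Spec B)) ≅
      (tilde.functor A).obj ((ModuleCat.restrictScalars ψ.hom).obj (ModuleCat.of B B)) :=
  (Scheme.Modules.pushforward (Spec.map ψ)).mapIso tildeSelf.symm ≪≫
    (pushTildeIso ψ).app (ModuleCat.of B B)

theorem modPC_tilde {A : Type u} [CommRing A] (M : ModuleCat.{u} A) (h : DRing.IsPseudoCoherentModule' A M) :
    ModPC ((tilde.functor (CommRingCat.of A)).obj M) := fun m => by
  refine isPseudoCoherentD_of_iso ((isPseudoCoherentD_tildeD_iff (A := A) _ m).2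
    (DR.isPseudoCoherent'_iff.1 h m)) ?_
  exact (DCoh.tildeD (CommRingCat.of A)).mapIso
      ((DerivedCategory.singleFunctorIsoCompQ (ModuleCat.{u} A) 0).app _) ≪≫
    (tilde.functor (CommRingCat.of A)).mapDerivedCategoryFactors.app _ ≪≫
    DerivedCategory.Q.mapIso
      ((singleMapHomologicalComplex (tilde.functor (CommRingCat.of A)) (ComplexShape.up ℤ) 0).app M)

theorem pushUnitPC_spec {A B : Type u} [CommRing A] [CommRing B] (ψ : A →+* B)
    (h : DR.RingPseudoCoherent ψ) [IsClosedImmersion (Spec.map (CommRingCat.ofHom ψ))] :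
    PushUnitPC (Spec.map (CommRingCat.ofHom ψ)) :=
  modPC_of_iso (pushSpecStructureIso (CommRingCat.ofHom ψ)).symm
    (modPC_tilde ((ModuleCat.restrictScalars ψ).obj (ModuleCat.of B B)) h)

/-- Composing with a pseudo-coherent closed immersion. -/
theorem isPseudoCoherentD_pushCx_comp_iff {W Z T : Scheme.{u}} (j : W ⟶ Z) (k : Z ⟶ T) [IsClosedImmersion k]
    (hk : PushUnitPC k) (C : CochainComplex W.Modules ℤ) (m : ℤ) :
    DCoh.IsPseudoCoherentD m (DerivedCategory.Q.obj ((DerSch.pushCx (j ≫ k)).obj C)) ↔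
      DCoh.IsPseudoCoherentD m (DerivedCategory.Q.obj ((DerSch.pushCx j).obj C)) := by
  let e : (pushD k).obj (DerivedCategory.Q.obj ((DerSch.pushCx j).obj C)) ≅
      DerivedCategory.Q.obj ((DerSch.pushCx (j ≫ k)).obj C) :=
    pushDFac k _ ≪≫ DerivedCategory.Q.mapIso (pushCxCompIso j k C)
  exact ⟨fun h => (isPseudoCoherentD_pushD_iff k hk).1 (isPseudoCoherentD_of_iso h e.symm),
    fun h => isPseudoCoherentD_of_iso ((isPseudoCoherentD_pushD_iff k hk).2 h) e⟩

end Push

section Imm

variable {X : Scheme.{u}} {P : Type u} [CommRing P]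

/-- The morphism from an open subscheme given by a ring map into its sections. -/
noncomputable def immOf (U : X.Opens) (φ : P →+* Γ(X, U)) : U.toScheme ⟶ Spec (CommRingCat.of P) :=
  U.toSpecΓ ≫ Spec.map (CommRingCat.ofHom φ)

/-- The pseudo-coherence test through `φ`, on all representatives. -/
def PCOn (m : ℤ) (K : DCoh.D X) (U : X.Opens) (φ : P →+* Γ(X, U)) : Prop :=
  ∀ G : CochainComplex X.Modules ℤ, Nonempty (DCoh.toD X G ≅ K) →
    DCoh.IsPseudoCoherentD m
      (DCoh.toD (Spec (CommRingCat.of P)) ((DerSch.pushCx (immOf U φ)).obj ((DCoh.restrictCx U).obj G)))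

theorem chartPC_iff {Y : Scheme.{u}} {m : ℤ} {K : DCoh.D X} {U : X.Opens} {V : Y.Opens} {n : ℕ}
    {φ : MvPolynomial (Fin n) Γ(Y, V) →+* Γ(X, U)} : DerSch.ChartPC m K U V φ ↔ PCOn m K U φ :=
  Iff.rfl

theorem isClosedImmersion_immOf {U : X.Opens} (hU : IsAffineOpen U) {φ : P →+* Γ(X, U)}
    (hφ : Function.Surjective φ) : IsClosedImmersion (immOf U φ) := by
  have : IsClosedImmersion (Spec.map (CommRingCat.ofHom φ)) :=
    IsClosedImmersion.spec_of_surjective (CommRingCat.ofHom φ) hφ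
  have : IsIso U.toSpecΓ := by rw [← hU.isoSpec_hom]; infer_instance
  unfold immOf
  infer_instance

/-- Only the object matters. -/
theorem pcOn_iff_of_rep {U : X.Opens} (hU : IsAffineOpen U) {φ : P →+* Γ(X, U)} (hφ : Function.Surjective φ)
    {m : ℤ} {K : DCoh.D X} {G : CochainComplex X.Modules ℤ} (e : DCoh.toD X G ≅ K) :
    PCOn m K U φ ↔ DCoh.IsPseudoCoherentD m
      (DerivedCategory.Q.obj ((DerSch.pushCx (immOf U φ)).obj ((resCx U.ι).obj G))) := by
  refine ⟨fun h => h G ⟨e⟩, fun h G' ⟨e'⟩ => ?_⟩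
  have := isClosedImmersion_immOf hU hφ
  let a : DerivedCategory.Q.obj G' ≅ DerivedCategory.Q.obj G := e' ≪≫ e.symm
  let b : DerivedCategory.Q.obj ((resCx U.ι).obj G') ≅ DerivedCategory.Q.obj ((resCx U.ι).obj G) :=
    ((resDFac U.ι).app G').symm ≪≫ (resD U.ι).mapIso a ≪≫ (resDFac U.ι).app G
  exact isPseudoCoherentD_of_iso h
    ((pushDFac (immOf U φ) _).symm ≪≫ (pushD (immOf U φ)).mapIso b.symm ≪≫ pushDFac (immOf U φ) _)

theorem exists_rep (K : DCoh.D X) : ∃ G : CochainComplex X.Modules ℤ, Nonempty (DCoh.toD X G ≅ K) :=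
  ⟨DerivedCategory.Q.objPreimage K, ⟨DerivedCategory.Q.objObjPreimageIso K⟩⟩

/-- Composing with a pseudo-coherent surjection. -/
theorem pcOn_comp_iff {U : X.Opens} (hU : IsAffineOpen U) {φ : P →+* Γ(X, U)} (hφ : Function.Surjective φ)
    {P' : Type u} [CommRing P'] {χ : P' →+* P} (hχs : Function.Surjective χ) (hχ : DR.RingPseudoCoherent χ)
    {θ : P' →+* Γ(X, U)} (hθ : θ = φ.comp χ) {m : ℤ} {K : DCoh.D X} :
    PCOn m K U θ ↔ PCOn m K U φ := by
  subst hθ
  obtain ⟨G, ⟨e⟩⟩ := exists_rep K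
  rw [pcOn_iff_of_rep hU (φ := φ.comp χ) (hφ.comp hχs) e, pcOn_iff_of_rep hU hφ e]
  have : IsClosedImmersion (Spec.map (CommRingCat.ofHom χ)) :=
    IsClosedImmersion.spec_of_surjective (CommRingCat.ofHom χ) hχs
  have hcomp : immOf U (φ.comp χ) = immOf U φ ≫ Spec.map (CommRingCat.ofHom χ) := by
    rw [immOf, immOf, Category.assoc, ← Spec.map_comp, CommRingCat.ofHom_comp]
  rw [hcomp]
  exact isPseudoCoherentD_pushCx_comp_iff _ _ (pushUnitPC_spec χ hχ) _ m

/-- Pseudo-coherence through a closed immersion with pseudo-coherent sections is absolute. -/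
theorem pcOn_iff_absolute {U : X.Opens} (hU : IsAffineOpen U) {φ : P →+* Γ(X, U)}
    (hφ : Function.Surjective φ) (hr : DR.RingPseudoCoherent φ) {m : ℤ} {K : DCoh.D X} :
    PCOn m K U φ ↔ DCoh.IsPseudoCoherentD m ((resD U.ι).obj K) := by
  obtain ⟨G, ⟨e⟩⟩ := exists_rep K
  have : IsClosedImmersion (Spec.map (CommRingCat.ofHom φ)) :=
    IsClosedImmersion.spec_of_surjective (CommRingCat.ofHom φ) hφ
  have := isClosedImmersion_immOf hU hφ
  have hpush : PushUnitPC (immOf U φ) :=
    modPC_of_iso ((Scheme.Modules.pushforward (Spec.map (CommRingCat.ofHom φ))).mapIso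
        (pushStructureIso hU.isoSpec ≪≫ Iso.refl _).symm ≪≫
      (Scheme.Modules.pushforwardComp hU.isoSpec.hom _).app _ ≪≫
      (Scheme.Modules.pushforwardCongr (by rw [immOf, hU.isoSpec_hom])).app _)
      (pushUnitPC_spec φ hr)
  rw [pcOn_iff_of_rep hU hφ e]
  let a : DerivedCategory.Q.obj ((DerSch.pushCx (immOf U φ)).obj ((resCx U.ι).obj G)) ≅
      (pushD (immOf U φ)).obj ((resD U.ι).obj K) :=
    (pushDFac (immOf U φ) _).symm ≪≫
      (pushD (immOf U φ)).mapIso (((resDFac U.ι).app G).symm ≪≫ (resD U.ι).mapIso e)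
  exact ⟨fun h => (isPseudoCoherentD_pushD_iff _ hpush).1 (isPseudoCoherentD_of_iso h a),
    fun h => isPseudoCoherentD_of_iso ((isPseudoCoherentD_pushD_iff _ hpush).2 h) a.symm⟩

end Imm

end GrothLib.KSix19
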