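import Groth.Agent.Lib.DCxRing.Amplitude
import Groth.Agent.Lib.DCxRing.BC
import Groth.Agent.Lib.DCxRing.Covers
import Groth.Agent.Lib.DCxRing.Restrict
import Mathlib.RingTheory.RingHom.StandardSmooth
import Mathlib.RingTheory.Unramified.Finite
import Mathlib.RingTheory.Smooth.Flat

/-! # Tor amplitude over smooth algebras -/

set_option autoImplicit false
set_option maxHeartbeats 800000
set_option backward.isDefEq.respectTransparency false
set_option linter.style.haveILetI false
universe u

open CategoryTheory CategoryTheory.Limits HomologicalComplex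
open scoped TensorProduct ChangeOfRings

attribute [local instance] HasDerivedCategory.standard

namespace GrothLib.KSix19

variable {A B : Type u} [CommRing A] [CommRing B]

/-- Tor amplitude of a restriction, for complexes. -/
abbrev AmpOver (φ : A →+* B) (a b : ℤ) (K : DRing.Cx B) : Prop :=
  DRing.HasTorAmplitudeIn A a b (DRing.toD ((DRing.restrictCx φ).obj K))

/-- Flat base change preserves tor amplitude. -/
theorem amp_bc_flat (φ : A →+* B) (hφ : φ.Flat) {X : DRing.Cx A} {a b : ℤ}
    (h : DRing.HasTorAmplitudeIn A a b (DRing.toD X)) :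
    DRing.HasTorAmplitudeIn B a b (DRing.toD ((DR.bc φ).obj X)) := by
  haveI := DR.preservesFiniteLimits_extendScalars φ hφ
  haveI := (ModuleCat.extendRestrictScalarsAdj.{u} φ).leftAdjoint_preservesColimits
  obtain ⟨E, hv, hf, ⟨e⟩⟩ := h
  let F := ModuleCat.extendScalars.{u, u, u} φ
  refine ⟨(DR.bc φ).obj E, fun i hi => F.map_isZero (hv i hi), fun i => ?_, ⟨?_⟩⟩
  · letI := φ.toAlgebra
    haveI := hf i
    exact inferInstanceAs (Module.Flat B (B ⊗[A] E.X i))
  · exact (F.mapDerivedCategoryFactors.app E).symm ≪≫ F.mapDerivedCategory.mapIso e ≪≫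
      F.mapDerivedCategoryFactors.app X

/-- Unramified: the diagonal splits off. -/
def HasSection (φ : A →+* B) : Prop :=
  letI := φ.toAlgebra
  ∃ t : B ⊗[A] B, (∀ b : B, ((1 : B) ⊗ₜ[A] b - b ⊗ₜ[A] (1 : B)) * t = 0) ∧
    Algebra.TensorProduct.lmul' A t = 1

theorem hasSection_of_surjective (φ : A →+* B) (hφ : Function.Surjective φ) : HasSection φ := by
  letI := φ.toAlgebra
  refine ⟨1, fun b => ?_, map_one _⟩
  obtain ⟨a, rfl⟩ := hφ b
  rw [mul_one, sub_eq_zero]
  change (1 : B) ⊗ₜ[A] (algebraMap A B a) = (algebraMap A B a) ⊗ₜ[A] (1 : B)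
  rw [Algebra.algebraMap_eq_smul_one, TensorProduct.tmul_smul, TensorProduct.smul_tmul']

theorem hasSection_of_formallyUnramified [inst : Algebra A B] [Algebra.EssFiniteType A B]
    [Algebra.FormallyUnramified A B] : HasSection (algebraMap A B) := by
  have h := (Algebra.FormallyUnramified.iff_exists_tensorProduct (R := A) (S := B)).1 inferInstance
  have : ∀ i : Algebra A B, i = inst → (letI := i; ∃ t : B ⊗[A] B,
      (∀ b : B, ((1 : B) ⊗ₜ[A] b - b ⊗ₜ[A] (1 : B)) * t = 0) ∧ Algebra.TensorProduct.lmul' A t = 1) := by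
    rintro i rfl
    exact h
  exact this _ (Algebra.algebra_ext _ _ fun _ => rfl)

section TM

variable (φ : A →+* B)

/-- `M ↦ B ⊗_A M`, restricted first. -/
noncomputable abbrev TF : ModuleCat.{u} B ⥤ ModuleCat.{u} B :=
  ModuleCat.restrictScalars.{u} φ ⋙ ModuleCat.extendScalars.{u, u, u} φ

/-- Simple tensors, typed in the functor's value. -/
noncomputable def tm (M : ModuleCat.{u} B) (p : B) (m : M) : (TF φ).obj M := p ⊗ₜ[A,φ] m

variable {φ} {M N : ModuleCat.{u} B}

theorem tm_add_left (p q : B) (m : M) : tm φ M (p + q) m = tm φ M p m + tm φ M q m := by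
  letI := φ.toAlgebra
  exact TensorProduct.add_tmul _ _ _

theorem tm_add_right (p : B) (m m' : M) : tm φ M p (m + m') = tm φ M p m + tm φ M p m' :=
  TensorProduct.tmul_add _ _ _

theorem tm_zero_right (p : B) : tm φ M p 0 = 0 := TensorProduct.tmul_zero _ _

theorem tm_balance (a : A) (p : B) (m : M) : tm φ M (φ a * p) m = tm φ M p (φ a • m) := by
  letI := φ.toAlgebra
  letI : Module A M := Module.compHom M φ
  exact TensorProduct.smul_tmul a p m

theorem smul_tm (b p : B) (m : M) : b • tm φ M p m = tm φ M (b * p) m := rfl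

theorem map_tm (g : M ⟶ N) (p : B) (m : M) : ((TF φ).map g).hom (tm φ M p m) = tm φ N p (g.hom m) := rfl

theorem counit_tm (p : B) (m : M) :
    ((ModuleCat.extendRestrictScalarsAdj.{u} φ).counit.app M).hom (tm φ M p m) = p • m := rfl

theorem tm_induction {motive : (TF φ).obj M → Prop} (zero : motive 0) (htm : ∀ p m, motive (tm φ M p m))
    (add : ∀ x y, motive x → motive y → motive (x + y)) (z : (TF φ).obj M) : motive z :=
  TensorProduct.induction_on z zero htm add

theorem exists_lift {P : Type u} [AddCommGroup P] (g : B → M → P)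
    (hl : ∀ p q m, g (p + q) m = g p m + g q m) (hr : ∀ p m m', g p (m + m') = g p m + g p m')
    (hb : ∀ (a : A) p m, g (φ a * p) m = g p (φ a • m)) :
    ∃ h : (TF φ).obj M →+ P, ∀ p m, h (tm φ M p m) = g p m := by
  letI := φ.toAlgebra
  letI : Module A M := Module.compHom M φ
  exact ⟨TensorProduct.liftAddHom (AddMonoidHom.mk' (fun p => AddMonoidHom.mk' (g p) (hr p))
    fun p q => AddMonoidHom.ext (hl p q)) hb, fun _ _ => rfl⟩

end TM

/-- With a splitting of the diagonal every module is a natural summand of its base change. -/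
theorem exists_section (φ : A →+* B) (hφ : HasSection φ) :
    ∃ s : 𝟭 (ModuleCat.{u} B) ⟶ TF φ,
      s ≫ (ModuleCat.extendRestrictScalarsAdj.{u} φ).counit = 𝟙 _ := by
  letI := φ.toAlgebra
  obtain ⟨t, ht, ht'⟩ := hφ
  let Ψ : ∀ (M : ModuleCat.{u} B), M → (B ⊗[A] B) →+ (TF φ).obj M := fun M m =>
    TensorProduct.liftAddHom
      (AddMonoidHom.mk' (fun u : B => AddMonoidHom.mk' (fun v : B => tm φ M u (v • m))
          fun v v' => by rw [add_smul, tm_add_right])
        fun u u' => AddMonoidHom.ext fun v => tm_add_left u u' (v • m))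
      fun a u v => by
        change tm φ M (φ a * u) (v • m) = tm φ M u ((φ a * v) • m)
        rw [tm_balance, mul_smul]
  have hΨ : ∀ (M : ModuleCat.{u} B) (m : M) (u v : B), Ψ M m (u ⊗ₜ[A] v) = tm φ M u (v • m) :=
    fun _ _ _ _ => rfl
  have hl : ∀ (M : ModuleCat.{u} B) (m : M) (b : B) (z : B ⊗[A] B),
      Ψ M m ((b ⊗ₜ[A] (1 : B)) * z) = b • Ψ M m z := by
    intro M m b z
    induction z using TensorProduct.induction_on with
    | zero => rw [mul_zero, map_zero, smul_zero]
    | tmul u v => rw [Algebra.TensorProduct.tmul_mul_tmul, one_mul, hΨ, hΨ, smul_tm]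
    | add z z' hz hz' => rw [mul_add, map_add, map_add, hz, hz', smul_add]
  have hr : ∀ (M : ModuleCat.{u} B) (m : M) (b : B) (z : B ⊗[A] B),
      Ψ M m (((1 : B) ⊗ₜ[A] b) * z) = Ψ M (b • m) z := by
    intro M m b z
    induction z using TensorProduct.induction_on with
    | zero => rw [mul_zero, map_zero, map_zero]
    | tmul u v =>
      rw [Algebra.TensorProduct.tmul_mul_tmul, one_mul, hΨ, hΨ, smul_smul, mul_comm b v]
    | add z z' hz hz' => rw [mul_add, map_add, map_add, hz, hz']
  have hadd : ∀ (M : ModuleCat.{u} B) (m m' : M) (z : B ⊗[A] B), Ψ M (m + m') z = Ψ M m z + Ψ M m' z := by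
    intro M m m' z
    induction z using TensorProduct.induction_on with
    | zero => rw [map_zero, map_zero, map_zero, add_zero]
    | tmul u v => rw [hΨ, hΨ, hΨ, smul_add, tm_add_right]
    | add z z' hz hz' => rw [map_add, map_add, map_add, hz, hz']; abel
  let sM : ∀ M : ModuleCat.{u} B, M →ₗ[B] (TF φ).obj M := fun M =>
    { toFun := fun m => Ψ M m t
      map_add' := fun m m' => hadd M m m' t
      map_smul' := fun b m => by
        have h := congrArg (Ψ M m) (ht b)
        rw [sub_mul, map_sub, map_zero, sub_eq_zero, hr, hl] at h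
        exact h }
  have hnat : ∀ {M N : ModuleCat.{u} B} (g : M ⟶ N) (m : M) (z : B ⊗[A] B),
      Ψ N (g.hom m) z = ((TF φ).map g).hom (Ψ M m z) := by
    intro M N g m z
    induction z using TensorProduct.induction_on with
    | zero => rw [map_zero, map_zero, map_zero]
    | tmul u v => rw [hΨ, hΨ, map_tm, map_smul]
    | add z z' hz hz' => rw [map_add, map_add, map_add, hz, hz']
  have hcounit : ∀ (M : ModuleCat.{u} B) (m : M) (z : B ⊗[A] B),
      ((ModuleCat.extendRestrictScalarsAdj.{u} φ).counit.app M).hom (Ψ M m z) =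
        Algebra.TensorProduct.lmul' A z • m := by
    intro M m z
    induction z using TensorProduct.induction_on with
    | zero =>
      simp only [map_zero, zero_smul]
    | tmul u v =>
      rw [hΨ, Algebra.TensorProduct.lmul'_apply_tmul, mul_smul]
      exact counit_tm u (v • m)
    | add z z' hz hz' =>
      simp only [map_add, add_smul, ← hz, ← hz']
  refine ⟨{ app := fun M => ModuleCat.ofHom (sM M), naturality := fun M N g => ?_ }, ?_⟩
  · ext m
    exact hnat g m t
  · ext M m
    change ((ModuleCat.extendRestrictScalarsAdj.{u} φ).counit.app M).hom (Ψ M m t) = m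
    rw [hcounit, ht', one_smul]

/-- Along a flat map with split diagonal, tor amplitude goes up. -/
theorem amp_of_hasSection (φ : A →+* B) (hflat : φ.Flat) (hφ : HasSection φ) {K : DRing.Cx B} {a b : ℤ}
    (h : AmpOver φ a b K) : DRing.HasTorAmplitudeIn B a b (DRing.toD K) := by
  obtain ⟨s, hs⟩ := exists_section φ hφ
  let σ : K ⟶ (DR.bc φ).obj ((DRing.restrictCx φ).obj K) :=
    { f := fun i => s.app (K.X i), comm' := fun i j _ => (s.naturality (K.d i j)).symm }
  let ρ : (DR.bc φ).obj ((DRing.restrictCx φ).obj K) ⟶ K :=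
    { f := fun i => (ModuleCat.extendRestrictScalarsAdj.{u} φ).counit.app (K.X i)
      comm' := fun i j _ => ((ModuleCat.extendRestrictScalarsAdj.{u} φ).counit.naturality (K.d i j)).symm }
  have hσρ : σ ≫ ρ = 𝟙 K := HomologicalComplex.hom_ext _ _ fun i => NatTrans.congr_app hs (K.X i)
  exact DR.hasTorAmplitudeIn_of_retract (DerivedCategory.Q.map σ) (DerivedCategory.Q.map ρ)
    (by rw [← Functor.map_comp, hσρ, CategoryTheory.Functor.map_id]) (amp_bc_flat φ hflat h)

theorem amp_congr {C : Type u} [CommRing C] (f : A →+* B) (g : B →+* C) (K : DRing.Cx C) (a b : ℤ) :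
    AmpOver (g.comp f) a b K ↔ AmpOver f a b ((DRing.restrictCx g).obj K) := by
  let e : DRing.toD ((DRing.restrictCx (g.comp f)).obj K) ≅
      DRing.toD ((DRing.restrictCx f).obj ((DRing.restrictCx g).obj K)) :=
    DerivedCategory.Q.mapIso ((NatIso.mapHomologicalComplex
      (ModuleCat.restrictScalarsComp' f g (g.comp f) rfl) (ComplexShape.up ℤ)).app K)
  exact ⟨fun h => DR.hasTorAmplitudeIn_of_iso e h, fun h => DR.hasTorAmplitudeIn_of_iso e.symm h⟩

section Poly

variable (M : ModuleCat.{u} (Polynomial A))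

local notation "φ₀" => (Polynomial.C : A →+* Polynomial A)

/-- The characteristic sequence `0 → M[x] → M[x] → M → 0`. -/
theorem exists_homotopy :
    ∃ h : (TF φ₀).obj M →+ (TF φ₀).obj M,
      (∀ z : (TF φ₀).obj M, h ((Polynomial.X : Polynomial A) • z -
        ((TF φ₀).map ((Polynomial.X : Polynomial A) • 𝟙 M)).hom z) = z) ∧
      ∀ z : (TF φ₀).obj M, (Polynomial.X : Polynomial A) • h z -
        ((TF φ₀).map ((Polynomial.X : Polynomial A) • 𝟙 M)).hom (h z) +
          tm φ₀ M 1 (((ModuleCat.extendRestrictScalarsAdj.{u} φ₀).counit.app M).hom z) = z := by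
  let X₀ : Polynomial A := Polynomial.X
  let mk : Polynomial A → M →+ (TF φ₀).obj M := fun p =>
    AddMonoidHom.mk' (fun m => tm φ₀ M p m) fun m m' => tm_add_right p m m'
  let xm : M →+ M := DistribSMul.toAddMonoidHom M X₀
  let G : ℕ → (M →+ (TF φ₀).obj M) := fun n => Nat.rec (motive := fun _ => M →+ (TF φ₀).obj M) 0
    (fun k g => mk (X₀ ^ k) + g.comp xm) n
  have hG : ∀ (n : ℕ) (m : M), G (n + 1) m = tm φ₀ M (X₀ ^ n) m + G n (X₀ • m) := fun _ _ => rfl
  let F₀ : M → ℕ → A → (TF φ₀).obj M := fun m n r => G n (Polynomial.C r • m)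
  let H₀ : Polynomial A → M → (TF φ₀).obj M := fun p m => p.sum (F₀ m)
  have hF0 : ∀ m n, F₀ m n 0 = 0 := fun m n => by
    change G n (Polynomial.C 0 • m) = 0
    rw [map_zero, zero_smul, map_zero]
  have H₀_add : ∀ p q m, H₀ (p + q) m = H₀ p m + H₀ q m := fun p q m =>
    Polynomial.sum_add_index p q (F₀ m) (hF0 m) fun n r r' => by
      change G n (Polynomial.C (r + r') • m) = G n (Polynomial.C r • m) + G n (Polynomial.C r' • m)
      rw [map_add, add_smul, map_add]
  have hmono : ∀ (n : ℕ) (r : A) (m : M), H₀ (Polynomial.monomial n r) m = G n (Polynomial.C r • m) :=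
    fun n r m => Polynomial.sum_monomial_index r (F₀ m) (hF0 m n)
  have H₀_radd : ∀ p m m', H₀ p (m + m') = H₀ p m + H₀ p m' := fun p m m' => by
    induction p using Polynomial.induction_on' with
    | add p q hp hq => rw [H₀_add, H₀_add, H₀_add, hp, hq]; abel
    | monomial n r => rw [hmono, hmono, hmono, smul_add, map_add]
  have hbal : ∀ (a : A) (p : Polynomial A) (m : M), H₀ (φ₀ a * p) m = H₀ p (φ₀ a • m) := by
    intro a p m
    induction p using Polynomial.induction_on' with
    | add p q hp hq => rw [mul_add, H₀_add, H₀_add, hp, hq]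
    | monomial n r =>
      rw [Polynomial.C_mul_monomial, hmono, hmono, smul_smul, ← map_mul, mul_comm a r]
  obtain ⟨h, hh⟩ := exists_lift (φ := φ₀) H₀ H₀_add H₀_radd hbal
  have hmon : ∀ (n : ℕ) (r : A) (m : M),
      tm φ₀ M (Polynomial.monomial n r) m = tm φ₀ M (X₀ ^ n) (Polynomial.C r • m) := fun n r m => by
    rw [← Polynomial.C_mul_X_pow_eq_monomial, tm_balance]
  have hT : ∀ (p : Polynomial A) (m : M),
      ((TF φ₀).map (X₀ • 𝟙 M)).hom (tm φ₀ M p m) = tm φ₀ M p (X₀ • m) := fun _ _ => rfl
  refine ⟨h, fun z => ?_, fun z => ?_⟩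
  · induction z using tm_induction with
    | zero => rw [smul_zero, map_zero, sub_zero, map_zero]
    | add z z' hz hz' => rw [smul_add, map_add, add_sub_add_comm, map_add, hz, hz']
    | htm p m =>
      rw [hT, smul_tm, map_sub, hh, hh]
      induction p using Polynomial.induction_on' with
      | add p q hp hq => rw [mul_add, H₀_add, H₀_add, add_sub_add_comm, hp, hq, ← tm_add_left]
      | monomial n r =>
        rw [show X₀ * Polynomial.monomial n r = Polynomial.monomial (n + 1) r from Polynomial.X_mul_monomial n r,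
          hmono, hmono, hG, smul_comm X₀ (Polynomial.C r) m, add_sub_cancel_right, ← hmon]
  · induction z using tm_induction with
    | zero => rw [map_zero, map_zero, smul_zero, map_zero, tm_zero_right, sub_zero, add_zero]
    | add z z' hz hz' =>
      conv_rhs => rw [← hz, ← hz']
      rw [map_add, map_add, smul_add, map_add, tm_add_right]
      abel
    | htm p m =>
      rw [hh, counit_tm]
      induction p using Polynomial.induction_on' with
      | add p q hp hq =>
        rw [tm_add_left, H₀_add, smul_add, map_add, add_smul, tm_add_right]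
        conv_rhs => rw [← hp, ← hq]
        abel
      | monomial n r =>
        rw [hmono, hmon, ← Polynomial.C_mul_X_pow_eq_monomial, mul_comm, mul_smul]
        generalize Polynomial.C r • m = w
        induction n generalizing w with
        | zero =>
          change X₀ • (0 : (TF φ₀).obj M) - ((TF φ₀).map (X₀ • 𝟙 M)).hom 0 + _ = _
          rw [smul_zero, map_zero, sub_zero, zero_add, pow_zero, one_smul]
        | succ k ih =>
          have hk := ih (X₀ • w)
          rw [show (Polynomial.X : Polynomial A) ^ k • X₀ • w = (Polynomial.X : Polynomial A) ^ (k + 1) • w by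
            rw [smul_smul, pow_succ]] at hk
          rw [hG, smul_add, map_add, smul_tm, hT, ← pow_succ']
          calc _ = tm φ₀ M (X₀ ^ (k + 1)) w - tm φ₀ M (X₀ ^ k) (X₀ • w) +
                (X₀ • G k (X₀ • w) - ((TF φ₀).map (X₀ • 𝟙 M)).hom (G k (X₀ • w)) +
                  tm φ₀ M 1 ((Polynomial.X : Polynomial A) ^ (k + 1) • w)) := by abel
            _ = _ := by rw [hk]; abel

end Poly

/-- A polynomial variable costs one. -/
theorem amp_polynomial {K : DRing.Cx (Polynomial A)} {a b : ℤ}
    (h : AmpOver (Polynomial.C : A →+* Polynomial A) a b K) :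
    DRing.HasTorAmplitudeIn (Polynomial A) (a - 1) b (DRing.toD K) := by
  let φ := (Polynomial.C : A →+* Polynomial A)
  let X₀ : Polynomial A := Polynomial.X
  let T := TF φ
  let P := (DR.bc φ).obj ((DRing.restrictCx φ).obj K)
  let τ : T ⟶ T :=
    { app := fun M => X₀ • 𝟙 (T.obj M) - T.map (X₀ • 𝟙 M)
      naturality := fun M N g => by
        rw [Preadditive.comp_sub, Preadditive.sub_comp, ← T.map_comp, ← T.map_comp]
        simp only [CategoryTheory.Linear.smul_comp, CategoryTheory.Linear.comp_smul, Category.id_comp, Category.comp_id] }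
  let t : P ⟶ P := { f := fun i => τ.app (K.X i), comm' := fun i j _ => (τ.naturality (K.d i j)).symm }
  let ρ : P ⟶ K :=
    { f := fun i => (ModuleCat.extendRestrictScalarsAdj.{u} φ).counit.app (K.X i)
      comm' := fun i j _ => ((ModuleCat.extendRestrictScalarsAdj.{u} φ).counit.naturality (K.d i j)).symm }
  have hτρ : ∀ M (z : T.obj M),
      ((ModuleCat.extendRestrictScalarsAdj.{u} φ).counit.app M).hom ((τ.app M).hom z) = 0 := by
    intro M z
    change ((ModuleCat.extendRestrictScalarsAdj.{u} φ).counit.app M).hom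
      (X₀ • z - (T.map (X₀ • 𝟙 M)).hom z) = 0
    rw [map_sub, map_smul, sub_eq_zero]
    exact (LinearMap.congr_fun (congrArg ModuleCat.Hom.hom
      ((ModuleCat.extendRestrictScalarsAdj.{u} φ).counit.naturality (X₀ • 𝟙 M))) z).symm
  have hzero : t ≫ ρ = 0 := HomologicalComplex.hom_ext _ _ fun i => ModuleCat.hom_ext (LinearMap.ext (hτρ (K.X i)))
  let S : ShortComplex (DRing.Cx (Polynomial A)) := ShortComplex.mk t ρ hzero
  have hS : S.ShortExact := by
    refine HomologicalComplex.shortExact_of_degreewise_shortExact S fun i => ?_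
    obtain ⟨h, h1, h2⟩ := exists_homotopy (K.X i)
    have hinj : Function.Injective (τ.app (K.X i)).hom := fun u v huv => by
      have huv' : X₀ • u - (T.map (X₀ • 𝟙 (K.X i))).hom u = X₀ • v - (T.map (X₀ • 𝟙 (K.X i))).hom v := huv
      exact (h1 u).symm.trans ((congrArg h huv').trans (h1 v))
    refine
      { exact := (ShortComplex.ShortExact.moduleCat_exact_iff_function_exact _).2 fun z => ⟨fun hz => ⟨h z, ?_⟩, ?_⟩
        mono_f := (ModuleCat.mono_iff_injective _).2 hinj
        epi_g := (ModuleCat.epi_iff_surjective _).2 fun m =>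
          ⟨tm φ (K.X i) 1 m, (counit_tm (φ := φ) 1 m).trans (one_smul _ m)⟩ }
    · have hz' : ((ModuleCat.extendRestrictScalarsAdj.{u} φ).counit.app (K.X i)).hom z = 0 := hz
      change (τ.app (K.X i)).hom (h z) = z
      have := h2 z
      rw [hz', tm_zero_right, add_zero] at this
      exact this
    · rintro ⟨w, rfl⟩
      exact hτρ _ w
  have hP : DRing.HasTorAmplitudeIn (Polynomial A) a b (DRing.toD P) :=
    amp_bc_flat φ (by
      have : Module.Flat A (Polynomial A) := inferInstance
      exact RingHom.flat_algebraMap_iff.2 this) h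
  exact DR.hasTorAmplitudeIn_obj₃ _ (DerivedCategory.triangleOfSES_distinguished hS)
    (DR.hasTorAmplitudeIn_mono (by omega) (by omega) hP) (DR.hasTorAmplitudeIn_mono (by omega) le_rfl hP)

/-- Polynomial rings. -/
theorem amp_mvPolynomial : ∀ (n : ℕ) {A : Type u} [CommRing A] {K : DRing.Cx (MvPolynomial (Fin n) A)} {a b : ℤ},
    AmpOver (MvPolynomial.C : A →+* MvPolynomial (Fin n) A) a b K →
      DRing.HasTorAmplitudeIn (MvPolynomial (Fin n) A) (a - n) b (DRing.toD K) := by
  intro n
  induction n with
  | zero =>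
    intro A _ K a b h
    simpa using amp_of_hasSection (MvPolynomial.C : A →+* MvPolynomial (Fin 0) A)
      (RingHom.Flat.of_bijective ⟨MvPolynomial.C_injective _ _, MvPolynomial.C_surjective _⟩)
      (hasSection_of_surjective _ (MvPolynomial.C_surjective _)) h
  | succ n ih =>
    intro A _ K a b h
    let e : Polynomial (MvPolynomial (Fin n) A) ≃+* MvPolynomial (Fin (n + 1)) A :=
      (MvPolynomial.finSuccEquiv A n).toRingEquiv.symm
    let ψ : Polynomial (MvPolynomial (Fin n) A) →+* MvPolynomial (Fin (n + 1)) A := e.toRingHom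
    have hC : (MvPolynomial.C : A →+* MvPolynomial (Fin (n + 1)) A) =
        (ψ.comp Polynomial.C).comp MvPolynomial.C := by
      refine RingHom.ext fun r => e.symm.injective ?_
      change MvPolynomial.finSuccEquiv A n (MvPolynomial.C r) = e.symm (e (Polynomial.C (MvPolynomial.C r)))
      rw [e.symm_apply_apply]
      simp [MvPolynomial.finSuccEquiv_apply]
    rw [hC] at h
    have h1 := ih ((amp_congr _ _ K a b).1 h)
    have h2 := amp_polynomial ((amp_congr Polynomial.C ψ K _ b).1 (show AmpOver (ψ.comp Polynomial.C) (a - n) b K from h1))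
    have h3 := amp_of_hasSection ψ (RingHom.Flat.of_bijective e.bijective) (hasSection_of_surjective ψ e.surjective) h2
    rwa [show a - (n : ℤ) - 1 = a - ((n + 1 : ℕ) : ℤ) by push_cast; omega] at h3

/-- Étale over a polynomial ring. -/
theorem amp_of_etale_mvPolynomial {φ : A →+* B} {n : ℕ} {g : MvPolynomial (Fin n) A →+* B}
    (hgC : g.comp MvPolynomial.C = φ) (hg : g.Etale) {K : DRing.Cx B} {a b : ℤ} (h : AmpOver φ a b K) :
    DRing.HasTorAmplitudeIn B (a - n) b (DRing.toD K) := by
  rw [← hgC] at h
  have h1 := amp_mvPolynomial n ((amp_congr _ _ K a b).1 h)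
  letI : Algebra (MvPolynomial (Fin n) A) B := g.toAlgebra
  haveI : Algebra.Etale (MvPolynomial (Fin n) A) B := hg
  exact amp_of_hasSection (algebraMap (MvPolynomial (Fin n) A) B)
    (RingHom.flat_algebraMap_iff.2 inferInstance) hasSection_of_formallyUnramified h1

/-- **Tor amplitude over a smooth algebra.** -/
theorem amp_of_standardSmooth {φ : A →+* B} {n : ℕ} (hφ : φ.IsStandardSmoothOfRelativeDimension n)
    {K : DRing.Cx B} {a b : ℤ} (h : AmpOver φ a b K) :
    DRing.HasTorAmplitudeIn B (a - n) b (DRing.toD K) := by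
  obtain ⟨g, hgC, hg⟩ := hφ.exists_etale_mvPolynomial
  exact amp_of_etale_mvPolynomial hgC hg h

/-- Localisations do not change tor amplitude. -/
theorem amp_of_isLocalization [Algebra A B] (S : Submonoid A) [IsLocalization S B] {K : DRing.Cx B} {a b : ℤ}
    (h : AmpOver (algebraMap A B) a b K) : DRing.HasTorAmplitudeIn B a b (DRing.toD K) := by
  haveI : Algebra.FormallyUnramified A B := .of_isLocalization S
  haveI : Algebra.EssFiniteType A B := .of_isLocalization B S
  exact amp_of_hasSection (algebraMap A B) (RingHom.flat_algebraMap_iff.2 (IsLocalization.flat B S))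
    hasSection_of_formallyUnramified h

end GrothLib.KSix19
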