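import Groth.Agent.Lib.KSix19.ImmPC
import Groth.Agent.Lib.RelPC.Flat
import Groth.Agent.Lib.RelPC.MapPoly
import Groth.Agent.Lib.RelPC.Transport
import Mathlib.RingTheory.MvPolynomial.Localization
import Mathlib.RingTheory.Localization.InvSubmonoid

/-! # Relative pseudo-coherence holds on every chart -/

set_option autoImplicit false
set_option maxHeartbeats 800000
set_option backward.isDefEq.respectTransparency false
universe u

open CategoryTheory CategoryTheory.Limits AlgebraicGeometry HomologicalComplex Opposite TopologicalSpace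

attribute [local instance] HasDerivedCategory.standard

namespace GrothLib.KSix19

open GrothLib.OX GrothLib.RelPC
open GrothLib.DR (RingPseudoCoherent)

section Ring

variable {R : Type u} [CommRing R]

/-- Evaluation of polynomials over the base is pseudo-coherent. -/
theorem ringPC_eval {P : Type u} [CommRing P] {k : ℕ} (b : Fin k → P) :
    RingPseudoCoherent (MvPolynomial.eval₂Hom (RingHom.id P) b) :=
  DR.isPseudoCoherent'_iff.2 fun m =>
    (pc_congr (restrictInDIso (MvPolynomial.eval₂Hom (RingHom.id P) b) P) m).1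
      ((pc_eval₂Hom k (RingHom.id P) b (fun j => isIntegralElem_of_surjective Function.surjective_id _)
        (Dual.inD P P) m).1 ((pc_congr (restrictInDIso (RingHom.id P) P) m).2
          (DR.isPseudoCoherent'_iff.1 (ringPC_equiv (RingEquiv.refl P)) m)))

/-- Polynomials over polynomials. -/
noncomputable def polyEquiv (R : Type u) [CommRing R] (k n : ℕ) :
    MvPolynomial (Fin (k + n)) R ≃ₐ[R] MvPolynomial (Fin k) (MvPolynomial (Fin n) R) :=
  (MvPolynomial.renameEquiv R finSumFinEquiv.symm).trans (MvPolynomial.sumAlgEquiv R (Fin k) (Fin n))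

end Ring

variable {X : Scheme.{u}}

/-- Two charts over the same base. -/
theorem pcOn_iff_of_compat {U : X.Opens} (hU : IsAffineOpen U) {R : Type u} [CommRing R] {n k : ℕ}
    {φ : MvPolynomial (Fin n) R →+* Γ(X, U)} (hφ : Function.Surjective φ)
    {ψ : MvPolynomial (Fin k) R →+* Γ(X, U)} (hψ : Function.Surjective ψ)
    (h : φ.comp MvPolynomial.C = ψ.comp MvPolynomial.C) {m : ℤ} {K : DCoh.D X} :
    PCOn m K U φ ↔ PCOn m K U ψ := by
  choose p hp using fun j => hφ (ψ (MvPolynomial.X j))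
  choose q hq using fun i => hψ (φ (MvPolynomial.X i))
  let eφ := (MvPolynomial.sumAlgEquiv R (Fin k) (Fin n)).toRingEquiv
  let eψ := ((MvPolynomial.renameEquiv R (Equiv.sumComm (Fin k) (Fin n))).trans
    (MvPolynomial.sumAlgEquiv R (Fin n) (Fin k))).toRingEquiv
  let χφ : MvPolynomial (Fin k ⊕ Fin n) R →+* MvPolynomial (Fin n) R :=
    (MvPolynomial.eval₂Hom (RingHom.id _) p).comp
      (eφ : MvPolynomial (Fin k ⊕ Fin n) R →+* MvPolynomial (Fin k) (MvPolynomial (Fin n) R))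
  let χψ : MvPolynomial (Fin k ⊕ Fin n) R →+* MvPolynomial (Fin k) R :=
    (MvPolynomial.eval₂Hom (RingHom.id _) q).comp
      (eψ : MvPolynomial (Fin k ⊕ Fin n) R →+* MvPolynomial (Fin n) (MvPolynomial (Fin k) R))
  have hsφ : Function.Surjective χφ := fun x =>
    ⟨eφ.symm (MvPolynomial.C x), by simp [χφ]⟩
  have hsψ : Function.Surjective χψ := fun x =>
    ⟨eψ.symm (MvPolynomial.C x), by simp [χψ]⟩
  have heq : φ.comp χφ = ψ.comp χψ := by
    refine MvPolynomial.ringHom_ext (fun r => ?_) fun j => ?_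
    · have := DFunLike.congr_fun h r
      simpa [χφ, χψ, eφ, eψ] using this
    · rcases j with j | j <;> simp [χφ, χψ, eφ, eψ, hp, hq]
  rw [← pcOn_comp_iff hU hφ hsφ (ringPC_comp (ringPC_equiv eφ) (ringPC_eval p)) rfl,
    ← pcOn_comp_iff hU hψ hsψ (ringPC_comp (ringPC_equiv eψ) (ringPC_eval q)) rfl, heq]

/-- A principal localisation is a quotient of a polynomial ring by a pseudo-coherent surjection. -/
theorem exists_away_pres {P : Type u} [CommRing P] (G : P) (PG : Type u) [CommRing PG] [Algebra P PG]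
    [IsLocalization.Away G PG] :
    ∃ (k : ℕ) (χ : MvPolynomial (Fin k) P →+* PG),
      Function.Surjective χ ∧ RingPseudoCoherent χ ∧ χ.comp MvPolynomial.C = algebraMap P PG := by
  have : Algebra.FiniteType P (Localization.Away G) :=
    IsLocalization.finiteType_of_monoid_fg (Submonoid.powers G) _
  obtain ⟨k, α, hα⟩ := exists_pres (R := P) (A := Localization.Away G)
  have h1 : RingPseudoCoherent (α : MvPolynomial (Fin k) P →+* Localization.Away G) :=
    ringPC_of_relPC_self (A := Localization.Away G) (R := P) (relPC_away G) α hα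
  let e : Localization.Away G ≃ₐ[P] PG :=
    IsLocalization.algEquiv (Submonoid.powers G) (Localization.Away G) PG
  let e' : Localization.Away G ≃+* PG := e.toRingEquiv
  have h2 : RingPseudoCoherent (e' : Localization.Away G →+* PG) := ringPC_equiv e'
  refine ⟨k, (e' : Localization.Away G →+* PG).comp (α : MvPolynomial (Fin k) P →+* Localization.Away G),
    ?_, ringPC_comp h1 h2, RingHom.ext fun x => ?_⟩
  · exact e'.surjective.comp hα
  · change e (α (MvPolynomial.C x)) = algebraMap P PG x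
    rw [show α (MvPolynomial.C x) = algebraMap P (Localization.Away G) x from α.commutes x]
    exact e.commutes x

/-- A presentation of a localisation. -/
theorem pcOn_iff_away {U : X.Opens} (hU : IsAffineOpen U) {R : Type u} [CommRing R] {n : ℕ}
    (G : MvPolynomial (Fin n) R) (PG : Type u) [CommRing PG] [Algebra (MvPolynomial (Fin n) R) PG]
    [IsLocalization.Away G PG] {φ' : PG →+* Γ(X, U)} (hφ' : Function.Surjective φ') {m : ℤ} {K : DCoh.D X} :
    ∃ (k : ℕ) (θ : MvPolynomial (Fin k) R →+* Γ(X, U)), Function.Surjective θ ∧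
      θ.comp MvPolynomial.C = (φ'.comp (algebraMap (MvPolynomial (Fin n) R) PG)).comp MvPolynomial.C ∧
      (PCOn m K U θ ↔ PCOn m K U φ') := by
  obtain ⟨l, χ, hχs, hχ, hχC⟩ := exists_away_pres G PG
  let e := (polyEquiv R l n).toRingEquiv
  let χ' : MvPolynomial (Fin (l + n)) R →+* PG :=
    χ.comp (e : MvPolynomial (Fin (l + n)) R →+* MvPolynomial (Fin l) (MvPolynomial (Fin n) R))
  have hs : Function.Surjective χ' := hχs.comp e.surjective
  refine ⟨l + n, φ'.comp χ', hφ'.comp hs, ?_, pcOn_comp_iff hU hφ' hs (ringPC_comp (ringPC_equiv e) hχ) rfl⟩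
  refine RingHom.ext fun r => congrArg φ' ?_
  rw [← hχC]
  refine congrArg χ ?_
  simp [e, polyEquiv]

theorem pcOn_iff_away' {U : X.Opens} (hU : IsAffineOpen U) {R : Type u} [CommRing R] {n : ℕ}
    (G : MvPolynomial (Fin n) R) (PG : Type u) [CommRing PG] [Algebra (MvPolynomial (Fin n) R) PG]
    [IsLocalization.Away G PG] {φ' : PG →+* Γ(X, U)} (hφ' : Function.Surjective φ') {k : ℕ}
    {ψ : MvPolynomial (Fin k) R →+* Γ(X, U)} (hψ : Function.Surjective ψ)
    (h : ψ.comp MvPolynomial.C = (φ'.comp (algebraMap (MvPolynomial (Fin n) R) PG)).comp MvPolynomial.C) {m : ℤ} {K : DCoh.D X} :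
    PCOn m K U φ' ↔ PCOn m K U ψ := by
  obtain ⟨l, θ, hθ, hθC, hiff⟩ := pcOn_iff_away (m := m) (K := K) hU G PG hφ'
  exact hiff.symm.trans (pcOn_iff_of_compat hU hθ hψ (hθC.trans h.symm))

section Localise

variable {U : X.Opens} (hU : IsAffineOpen U) {P : Type u} [CommRing P]

/-- The map induced on a principal open. -/
theorem exists_awayLift (φ : P →+* Γ(X, U)) (hφ : Function.Surjective φ) (G : P) {W : X.Opens} (hWU : W ≤ U)
    (hW : W = X.basicOpen (φ G)) (PG : Type u) [CommRing PG] [Algebra P PG] [IsLocalization.Away G PG]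
    (hU : IsAffineOpen U) :
    ∃ φG : PG →+* Γ(X, W), Function.Surjective φG ∧
      φG.comp (algebraMap P PG) = (X.presheaf.map (homOfLE hWU).op).hom.comp φ := by
  subst hW
  have := hU.isLocalization_basicOpen (φ G)
  let ρ := (X.presheaf.map (homOfLE hWU).op).hom.comp φ
  have hu : IsUnit (ρ G) := IsLocalization.Away.algebraMap_isUnit (S := Γ(X, X.basicOpen (φ G))) (φ G)
  refine ⟨IsLocalization.Away.lift G hu, fun y => ?_, IsLocalization.Away.lift_comp G hu⟩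
  obtain ⟨N, a, h⟩ := IsLocalization.Away.surj (φ G) y
  obtain ⟨a', rfl⟩ := hφ a
  refine ⟨algebraMap P PG a' * IsLocalization.Away.invSelf G ^ N, ?_⟩
  have hl : ∀ x, IsLocalization.Away.lift G hu (algebraMap P PG x) = ρ x := IsLocalization.Away.lift_eq G hu
  have hinv : ρ G * IsLocalization.Away.lift G hu (IsLocalization.Away.invSelf G : PG) = 1 := by
    rw [← hl, ← map_mul, IsLocalization.Away.mul_invSelf, map_one]
  have hy : ρ a' = y * ρ G ^ N := h.symm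
  rw [map_mul, map_pow, hl, hy, mul_assoc, ← mul_pow, hinv, one_pow, mul_one]

variable {φ : P →+* Γ(X, U)} (hφ : Function.Surjective φ) (G : P) {W : X.Opens} (hWU : W ≤ U)
  (hW : W = X.basicOpen (φ G)) (PG : Type u) [CommRing PG] [Algebra P PG] [IsLocalization.Away G PG]
  {φG : PG →+* Γ(X, W)} (hφGs : Function.Surjective φG)
  (hφG : φG.comp (algebraMap P PG) = (X.presheaf.map (homOfLE hWU).op).hom.comp φ)

include hU hW hφGs hφG in
/-- Localisation of the test is restriction of the direct image. -/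
theorem pcOn_basicOpen_iff_res [IsOpenImmersion (Spec.map (CommRingCat.ofHom (algebraMap P PG)))] {m : ℤ}
    {K : DCoh.D X} {Gc : CochainComplex X.Modules ℤ} (e : DCoh.toD X Gc ≅ K) :
    PCOn m K W φG ↔ DCoh.IsPseudoCoherentD m
      ((resD (Spec.map (CommRingCat.ofHom (algebraMap P PG)))).obj
        (DerivedCategory.Q.obj ((DerSch.pushCx (immOf U φ)).obj ((resCx U.ι).obj Gc)))) := by
  let ν := Spec.map (CommRingCat.ofHom (algebraMap P PG))
  have hWa : IsAffineOpen W := hW ▸ hU.basicOpen _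
  have hsq : immOf W φG ≫ ν = X.homOfLE hWU ≫ immOf U φ := by
    dsimp only [ν, immOf]
    rw [Category.assoc, ← Spec.map_comp, ← CommRingCat.ofHom_comp, hφG, CommRingCat.ofHom_comp,
      CommRingCat.ofHom_hom, Spec.map_comp, Scheme.Opens.toSpecΓ_SpecMap_presheaf_map_assoc]
  have hν : ν.opensRange = PrimeSpectrum.basicOpen G :=
    Opens.ext (PrimeSpectrum.localization_away_comap_range PG G)
  have hr : (X.homOfLE hWU).opensRange = immOf U φ ⁻¹ᵁ ν.opensRange := by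
    rw [Scheme.opensRange_homOfLE, hν, immOf, Scheme.Hom.comp_preimage]
    conv_lhs => rw [hW, ← Scheme.Opens.toSpecΓ_preimage_basicOpen]
    rfl
  obtain ⟨a⟩ := nonempty_resCx_pushCx_square (immOf U φ) (immOf W φG) (X.homOfLE hWU) ν hsq hr ((resCx U.ι).obj Gc)
  let c : Scheme.Modules.restrictFunctor W.ι ≅
      Scheme.Modules.restrictFunctor U.ι ⋙ Scheme.Modules.restrictFunctor (X.homOfLE hWU) :=
    Scheme.Modules.restrictFunctorCongr (X.homOfLE_ι hWU).symm ≪≫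
      Scheme.Modules.restrictFunctorComp (X.homOfLE hWU) U.ι
  let c' : (resCx W.ι).obj Gc ≅ (resCx (X.homOfLE hWU)).obj ((resCx U.ι).obj Gc) :=
    HomologicalComplex.Hom.isoOfComponents (fun p => c.app (Gc.X p))
      fun p q _ => (c.hom.naturality (Gc.d p q)).symm
  let b : (resD ν).obj (DerivedCategory.Q.obj ((DerSch.pushCx (immOf U φ)).obj ((resCx U.ι).obj Gc))) ≅
      DerivedCategory.Q.obj ((DerSch.pushCx (immOf W φG)).obj ((resCx W.ι).obj Gc)) :=
    (resDFac ν).app _ ≪≫ DerivedCategory.Q.mapIso (a ≪≫ (DerSch.pushCx (immOf W φG)).mapIso c'.symm)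
  rw [pcOn_iff_of_rep hWa hφGs e]
  exact ⟨fun h => isPseudoCoherentD_of_iso h b.symm, fun h => isPseudoCoherentD_of_iso h b⟩

include hU hφ hW hφGs hφG in
/-- The test passes to principal opens. -/
theorem pcOn_basicOpen {m : ℤ} {K : DCoh.D X} (h : PCOn m K U φ) : PCOn m K W φG := by
  have : IsOpenImmersion (Spec.map (CommRingCat.ofHom (algebraMap P PG))) := IsOpenImmersion.of_isLocalization G
  obtain ⟨Gc, ⟨e⟩⟩ := exists_rep K
  exact (pcOn_basicOpen_iff_res hU G hWU hW PG hφGs hφG e).2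
    (isPseudoCoherentD_resD' _ ((pcOn_iff_of_rep hU hφ e).1 h))

end Localise

/-- The test is local on the open. -/
theorem pcOn_of_local {U : X.Opens} (hU : IsAffineOpen U) {P : Type u} [CommRing P] {φ : P →+* Γ(X, U)}
    (hφ : Function.Surjective φ) {m : ℤ} {K : DCoh.D X}
    (h : ∀ x ∈ U, ∃ (G : P) (W : X.Opens) (hWU : W ≤ U), W = X.basicOpen (φ G) ∧ x ∈ W ∧
      ∀ φG : Localization.Away G →+* Γ(X, W), Function.Surjective φG →
        φG.comp (algebraMap P _) = (X.presheaf.map (homOfLE hWU).op).hom.comp φ → PCOn m K W φG) :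
    PCOn m K U φ := by
  obtain ⟨Gc, ⟨e⟩⟩ := exists_rep K
  refine (pcOn_iff_of_rep hU hφ e).2 ?_
  have := isClosedImmersion_immOf hU hφ
  let j := immOf U φ
  refine GrothLib.OX.isPseudoCoherentD_of_local fun z => ?_
  by_cases hz : z ∈ Set.range j
  · obtain ⟨y, rfl⟩ := hz
    obtain ⟨G, W, hWU, hW, hy, hG⟩ := h y.1 y.2
    have : IsOpenImmersion (Spec.map (CommRingCat.ofHom (algebraMap P (Localization.Away G)))) :=
      IsOpenImmersion.of_isLocalization G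
    obtain ⟨φG, hs, hc⟩ := exists_awayLift φ hφ G hWU hW (Localization.Away G) hU
    refine ⟨_, Spec.map (CommRingCat.ofHom (algebraMap P (Localization.Away G))), inferInstance, ?_,
      (pcOn_basicOpen_iff_res hU G hWU hW _ hs hc e).1 (hG φG hs hc)⟩
    change j y ∈ Set.range (PrimeSpectrum.comap (algebraMap P (Localization.Away G)))
    rw [PrimeSpectrum.localization_away_comap_range (Localization.Away G) G]
    have hy' : y ∈ U.ι ⁻¹ᵁ X.basicOpen (φ G) := hW ▸ hy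
    rw [← Scheme.Opens.toSpecΓ_preimage_basicOpen] at hy'
    exact hy'
  · let V : (Spec (CommRingCat.of P)).Opens := ⟨(Set.range j)ᶜ, j.isClosedEmbedding.isClosed_range.isOpen_compl⟩
    have hV : j ⁻¹ᵁ V = ⊥ :=
      TopologicalSpace.Opens.ext (Set.eq_empty_of_forall_notMem fun y hy => hy ⟨y, rfl⟩)
    refine ⟨_, V.ι, inferInstance, ⟨⟨z, hz⟩, rfl⟩, ?_⟩
    exact isPseudoCoherentD_of_iso (isPseudoCoherentD_pushD_outside j _ V hV m)
      ((resD V.ι).mapIso (pushDFac j _))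

section Base

variable {Y : Scheme.{u}} (f : X ⟶ Y)

/-- Charts over a principal open of the base. -/
theorem pcOn_base_iff {V : Y.Opens} (hV : IsAffineOpen V) (r : Γ(Y, V)) {D : Y.Opens}
    (hD : D = Y.basicOpen r) {W : X.Opens} (hW : IsAffineOpen W) (hWD : W ≤ f ⁻¹ᵁ D) (hWV : W ≤ f ⁻¹ᵁ V)
    {n k : ℕ} {c : MvPolynomial (Fin n) Γ(Y, V) →+* Γ(X, W)} (hc : DerSch.IsChart f W V hWV c)
    {c' : MvPolynomial (Fin k) Γ(Y, D) →+* Γ(X, W)} (hc' : DerSch.IsChart f W D hWD c') {m : ℤ} {K : DCoh.D X} :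
    PCOn m K W c' ↔ PCOn m K W c := by
  subst hD
  have := hV.isLocalization_basicOpen r
  letI : Algebra (MvPolynomial (Fin n) Γ(Y, V)) (MvPolynomial (Fin n) Γ(Y, Y.basicOpen r)) :=
    MvPolynomial.algebraMvPolynomial
  have : IsLocalization.Away (MvPolynomial.C r : MvPolynomial (Fin n) Γ(Y, V))
      (MvPolynomial (Fin n) Γ(Y, Y.basicOpen r)) := by
    have := MvPolynomial.isLocalization (σ := Fin n) (Submonoid.powers r) Γ(Y, Y.basicOpen r)
    rwa [Submonoid.map_powers] at this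
  let φ' : MvPolynomial (Fin n) Γ(Y, Y.basicOpen r) →+* Γ(X, W) :=
    MvPolynomial.eval₂Hom (f.appLE (Y.basicOpen r) W hWD).hom fun i => c (MvPolynomial.X i)
  have hcomp : φ'.comp (MvPolynomial.map (algebraMap Γ(Y, V) Γ(Y, Y.basicOpen r))) = c := by
    refine MvPolynomial.ringHom_ext (fun a => ?_) fun i => by simp [φ']
    simp only [RingHom.comp_apply, MvPolynomial.map_C, φ', MvPolynomial.eval₂Hom_C]
    refine Eq.trans ?_ (DFunLike.congr_fun hc.2 a).symm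
    exact DFunLike.congr_fun (congrArg CommRingCat.Hom.hom
      (f.map_appLE hWD (homOfLE (Y.basicOpen_le r)).op)) a
  have hs : Function.Surjective φ' := fun y => by
    obtain ⟨a, ha⟩ := hc.1 y
    exact ⟨_, (DFunLike.congr_fun hcomp a).trans ha⟩
  have h1 := pcOn_iff_away' (m := m) (K := K) hW (MvPolynomial.C r : MvPolynomial (Fin n) Γ(Y, V))
    (MvPolynomial (Fin n) Γ(Y, Y.basicOpen r)) hs hc.1 (congrArg (fun t => RingHom.comp t MvPolynomial.C) hcomp.symm)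
  exact (pcOn_iff_of_compat hW hc'.1 hs (hc'.2.trans (RingHom.ext fun a => by simp [φ']))).trans h1

theorem exists_isChart [LocallyOfFiniteType f] {U : X.Opens} (hU : IsAffineOpen U) {V : Y.Opens}
    (hV : IsAffineOpen V) (hle : U ≤ f ⁻¹ᵁ V) :
    ∃ (n : ℕ) (φ : MvPolynomial (Fin n) Γ(Y, V) →+* Γ(X, U)), DerSch.IsChart f U V hle φ := by
  algebraize [(f.appLE V U hle).hom]
  have : Algebra.FiniteType Γ(Y, V) Γ(X, U) := f.finiteType_appLE hV hU hle
  obtain ⟨n, α, hα⟩ := exists_pres (R := Γ(Y, V)) (A := Γ(X, U))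
  exact ⟨n, α, hα, RingHom.ext fun a => α.commutes a⟩

/-- A chart on a principal open, derived from a chart. -/
theorem exists_chart_basicOpen {U : X.Opens} (hU : IsAffineOpen U) {V : Y.Opens} (hle : U ≤ f ⁻¹ᵁ V) {n : ℕ}
    {φ : MvPolynomial (Fin n) Γ(Y, V) →+* Γ(X, U)} (hφ : DerSch.IsChart f U V hle φ)
    (G : MvPolynomial (Fin n) Γ(Y, V)) {W : X.Opens} (hWU : W ≤ U) (hW : W = X.basicOpen (φ G))
    (φG : Localization.Away G →+* Γ(X, W)) (hs : Function.Surjective φG)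
    (hcompat : φG.comp (algebraMap _ _) = (X.presheaf.map (homOfLE hWU).op).hom.comp φ) {m : ℤ} {K : DCoh.D X} :
    ∀ {k : ℕ} {c : MvPolynomial (Fin k) Γ(Y, V) →+* Γ(X, W)},
      DerSch.IsChart f W V (hWU.trans hle) c → (PCOn m K W φG ↔ PCOn m K W c) := by
  intro k c hc
  refine pcOn_iff_away' (hW ▸ hU.basicOpen _) G (Localization.Away G) hs hc.1 (hc.2.trans ?_)
  rw [hcompat, RingHom.comp_assoc, hφ.2]
  exact (congrArg CommRingCat.Hom.hom (f.appLE_map hle (homOfLE hWU).op)).symm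

theorem exists_chart' {f : X ⟶ Y} {m : ℤ} {K : DCoh.D X} (h : DerSch.IsPseudoCoherentRel f m K) (x : X) :
    ∃ (U : X.Opens) (V : Y.Opens) (hle : U ≤ f ⁻¹ᵁ V) (n : ℕ) (φ : MvPolynomial (Fin n) Γ(Y, V) →+* Γ(X, U)),
      x ∈ U ∧ IsAffineOpen U ∧ IsAffineOpen V ∧ DerSch.IsChart f U V hle φ ∧ PCOn m K U φ := by
  obtain ⟨-, 𝒱, hV, h𝒱⟩ := h
  have hx : f x ∈ (⨆ V ∈ 𝒱, (V : Y.Opens)) := by rw [hV]; trivial
  obtain ⟨V, hV'⟩ := Opens.mem_iSup.1 hx
  obtain ⟨hVm, hfx⟩ := Opens.mem_iSup.1 hV'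
  obtain ⟨𝒰, hU, h𝒰⟩ := h𝒱 V hVm
  have hx' : x ∈ (⨆ U ∈ 𝒰, (U : X.Opens)) := by rw [hU]; exact hfx
  obtain ⟨U, hU'⟩ := Opens.mem_iSup.1 hx'
  obtain ⟨hUm, hxU⟩ := Opens.mem_iSup.1 hU'
  have hle : (U : X.Opens) ≤ f ⁻¹ᵁ (V : Y.Opens) := hU ▸ le_iSup₂ (f := fun W (_ : W ∈ 𝒰) => (W : X.Opens)) U hUm
  obtain ⟨n, φ, hφ, hpc⟩ := h𝒰 U hUm hle
  exact ⟨U, V, hle, n, φ, hxU, U.2, V.2, hφ, hpc⟩

theorem appLE_basicOpen {U : X.Opens} {V : Y.Opens} (hle : U ≤ f ⁻¹ᵁ V) (r : Γ(Y, V)) :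
    X.basicOpen ((f.appLE V U hle) r) = U ⊓ f ⁻¹ᵁ Y.basicOpen r := by
  rw [Scheme.preimage_basicOpen, ← X.basicOpen_res (f.app V r) (homOfLE hle).op]
  rfl

/-- Moving the test from one chart to another near a point. -/
theorem exists_common_basicOpen [LocallyOfFiniteType f] {U U₀ : X.Opens} (hU : IsAffineOpen U)
    (hU₀ : IsAffineOpen U₀) {V V₀ : Y.Opens} (hV : IsAffineOpen V) (hV₀ : IsAffineOpen V₀)
    (hle : U ≤ f ⁻¹ᵁ V) (hle₀ : U₀ ≤ f ⁻¹ᵁ V₀) {n n₀ : ℕ}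
    {φ : MvPolynomial (Fin n) Γ(Y, V) →+* Γ(X, U)} (hφ : DerSch.IsChart f U V hle φ)
    {φ₀ : MvPolynomial (Fin n₀) Γ(Y, V₀) →+* Γ(X, U₀)} (hφ₀ : DerSch.IsChart f U₀ V₀ hle₀ φ₀)
    {m : ℤ} {K : DCoh.D X} (h₀ : PCOn m K U₀ φ₀) {x : X} (hx : x ∈ U) (hx₀ : x ∈ U₀) :
    ∃ (G : MvPolynomial (Fin n) Γ(Y, V)) (W : X.Opens) (hWU : W ≤ U), W = X.basicOpen (φ G) ∧ x ∈ W ∧
      ∀ φG : Localization.Away G →+* Γ(X, W), Function.Surjective φG →
        φG.comp (algebraMap _ _) = (X.presheaf.map (homOfLE hWU).op).hom.comp φ → PCOn m K W φG := by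
  obtain ⟨r, r₀, hr, hfx⟩ := exists_basicOpen_le_affine_inter hV hV₀ (f x) ⟨hle hx, hle₀ hx₀⟩
  let D := Y.basicOpen r
  have hU₁ : IsAffineOpen (X.basicOpen (f.appLE V U hle r)) := hU.basicOpen _
  have hU₂ : IsAffineOpen (X.basicOpen (f.appLE V₀ U₀ hle₀ r₀)) := hU₀.basicOpen _
  have hx₁ : x ∈ X.basicOpen (f.appLE V U hle r) := by rw [appLE_basicOpen]; exact ⟨hx, hfx⟩
  have hx₂ : x ∈ X.basicOpen (f.appLE V₀ U₀ hle₀ r₀) := by rw [appLE_basicOpen, ← hr]; exact ⟨hx₀, hfx⟩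
  obtain ⟨g₁, g₂, hg, hxg⟩ := exists_basicOpen_le_affine_inter hU₁ hU₂ x ⟨hx₁, hx₂⟩
  obtain ⟨g, hg'⟩ := hU.basicOpen_basicOpen_is_basicOpen _ g₁
  obtain ⟨g₀, hg₀'⟩ := hU₀.basicOpen_basicOpen_is_basicOpen _ g₂
  obtain ⟨G, rfl⟩ := hφ.1 g
  obtain ⟨G₀, rfl⟩ := hφ₀.1 g₀
  let W := X.basicOpen (φ G)
  have hWU : W ≤ U := X.basicOpen_le _
  have hW₀ : W = X.basicOpen (φ₀ G₀) := hg'.trans (hg.trans hg₀'.symm)
  have hWU₀ : W ≤ U₀ := hW₀ ▸ X.basicOpen_le _
  have hWD : W ≤ f ⁻¹ᵁ D := by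
    refine hg'.le.trans ((X.basicOpen_le _).trans ?_)
    rw [appLE_basicOpen]
    exact inf_le_right
  have hxW : x ∈ W := by show x ∈ X.basicOpen (φ G); rw [hg']; exact hxg
  refine ⟨G, W, hWU, rfl, hxW, fun φG hs hc => ?_⟩
  have hWa : IsAffineOpen W := hU.basicOpen _
  obtain ⟨φG₀, hs₀, hc₀⟩ := exists_awayLift φ₀ hφ₀.1 G₀ hWU₀ hW₀ (Localization.Away G₀) hU₀
  have h1 := pcOn_basicOpen hU₀ hφ₀.1 G₀ hWU₀ hW₀ _ hs₀ hc₀ h₀
  obtain ⟨_, c₀, hc0⟩ := exists_isChart f hWa hV₀ (hWU₀.trans hle₀)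
  obtain ⟨_, c, hc1⟩ := exists_isChart f hWa hV (hWU.trans hle)
  obtain ⟨_, d, hd⟩ := exists_isChart f hWa (hV.basicOpen r) hWD
  rw [exists_chart_basicOpen f hU₀ hle₀ hφ₀ G₀ hWU₀ hW₀ φG₀ hs₀ hc₀ hc0,
    ← pcOn_base_iff f hV₀ r₀ hr hWa hWD _ hc0 hd, pcOn_base_iff f hV r rfl hWa hWD _ hc1 hd] at h1
  exact (exists_chart_basicOpen f hU hle hφ G hWU rfl φG hs hc hc1).2 h1

end Base

/-- **Relative pseudo-coherence holds on every chart.** -/
theorem pcOn_of_isPseudoCoherentRel {Y : Scheme.{u}} {f : X ⟶ Y} {m : ℤ} {K : DCoh.D X}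
    (h : DerSch.IsPseudoCoherentRel f m K) {U : X.Opens} (hU : IsAffineOpen U) {V : Y.Opens}
    (hV : IsAffineOpen V) {hle : U ≤ f ⁻¹ᵁ V} {n : ℕ} {φ : MvPolynomial (Fin n) Γ(Y, V) →+* Γ(X, U)}
    (hφ : DerSch.IsChart f U V hle φ) : PCOn m K U φ := by
  have := h.1
  refine pcOn_of_local hU hφ.1 fun x hx => ?_
  obtain ⟨U₀, V₀, hle₀, n₀, φ₀, hx₀, hU₀, hV₀, hφ₀, h₀⟩ := exists_chart' h x
  exact exists_common_basicOpen f hU hU₀ hV hV₀ hle hle₀ hφ hφ₀ h₀ hx hx₀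

theorem chartPC_of_isPseudoCoherentRel {Y : Scheme.{u}} {f : X ⟶ Y} {m : ℤ} {K : DCoh.D X}
    (h : DerSch.IsPseudoCoherentRel f m K) {U : X.Opens} (hU : IsAffineOpen U) {V : Y.Opens}
    (hV : IsAffineOpen V) {hle : U ≤ f ⁻¹ᵁ V} {n : ℕ} {φ : MvPolynomial (Fin n) Γ(Y, V) →+* Γ(X, U)}
    (hφ : DerSch.IsChart f U V hle φ) : DerSch.ChartPC m K U V φ :=
  pcOn_of_isPseudoCoherentRel h hU hV hφ

/-- Relative pseudo-coherence from a chart at each point. -/
theorem isPseudoCoherentRel_of_local {Y : Scheme.{u}} {f : X ⟶ Y} [LocallyOfFiniteType f] {m : ℤ} {K : DCoh.D X}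
    (h : ∀ x : X, ∃ (U : X.Opens) (V : Y.Opens) (hle : U ≤ f ⁻¹ᵁ V) (n : ℕ)
      (φ : MvPolynomial (Fin n) Γ(Y, V) →+* Γ(X, U)),
      x ∈ U ∧ IsAffineOpen U ∧ IsAffineOpen V ∧ DerSch.IsChart f U V hle φ ∧ PCOn m K U φ) :
    DerSch.IsPseudoCoherentRel f m K := by
  refine ⟨inferInstance, Set.univ, ?_, fun V _ => ⟨{U | (U : X.Opens) ≤ f ⁻¹ᵁ (V : Y.Opens)}, ?_, fun U _ hle => ?_⟩⟩
  · refine eq_top_iff.2 fun y _ => ?_
    obtain ⟨V, hV, hy, -⟩ := exists_isAffineOpen_mem_and_subset (x := y) (U := ⊤) trivial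
    exact Opens.mem_iSup.2 ⟨⟨V, hV⟩, Opens.mem_iSup.2 ⟨trivial, hy⟩⟩
  · refine le_antisymm (iSup₂_le fun U hU => hU) fun x hx => ?_
    obtain ⟨U, hU, hxU, hle⟩ := exists_isAffineOpen_mem_and_subset (x := x) (U := f ⁻¹ᵁ (V : Y.Opens)) hx
    exact Opens.mem_iSup.2 ⟨⟨U, hU⟩, Opens.mem_iSup.2 ⟨hle, hxU⟩⟩
  · obtain ⟨n, φ, hφ⟩ := exists_isChart f U.2 V.2 hle
    refine ⟨n, φ, hφ, pcOn_of_local U.2 hφ.1 fun x hx => ?_⟩
    obtain ⟨U₀, V₀, hle₀, n₀, φ₀, hx₀, hU₀, hV₀, hφ₀, h₀⟩ := h x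
    exact exists_common_basicOpen f U.2 hU₀ V.2 hV₀ hle hle₀ hφ hφ₀ h₀ hx hx₀

end GrothLib.KSix19
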