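import Groth.Agent.Lib.KSix19.NPCRing
import Groth.Agent.S6941
import Mathlib.AlgebraicGeometry.Morphisms.Flat
import Mathlib.RingTheory.TensorProduct.MvPolynomial
import Mathlib.RingTheory.Flat.FaithfullyFlat.Algebra

/-! # Flat base change of `n`-pseudo-coherent morphisms -/

set_option autoImplicit false
set_option maxHeartbeats 800000
set_option backward.isDefEq.respectTransparency false
set_option linter.style.haveILetI false
universe u

open CategoryTheory CategoryTheory.Limits AlgebraicGeometry HomologicalComplex Opposite TopologicalSpace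
open scoped TensorProduct

attribute [local instance] HasDerivedCategory.standard
attribute [local instance] MvPolynomial.algebraMvPolynomial

namespace GrothLib.KSix19

/-- Faithfully flat descent for modules. -/
theorem pcModule_descent {R S : Type u} [CommRing R] [CommRing S] [Algebra R S] [Module.FaithfullyFlat R S]
    (M : Type u) [AddCommGroup M] [Module R M] {r : ℤ} (h : DRing.IsPseudoCoherentModule S r (S ⊗[R] M)) :
    DRing.IsPseudoCoherentModule R r M := by
  haveI := GrothLib.DR.preservesFiniteLimits_extendScalars (algebraMap R S) GrothLib.DR.flat_algebraMap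
  haveI := (ModuleCat.extendRestrictScalarsAdj.{u} (algebraMap R S)).leftAdjoint_preservesColimits
  obtain ⟨e₁⟩ := GrothLib.DR.nonempty_map_inD (ModuleCat.extendScalars.{u, u, u} (algebraMap R S)) M
  obtain ⟨e₂⟩ := GrothLib.DR.nonempty_extendScalars_iso (A := R) (B := S) M
  let e₀ : Dual.inD R M ≅ DRing.toD ((HomologicalComplex.single (ModuleCat.{u} R) (ComplexShape.up ℤ) 0).obj
      (ModuleCat.of R M)) :=
    ((SingleFunctors.evaluation _ _ 0).mapIso
      (DerivedCategory.singleFunctorsPostcompQIso (ModuleCat.{u} R))).app (ModuleCat.of R M)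
  let e := e₁ ≪≫ (DerivedCategory.singleFunctor (ModuleCat.{u} S) 0).mapIso e₂.symm
  exact DerBC.isPseudoCoherent_of_iso e₀.symm
    ((Groth.Agent.S6941.result _ r).1 (DerBC.isPseudoCoherent_of_iso e.symm h))

/-- The abstract change of rings. -/
theorem pc_of_isPushout {R S B B' : Type u} [CommRing R] [CommRing S] [CommRing B] [CommRing B'] [Algebra R S]
    [Algebra R B] [Algebra R B'] [Algebra S B'] [Algebra B B'] [IsScalarTower R S B'] [IsScalarTower R B B']
    [Algebra.IsPushout R S B B'] :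
    (Function.Surjective (algebraMap R B) → Function.Surjective (algebraMap S B')) ∧
    (∀ r, Module.Flat R S → RingPCm (algebraMap R B) r → RingPCm (algebraMap S B') r) ∧
    ∀ r, Module.FaithfullyFlat R S → RingPCm (algebraMap S B') r → RingPCm (algebraMap R B) r := by
  let E := Algebra.IsPushout.equiv R S B B'
  let ℓ : B ≃ₗ[R] (ModuleCat.restrictScalars.{u} (algebraMap R B)).obj (ModuleCat.of B B) :=
    { toFun := fun x => x
      map_add' := fun _ _ => rfl
      map_smul' := fun a x => Algebra.smul_def a x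
      invFun := fun x => x
      left_inv := fun _ => rfl
      right_inv := fun _ => rfl }
  let ℓ' : B' ≃ₗ[S] (ModuleCat.restrictScalars.{u} (algebraMap S B')).obj (ModuleCat.of B' B') :=
    { toFun := fun x => x
      map_add' := fun _ _ => rfl
      map_smul' := fun a x => Algebra.smul_def a x
      invFun := fun x => x
      left_inv := fun _ => rfl
      right_inv := fun _ => rfl }
  refine ⟨fun hφ z => ?_, fun r _ h => ?_, fun r _ h => ?_⟩
  · obtain ⟨w, rfl⟩ := E.surjective z
    induction w using TensorProduct.induction_on with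
    | zero => exact ⟨0, by rw [map_zero, map_zero]⟩
    | tmul p x =>
      obtain ⟨q, rfl⟩ := hφ x
      refine ⟨p * algebraMap R S q, ?_⟩
      rw [Algebra.IsPushout.equiv_tmul, map_mul, ← IsScalarTower.algebraMap_apply,
        ← IsScalarTower.algebraMap_apply]
    | add w w' hw hw' =>
      obtain ⟨p, hp⟩ := hw
      obtain ⟨p', hp'⟩ := hw'
      exact ⟨p + p', by rw [map_add, map_add, hp, hp']⟩
  · exact pcModule_congr (E.toLinearEquiv.trans ℓ') ((Groth.Agent.S7000.result r B).1 (pcModule_congr ℓ.symm h))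
  · exact pcModule_congr ℓ (pcModule_descent B (pcModule_congr (E.toLinearEquiv.trans ℓ').symm h))

section Ring

variable {A A' B B' : Type u} [CommRing A] [CommRing A'] [CommRing B] [CommRing B']
  (a : A →+* A') (b : A →+* B) (g : B →+* B') (b' : A' →+* B')

/-- Charts and flat base change, ring form. -/
theorem exists_chart_bc (H : IsPushout (CommRingCat.ofHom b) (CommRingCat.ofHom a) (CommRingCat.ofHom g)
      (CommRingCat.ofHom b')) (ha : a.Flat) {n : ℕ} (φ : MvPolynomial (Fin n) A →+* B)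
    (hφ : Function.Surjective φ) (hC : φ.comp MvPolynomial.C = b) (r : ℤ) :
    ∃ φ' : MvPolynomial (Fin n) A' →+* B', Function.Surjective φ' ∧ φ'.comp MvPolynomial.C = b' ∧
      (RingPCm φ r → RingPCm φ' r) ∧
      (Function.Surjective (PrimeSpectrum.comap a) → RingPCm φ' r → RingPCm φ r) := by
  letI := a.toAlgebra
  letI := b.toAlgebra
  letI := g.toAlgebra
  letI := b'.toAlgebra
  letI : Algebra A B' := (g.comp b).toAlgebra
  have hsq : g.comp b = b'.comp a := congrArg CommRingCat.Hom.hom H.w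
  haveI : IsScalarTower A B B' := .of_algebraMap_eq' rfl
  haveI : IsScalarTower A A' B' := .of_algebraMap_eq' hsq
  haveI hpo : Algebra.IsPushout A B A' B' := CommRingCat.isPushout_iff_isPushout.1 H
  let φ' : MvPolynomial (Fin n) A' →+* B' := MvPolynomial.eval₂Hom b' fun j => g (φ (MvPolynomial.X j))
  have hcomp : φ'.comp (MvPolynomial.map a) = g.comp φ := by
    refine MvPolynomial.ringHom_ext (fun c => ?_) fun j => ?_
    · simp only [RingHom.comp_apply, MvPolynomial.map_C, φ', MvPolynomial.eval₂Hom_C]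
      rw [show φ (MvPolynomial.C c) = b c from DFunLike.congr_fun hC c]
      exact (DFunLike.congr_fun hsq c).symm
    · simp [φ']
  letI : Algebra (MvPolynomial (Fin n) A) B := φ.toAlgebra
  letI : Algebra (MvPolynomial (Fin n) A') B' := φ'.toAlgebra
  letI : Algebra (MvPolynomial (Fin n) A) B' := (g.comp φ).toAlgebra
  haveI : IsScalarTower A (MvPolynomial (Fin n) A) B := .of_algebraMap_eq' hC.symm
  haveI : IsScalarTower (MvPolynomial (Fin n) A) B B' := .of_algebraMap_eq' rfl
  haveI : IsScalarTower A' (MvPolynomial (Fin n) A') B' := .of_algebraMap_eq' (by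
    refine RingHom.ext fun c => ?_
    exact (MvPolynomial.eval₂Hom_C b' _ c).symm)
  haveI : IsScalarTower (MvPolynomial (Fin n) A) (MvPolynomial (Fin n) A') B' := .of_algebraMap_eq' hcomp.symm
  haveI : IsScalarTower A (MvPolynomial (Fin n) A') B' := .of_algebraMap_eq fun c => by
    change g (b c) = φ' (algebraMap A (MvPolynomial (Fin n) A') c)
    rw [IsScalarTower.algebraMap_apply A A' (MvPolynomial (Fin n) A'), MvPolynomial.algebraMap_eq]
    exact (DFunLike.congr_fun hsq c).trans (MvPolynomial.eval₂Hom_C b' _ (a c)).symm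
  haveI hpo' : Algebra.IsPushout (MvPolynomial (Fin n) A) B (MvPolynomial (Fin n) A') B' :=
    (Algebra.IsPushout.comp_iff A (MvPolynomial (Fin n) A) A' (MvPolynomial (Fin n) A')
      (T := B) (T' := B')).1 hpo
  haveI := hpo'.symm
  obtain ⟨hsurj, hup, hdown⟩ := pc_of_isPushout (R := MvPolynomial (Fin n) A) (S := MvPolynomial (Fin n) A')
    (B := B) (B' := B')
  haveI : Module.Flat A A' := ha
  let ep := (Algebra.IsPushout.equiv A (MvPolynomial (Fin n) A) A' (MvPolynomial (Fin n) A')).toLinearEquiv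
  exact ⟨φ', hsurj hφ, RingHom.ext fun c => MvPolynomial.eval₂Hom_C b' _ c,
    fun h => hup r (Module.Flat.of_linearEquiv ep.symm) h,
    fun hs h => by
      haveI : Module.FaithfullyFlat A A' := Module.FaithfullyFlat.of_comap_surjective hs
      exact hdown r (Module.FaithfullyFlat.of_linearEquiv _ _ ep.symm) h⟩

end Ring

variable {X Y X' Y' : Scheme.{u}} {f : X ⟶ Y} {h : Y' ⟶ Y} {g : X' ⟶ X} {f' : X' ⟶ Y'}

/-- Charts of a base change. -/
theorem exists_chart_pullback (H : IsPullback g f' f h) [Flat h] {V : Y.Opens} (hV : IsAffineOpen V)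
    {U : X.Opens} (hU : IsAffineOpen U) (hle : U ≤ f ⁻¹ᵁ V) {V' : Y'.Opens} (hV' : IsAffineOpen V')
    (hle' : V' ≤ h ⁻¹ᵁ V) {n : ℕ} {φ : MvPolynomial (Fin n) Γ(Y, V) →+* Γ(X, U)}
    (hφ : DerSch.IsChart f U V hle φ) (r : ℤ) :
    ∃ (U' : X'.Opens) (hle'' : U' ≤ f' ⁻¹ᵁ V') (φ' : MvPolynomial (Fin n) Γ(Y', V') →+* Γ(X', U')),
      U' = g ⁻¹ᵁ U ⊓ f' ⁻¹ᵁ V' ∧ IsAffineOpen U' ∧ DerSch.IsChart f' U' V' hle'' φ' ∧
        (RingPCm φ r → RingPCm φ' r) ∧
        (Function.Surjective (PrimeSpectrum.comap (h.appLE V V' hle').hom) → RingPCm φ' r → RingPCm φ r) := by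
  haveI : IsAffine U.toScheme := hU
  haveI : IsAffine V.toScheme := hV
  haveI : IsAffine V'.toScheme := hV'
  have hU' : IsAffineOpen (g ⁻¹ᵁ U ⊓ f' ⁻¹ᵁ V') :=
    .of_isIso (Scheme.Hom.isPullback_resLE H hle' hle rfl).isoPullback.hom
  have hpo := (isIso_pushoutSection_iff H hle' hle rfl).1
    (isIso_pushoutSection_of_isAffineOpen H hle' hle rfl hV hV' hU)
  obtain ⟨φ', hs, hC, h1, h2⟩ := exists_chart_bc (h.appLE V V' hle').hom (f.appLE V U hle).hom
    (g.appLE U _ inf_le_left).hom (f'.appLE V' _ inf_le_right).hom hpo (Flat.flat_appLE h hV hV' hle') φ hφ.1 hφ.2 r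
  exact ⟨_, inf_le_right, φ', rfl, hU', ⟨hs, hC⟩, h1, h2⟩

/-- **Flat base change of `n`-pseudo-coherence.** -/
theorem isNPseudoCoherent_flat_baseChange (H : IsPullback g f' f h) [LocallyOfFiniteType f] [Flat h] {r : ℤ}
    (hf : DerSch.IsNPseudoCoherent f r) : DerSch.IsNPseudoCoherent f' r := by
  haveI : LocallyOfFiniteType f' := MorphismProperty.of_isPullback H ‹LocallyOfFiniteType f›
  refine isNPseudoCoherent_of_ring fun x => ?_
  obtain ⟨U, V, hU, hV, hxU, -, hle⟩ := exists_affine_pair f (O := ⊤) (x := g x) trivial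
  obtain ⟨n, φ, hφ⟩ := exists_isChart f hU hV hle
  have hx : h (f' x) ∈ V := by
    rw [← Scheme.Hom.comp_apply, ← H.w, Scheme.Hom.comp_apply]
    exact hle hxU
  obtain ⟨V', hV', hxV', hle'⟩ := exists_isAffineOpen_mem_and_subset (x := f' x) (U := h ⁻¹ᵁ V) hx
  obtain ⟨U', hle'', φ', hUe, hU', hφ', h1, -⟩ := exists_chart_pullback H hV hU hle hV' hle' hφ r
  exact ⟨U', V', hle'', n, φ', by rw [hUe]; exact ⟨hxU, hxV'⟩, hU', hV', hφ', h1 (ringPCm_chart hf hU hV hφ)⟩

/-- A quasi-compact flat surjection admits an affine flat surjective refinement over an affine open. -/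
theorem exists_affine_refinement (h : Y' ⟶ Y) [Flat h] [Surjective h] [QuasiCompact h] {V : Y.Opens}
    (hV : IsAffineOpen V) : ∃ (W : Scheme.{u}) (_ : IsAffine W) (k : W ⟶ Y'),
      Flat k ∧ (⊤ : W.Opens) ≤ (k ≫ h) ⁻¹ᵁ V ∧ ∀ y ∈ V, ∃ w, h (k w) = y := by
  obtain ⟨s, hs, he⟩ := (isCompact_iff_finite_and_eq_biUnion_affineOpens).1
    (h.isCompact_preimage hV.isCompact)
  have := hs.to_subtype
  haveI : ∀ j : s, IsAffine (j.1 : Y'.Opens).toScheme := fun j => j.1.2
  refine ⟨∐ fun j : s => (j.1 : Y'.Opens).toScheme, inferInstance,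
    Sigma.desc fun j : s => (j.1 : Y'.Opens).ι, IsZariskiLocalAtSource.sigmaDesc fun j => inferInstance, ?_, ?_⟩
  · intro w _
    obtain ⟨⟨j, z⟩, rfl⟩ := (sigmaMk fun j : s => (j.1 : Y'.Opens).toScheme).surjective w
    change h ((Sigma.desc fun j : s => (j.1 : Y'.Opens).ι) (sigmaMk _ ⟨j, z⟩)) ∈ V
    rw [sigmaMk_mk, ← Scheme.Hom.comp_apply (Sigma.ι _ j) (Sigma.desc _), Sigma.ι_desc]
    have : (z.1 : Y') ∈ h ⁻¹ᵁ V := by
      rw [he, Opens.mem_iSup]
      exact ⟨j.1, Opens.mem_iSup.2 ⟨j.2, z.2⟩⟩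
    exact this
  · intro y hy
    obtain ⟨z, rfl⟩ := h.surjective y
    have hz : z ∈ h ⁻¹ᵁ V := hy
    rw [he, Opens.mem_iSup] at hz
    obtain ⟨O, hz⟩ := hz
    obtain ⟨hO, hzO⟩ := Opens.mem_iSup.1 hz
    refine ⟨sigmaMk _ ⟨⟨O, hO⟩, ⟨z, hzO⟩⟩, ?_⟩
    change h ((Sigma.desc fun j : s => (j.1 : Y'.Opens).ι) (sigmaMk _ _)) = h z
    rw [sigmaMk_mk, ← Scheme.Hom.comp_apply (Sigma.ι _ _) (Sigma.desc _), Sigma.ι_desc]
    rfl

/-- **Faithfully flat descent of `n`-pseudo-coherence.** -/
theorem isNPseudoCoherent_of_flat_descent (H : IsPullback g f' f h) [LocallyOfFiniteType f] [Flat h]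
    [Surjective h] [QuasiCompact h] {r : ℤ} (hf' : DerSch.IsNPseudoCoherent f' r) :
    DerSch.IsNPseudoCoherent f r := by
  haveI : LocallyOfFiniteType f' := MorphismProperty.of_isPullback H ‹LocallyOfFiniteType f›
  refine isNPseudoCoherent_of_ring fun x => ?_
  obtain ⟨U, V, hU, hV, hxU, -, hle⟩ := exists_affine_pair f (O := ⊤) (x := x) trivial
  obtain ⟨n, φ, hφ⟩ := exists_isChart f hU hV hle
  obtain ⟨W, hW, k, hk, hkV, hsur⟩ := exists_affine_refinement h hV
  let H₁ : IsPullback (pullback.fst f' k) (pullback.snd f' k) f' k := IsPullback.of_hasPullback f' k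
  haveI : LocallyOfFiniteType (pullback.snd f' k) := MorphismProperty.pullback_snd _ _ inferInstance
  have hW' := isNPseudoCoherent_flat_baseChange H₁ hf'
  have H₂ : IsPullback (pullback.fst f' k ≫ g) (pullback.snd f' k) f (k ≫ h) := H₁.paste_horiz H
  obtain ⟨U', hle'', φ', -, hU', hφ', -, h2⟩ :=
    exists_chart_pullback H₂ hV hU hle (isAffineOpen_top W) hkV hφ r
  refine ⟨U, V, hle, n, φ, hxU, hU, hV, hφ, h2 ?_ (ringPCm_chart hW' hU' (isAffineOpen_top W) hφ')⟩
  have hs : Surjective (Spec.map ((k ≫ h).appLE V ⊤ hkV)) := by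
    refine ⟨fun p => ?_⟩
    obtain ⟨w, hw⟩ := hsur (hV.fromSpec p) (by
      have : hV.fromSpec p ∈ Set.range hV.fromSpec := ⟨p, rfl⟩
      rwa [hV.range_fromSpec] at this)
    obtain ⟨q, hq⟩ : w ∈ Set.range (isAffineOpen_top W).fromSpec := by
      rw [(isAffineOpen_top W).range_fromSpec]; trivial
    refine ⟨q, hV.fromSpec.isOpenEmbedding.injective ?_⟩
    rw [← Scheme.Hom.comp_apply, IsAffineOpen.SpecMap_appLE_fromSpec (k ≫ h) hV (isAffineOpen_top W) hkV,
      Scheme.Hom.comp_apply, hq, Scheme.Hom.comp_apply, hw]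
  exact hs.surj

end GrothLib.KSix19
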