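import Groth.Agent.Lib.KSix19.AffineModel
import Groth.Agent.Lib.KSix19.FlatBC
import Groth.Agent.Lib.DerCat.MapHomology
import Groth.Agent.Lib.OX.HomQCoh
import Groth.Agent.Lib.DCxRing.TorIndepSquare

/-! # Relative pseudo-coherence of pullbacks through models -/

set_option autoImplicit false
set_option maxHeartbeats 1000000
set_option backward.isDefEq.respectTransparency false
set_option linter.style.haveILetI false
universe u

open CategoryTheory CategoryTheory.Limits AlgebraicGeometry HomologicalComplex TopologicalSpace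
open scoped TensorProduct

attribute [local instance] HasDerivedCategory.standard
attribute [local instance] MvPolynomial.algebraMvPolynomial

namespace GrothLib.KSix19

open GrothLib.OX

section Ring

variable {A A' B B' : Type u} [CommRing A] [CommRing A'] [CommRing B] [CommRing B']

/-- A cocartesian square, as a property of ring maps. -/
theorem isPushoutHom_of_isPushout {φ : A →+* B} {σ : A →+* A'} {g : B →+* B'} {φ' : A' →+* B'}
    (H : IsPushout (CommRingCat.ofHom φ) (CommRingCat.ofHom σ) (CommRingCat.ofHom g) (CommRingCat.ofHom φ')) :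
    ∃ h : g.comp φ = φ'.comp σ, DR.IsPushoutHom φ σ g φ' h := by
  have hsq : g.comp φ = φ'.comp σ := congrArg CommRingCat.Hom.hom H.w
  refine ⟨hsq, ?_⟩
  letI := φ.toAlgebra
  letI := σ.toAlgebra
  letI := g.toAlgebra
  letI := φ'.toAlgebra
  letI := (g.comp φ).toAlgebra
  haveI : IsScalarTower A B B' := IsScalarTower.of_algebraMap_eq' rfl
  haveI : IsScalarTower A A' B' := IsScalarTower.of_algebraMap_eq' hsq
  haveI : Algebra.IsPushout A B A' B' := CommRingCat.isPushout_iff_isPushout.1 H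
  exact (Algebra.IsPushout.symm inferInstance : Algebra.IsPushout A A' B B')

/-- A flat change of rings preserves pseudo-coherence. -/
theorem isPseudoCoherent_bc_flat (σ : A →+* A') (hσ : σ.Flat) {K : DRing.Cx A} {m : ℤ}
    (h : DRing.IsPseudoCoherent A m (DRing.toD K)) :
    DRing.IsPseudoCoherent A' m (DRing.toD ((DR.bc σ).obj K)) := by
  haveI := DR.preservesFiniteLimits_extendScalars σ hσ
  haveI := (ModuleCat.extendRestrictScalarsAdj.{u} σ).leftAdjoint_preservesColimits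
  let F := ModuleCat.extendScalars.{u, u, u} σ
  obtain ⟨E, a, b, α, hv, hf, h1, h2⟩ := h
  refine DerBC.isPseudoCoherent_of_iso (F.mapDerivedCategoryFactors.app K)
    ⟨(DR.bc σ).obj E, a, b, (F.mapDerivedCategoryFactors.app E).inv ≫ F.mapDerivedCategory.map α,
      DR.vanishesOutside_map _ hv,
      fun i => DerBC.finiteFree_extendScalars σ (E.X i) (hf i).1 (hf i).2, fun i hi => ?_, ?_⟩
  · haveI := h1 i hi
    haveI : IsIso ((DerivedCategory.homologyFunctor (ModuleCat.{u} A') i).map (F.mapDerivedCategory.map α)) :=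
      (DerTrunc.isIso_map_homology_iff F α i).2 inferInstance
    rw [Functor.map_comp]
    infer_instance
  · haveI := h2
    haveI : Epi ((DerTrunc.homologyMapIso F m).hom.app _ ≫
        (DerivedCategory.homologyFunctor (ModuleCat.{u} A) m ⋙ F).map α) := by
      haveI : Epi ((DerivedCategory.homologyFunctor (ModuleCat.{u} A) m ⋙ F).map α) :=
        inferInstanceAs (Epi (F.map ((DerivedCategory.homologyFunctor (ModuleCat.{u} A) m).map α)))
      infer_instance
    haveI : Epi ((DerivedCategory.homologyFunctor (ModuleCat.{u} A') m).map (F.mapDerivedCategory.map α)) := by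
      have h' : Epi ((F.mapDerivedCategory ⋙ DerivedCategory.homologyFunctor (ModuleCat.{u} A') m).map α ≫
          (DerTrunc.homologyMapIso F m).hom.app _) := by
        rw [(DerTrunc.homologyMapIso F m).hom.naturality α]; infer_instance
      exact ((MorphismProperty.epimorphisms (ModuleCat.{u} A')).cancel_right_of_respectsIso _ _).1 h'
    rw [Functor.map_comp]
    infer_instance

/-- Pseudo-coherence along a flat cocartesian square. -/
theorem pc_restrict_bc {φ : A →+* B} {σ : A →+* A'} {g : B →+* B'} {φ' : A' →+* B'}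
    (H : IsPushout (CommRingCat.ofHom φ) (CommRingCat.ofHom σ) (CommRingCat.ofHom g) (CommRingCat.ofHom φ'))
    (hσ : σ.Flat) (C : DRing.Cx B) {m : ℤ} :
    (DRing.IsPseudoCoherent A m (DRing.toD ((DRing.restrictCx φ).obj C)) →
      DRing.IsPseudoCoherent A' m (DRing.toD ((DRing.restrictCx φ').obj ((DR.bc g).obj C)))) ∧
    (Function.Surjective (PrimeSpectrum.comap σ) →
      DRing.IsPseudoCoherent A' m (DRing.toD ((DRing.restrictCx φ').obj ((DR.bc g).obj C))) →
      DRing.IsPseudoCoherent A m (DRing.toD ((DRing.restrictCx φ).obj C))) := by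
  obtain ⟨hsq, hpo⟩ := isPushoutHom_of_isPushout H
  haveI := DR.isIso_canCx hsq hpo C
  let e := DerivedCategory.Q.mapIso (asIso (DR.canCx hsq C))
  refine ⟨fun h => DerBC.isPseudoCoherent_of_iso e (isPseudoCoherent_bc_flat σ hσ h), fun hs h => ?_⟩
  letI := σ.toAlgebra
  haveI : Module.Flat A A' := hσ
  haveI : Module.FaithfullyFlat A A' := Module.FaithfullyFlat.of_comap_surjective hs
  exact (Groth.Agent.S6941.result _ m).1 (DerBC.isPseudoCoherent_of_iso e.symm h)

/-- The chart of a base change, with its cocartesian square. -/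
theorem exists_chart_square {a : A →+* A'} {b : A →+* B} {g : B →+* B'} {b' : A' →+* B'}
    (H : IsPushout (CommRingCat.ofHom b) (CommRingCat.ofHom a) (CommRingCat.ofHom g) (CommRingCat.ofHom b'))
    {n : ℕ} (φ : MvPolynomial (Fin n) A →+* B) (hφ : Function.Surjective φ) (hC : φ.comp MvPolynomial.C = b) :
    ∃ φ' : MvPolynomial (Fin n) A' →+* B', Function.Surjective φ' ∧ φ'.comp MvPolynomial.C = b' ∧
      IsPushout (CommRingCat.ofHom φ) (CommRingCat.ofHom (MvPolynomial.map a)) (CommRingCat.ofHom g)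
        (CommRingCat.ofHom φ') ∧
      (a.Flat → (MvPolynomial.map a : MvPolynomial (Fin n) A →+* MvPolynomial (Fin n) A').Flat) ∧
      (a.Flat → Function.Surjective (PrimeSpectrum.comap a) → Function.Surjective
        (PrimeSpectrum.comap (MvPolynomial.map a : MvPolynomial (Fin n) A →+* MvPolynomial (Fin n) A'))) := by
  letI := a.toAlgebra
  letI := b.toAlgebra
  letI := g.toAlgebra
  letI := b'.toAlgebra
  letI : Algebra A B' := (g.comp b).toAlgebra
  have hsq : g.comp b = b'.comp a := congrArg CommRingCat.Hom.hom H.w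
  haveI : IsScalarTower A B B' := .of_algebraMap_eq' rfl
  haveI : IsScalarTower A A' B' := .of_algebraMap_eq' hsq
  haveI hpo : Algebra.IsPushout A B A' B' := CommRingCat.isPushout_iff_isPushout.1 H
  let φ' : MvPolynomial (Fin n) A' →+* B' := MvPolynomial.eval₂Hom b' fun j => g (φ (MvPolynomial.X j))
  have hcomp : φ'.comp (MvPolynomial.map a) = g.comp φ := by
    refine MvPolynomial.ringHom_ext (fun c => ?_) fun j => ?_
    · simp only [RingHom.comp_apply, MvPolynomial.map_C, φ', MvPolynomial.eval₂Hom_C]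
      rw [show φ (MvPolynomial.C c) = b c from DFunLike.congr_fun hC c]
      exact (DFunLike.congr_fun hsq c).symm
    · simp [φ']
  letI : Algebra (MvPolynomial (Fin n) A) B := φ.toAlgebra
  letI : Algebra (MvPolynomial (Fin n) A') B' := φ'.toAlgebra
  letI : Algebra (MvPolynomial (Fin n) A) B' := (g.comp φ).toAlgebra
  haveI : IsScalarTower A (MvPolynomial (Fin n) A) B := .of_algebraMap_eq' hC.symm
  haveI : IsScalarTower (MvPolynomial (Fin n) A) B B' := .of_algebraMap_eq' rfl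
  haveI : IsScalarTower A' (MvPolynomial (Fin n) A') B' := .of_algebraMap_eq' (by
    refine RingHom.ext fun c => ?_
    exact (MvPolynomial.eval₂Hom_C b' _ c).symm)
  haveI : IsScalarTower (MvPolynomial (Fin n) A) (MvPolynomial (Fin n) A') B' := .of_algebraMap_eq' hcomp.symm
  haveI : IsScalarTower A (MvPolynomial (Fin n) A') B' := .of_algebraMap_eq fun c => by
    change g (b c) = φ' (algebraMap A (MvPolynomial (Fin n) A') c)
    rw [IsScalarTower.algebraMap_apply A A' (MvPolynomial (Fin n) A'), MvPolynomial.algebraMap_eq]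
    exact (DFunLike.congr_fun hsq c).trans (MvPolynomial.eval₂Hom_C b' _ (a c)).symm
  haveI hpo' : Algebra.IsPushout (MvPolynomial (Fin n) A) B (MvPolynomial (Fin n) A') B' :=
    (Algebra.IsPushout.comp_iff A (MvPolynomial (Fin n) A) A' (MvPolynomial (Fin n) A')
      (T := B) (T' := B')).1 hpo
  let ep := (Algebra.IsPushout.equiv A (MvPolynomial (Fin n) A) A' (MvPolynomial (Fin n) A')).toLinearEquiv
  refine ⟨φ', ?_, RingHom.ext fun c => MvPolynomial.eval₂Hom_C b' _ c,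
    CommRingCat.isPushout_iff_isPushout.2 hpo', fun ha => ?_, fun ha hs => ?_⟩
  · haveI := hpo'.symm
    exact (pc_of_isPushout (R := MvPolynomial (Fin n) A) (S := MvPolynomial (Fin n) A') (B := B) (B' := B')).1 hφ
  · haveI : Module.Flat A A' := ha
    exact Module.Flat.of_linearEquiv ep.symm
  · haveI : Module.Flat A A' := ha
    haveI : Module.FaithfullyFlat A A' := Module.FaithfullyFlat.of_comap_surjective hs
    haveI : Module.FaithfullyFlat (MvPolynomial (Fin n) A) (MvPolynomial (Fin n) A') :=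
      Module.FaithfullyFlat.of_linearEquiv _ _ ep.symm
    exact PrimeSpectrum.comap_surjective_of_faithfullyFlat

end Ring

variable {X Y X' Y' : Scheme.{u}} {f : X ⟶ Y} {h : Y' ⟶ Y} {g : X' ⟶ X} {f' : X' ⟶ Y'}

/-- Quasi-coherence of the cohomology of pseudo-coherent objects. -/
theorem isQCohD_of_relAll {K : DCoh.D X} (h : DerSch.IsPseudoCoherentRelAll f K) : DCoh.IsQCohD K := by
  obtain ⟨G, ⟨e⟩⟩ := exists_rep K
  intro k
  have hlf := (h 0).1
  refine isQCoh_of_iso ((hdIso G k).symm ≪≫ (DerivedCategory.homologyFunctor _ k).mapIso e) ?_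
  have hloc : ∀ x : X, ∃ U : X.Opens, x ∈ U ∧ ((G.homology k).restrict U.ι).IsQuasicoherent := fun x => by
    obtain ⟨W, V, hW, hV, hxW, -, hWV⟩ := exists_affine_pair f (O := ⊤) (x := x) trivial
    obtain ⟨n, φ, hφ⟩ := exists_isChart f hW hV hWV
    have := isClosedImmersion_immOf hW hφ.1
    exact ⟨W, hxW, @QCoh.isQuasicoherent_of_iso _ _ _ ((G.sc k).mapHomologyIso (Scheme.Modules.restrictFunctor W.ι))
      (isQCoh_of_chart (immOf W φ) ((pcOn_of_isPseudoCoherentRel (h (k - 1)) hW hV hφ) G ⟨e⟩)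
        (show k - 1 < k by omega))⟩
  choose U hxU hU using hloc
  exact QCoh.isQuasicoherent_of_restrict _ U
    (IsOpenCover.mk (eq_top_iff.2 fun x _ => Opens.mem_iSup.2 ⟨x, hxU x⟩)) hU

/-- Relative pseudo-coherence only depends on the isomorphism class. -/
theorem isPseudoCoherentRel_of_iso {K L : DCoh.D X} (e : K ≅ L) {m : ℤ}
    (h : DerSch.IsPseudoCoherentRel f m K) : DerSch.IsPseudoCoherentRel f m L := by
  obtain ⟨hf, 𝒱, h1, h2⟩ := h
  refine ⟨hf, 𝒱, h1, fun V hV => ?_⟩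
  obtain ⟨𝒰, h3, h4⟩ := h2 V hV
  refine ⟨𝒰, h3, fun U hU hle => ?_⟩
  obtain ⟨n, φ, hφ, hpc⟩ := h4 U hU hle
  exact ⟨n, φ, hφ, fun G ⟨eG⟩ => hpc G ⟨eG ≪≫ e.symm⟩⟩

/-- Models and charts of a base change. -/
theorem exists_chart_model_pullback (H : IsPullback g f' f h) [DCoh.HasLpull g] {V : Y.Opens} (hV : IsAffineOpen V)
    {U : X.Opens} (hU : IsAffineOpen U) (hle : U ≤ f ⁻¹ᵁ V) {V' : Y'.Opens} (hV' : IsAffineOpen V')
    (hle' : V' ≤ h ⁻¹ᵁ V) {n : ℕ} {φ : MvPolynomial (Fin n) Γ(Y, V) →+* Γ(X, U)}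
    (hφ : DerSch.IsChart f U V hle φ) {K : DCoh.D X} {b : ℤ} [K.IsLE b] {C : DRing.Cx Γ(X, U)}
    (hkC : KF.IsKFlat C) (hC : IsModel (B := Γ(X, U)) hU.fromSpec C K) :
    ∃ (U' : X'.Opens) (hU' : IsAffineOpen U') (hle'' : U' ≤ f' ⁻¹ᵁ V') (hg : U' ≤ g ⁻¹ᵁ U)
      (φ' : MvPolynomial (Fin n) Γ(Y', V') →+* Γ(X', U')),
      U' = g ⁻¹ᵁ U ⊓ f' ⁻¹ᵁ V' ∧ DerSch.IsChart f' U' V' hle'' φ' ∧
      IsModel (B := Γ(X', U')) hU'.fromSpec ((DR.bc (g.appLE U U' hg).hom).obj C) ((DCoh.Lpull g).obj K) ∧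
      IsPushout (CommRingCat.ofHom φ) (CommRingCat.ofHom (MvPolynomial.map (h.appLE V V' hle').hom))
        (CommRingCat.ofHom (g.appLE U U' hg).hom) (CommRingCat.ofHom φ') ∧
      ((h.appLE V V' hle').hom.Flat → (MvPolynomial.map (h.appLE V V' hle').hom :
        MvPolynomial (Fin n) Γ(Y, V) →+* MvPolynomial (Fin n) Γ(Y', V')).Flat) ∧
      ((h.appLE V V' hle').hom.Flat → Function.Surjective (PrimeSpectrum.comap (h.appLE V V' hle').hom) →
        Function.Surjective (PrimeSpectrum.comap (MvPolynomial.map (h.appLE V V' hle').hom :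
          MvPolynomial (Fin n) Γ(Y, V) →+* MvPolynomial (Fin n) Γ(Y', V')))) := by
  haveI : IsAffine U.toScheme := hU
  haveI : IsAffine V.toScheme := hV
  haveI : IsAffine V'.toScheme := hV'
  have hU' : IsAffineOpen (g ⁻¹ᵁ U ⊓ f' ⁻¹ᵁ V') :=
    .of_isIso (Scheme.Hom.isPullback_resLE H hle' hle rfl).isoPullback.hom
  have hpo := (isIso_pushoutSection_iff H hle' hle rfl).1
    (isIso_pushoutSection_of_isAffineOpen H hle' hle rfl hV hV' hU)
  obtain ⟨φ', hs, hC', hsq, h1, h2⟩ := exists_chart_square (a := (h.appLE V V' hle').hom)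
    (b := (f.appLE V U hle).hom) (g := (g.appLE U _ inf_le_left).hom) (b' := (f'.appLE V' _ inf_le_right).hom)
    hpo φ hφ.1 hφ.2
  exact ⟨_, hU', inf_le_right, inf_le_left, φ', rfl, ⟨hs, hC'⟩,
    isModel_lpull (A := Γ(X, U)) (B := Γ(X', g ⁻¹ᵁ U ⊓ f' ⁻¹ᵁ V')) g hU.fromSpec hU'.fromSpec _
      (IsAffineOpen.SpecMap_appLE_fromSpec g hU hU' inf_le_left).symm (b := b) hkC hC, hsq, h1, h2⟩

/-- **Flat base change of relative pseudo-coherence.** -/
theorem isPseudoCoherentRel_lpull_flat (H : IsPullback g f' f h) [Flat h] [LocallyOfFiniteType f]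
    [DCoh.HasLpull g] {K : DCoh.D X} (hq : DCoh.IsQCohD K) {b : ℤ} [K.IsLE b] {m : ℤ}
    (hK : DerSch.IsPseudoCoherentRel f m K) : DerSch.IsPseudoCoherentRel f' m ((DCoh.Lpull g).obj K) := by
  haveI : LocallyOfFiniteType f' := MorphismProperty.of_isPullback H ‹LocallyOfFiniteType f›
  refine isPseudoCoherentRel_of_local fun x => ?_
  obtain ⟨U, V, hU, hV, hxU, -, hle⟩ := exists_affine_pair f (O := ⊤) (x := g x) trivial
  obtain ⟨n, φ, hφ⟩ := exists_isChart f hU hV hle
  have hx : h (f' x) ∈ V := by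
    rw [← Scheme.Hom.comp_apply, ← H.w, Scheme.Hom.comp_apply]
    exact hle hxU
  obtain ⟨V', hV', hxV', hle'⟩ := exists_isAffineOpen_mem_and_subset (x := f' x) (U := h ⁻¹ᵁ V) hx
  obtain ⟨C, hCb, hCp, hC⟩ := exists_model (B := Γ(X, U)) hU.fromSpec hq b
  obtain ⟨U', hU', hle'', hg, φ', hUe, hφ', hC', hsq, h1, -⟩ := exists_chart_model_pullback H hV hU hle hV' hle'
    hφ (b := b) (KF.isKFlat_of_vanishesAbove hCb (DR.termwiseFlat_of_projective hCp)) hC
  exact ⟨U', V', hle'', n, φ', by rw [hUe]; exact ⟨hxU, hxV'⟩, hU', hV', hφ', (pcOn_iff_model hU' hφ'.1 hC').2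
    ((pc_restrict_bc hsq (h1 (Flat.flat_appLE h hV hV' hle')) C).1
      ((pcOn_iff_model hU hφ.1 hC).1 (pcOn_of_isPseudoCoherentRel hK hU hV hφ)))⟩

/-- **Faithfully flat descent of relative pseudo-coherence.** -/
theorem isPseudoCoherentRel_of_flat_descent (H : IsPullback g f' f h) [LocallyOfFiniteType f] [Flat h]
    [Surjective h] [QuasiCompact h] [DCoh.HasLpull g] {K : DCoh.D X} (hq : DCoh.IsQCohD K) {b : ℤ} [K.IsLE b]
    {m : ℤ} (hK : DerSch.IsPseudoCoherentRel f' m ((DCoh.Lpull g).obj K)) :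
    DerSch.IsPseudoCoherentRel f m K := by
  haveI : LocallyOfFiniteType f' := MorphismProperty.of_isPullback H ‹LocallyOfFiniteType f›
  refine isPseudoCoherentRel_of_local fun x => ?_
  obtain ⟨U, V, hU, hV, hxU, -, hle⟩ := exists_affine_pair f (O := ⊤) (x := x) trivial
  obtain ⟨n, φ, hφ⟩ := exists_isChart f hU hV hle
  obtain ⟨C, hCb, hCp, hC⟩ := exists_model (B := Γ(X, U)) hU.fromSpec hq b
  have hkC := KF.isKFlat_of_vanishesAbove hCb (DR.termwiseFlat_of_projective hCp)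
  obtain ⟨W, hW, k, hk, hkV, hsur⟩ := exists_affine_refinement h hV
  let H₁ : IsPullback (pullback.fst f' k) (pullback.snd f' k) f' k := IsPullback.of_hasPullback f' k
  let k' := pullback.fst f' k
  let f'' := pullback.snd f' k
  have H₂ : IsPullback (k' ≫ g) f'' f (k ≫ h) := H₁.paste_horiz H
  haveI : LocallyOfFiniteType f'' := MorphismProperty.pullback_snd _ _ inferInstance
  haveI := hasLpull (k' ≫ g)
  obtain ⟨U'', hU'', hle₂, hg₂, φ₂, hU''e, hφ₂, hC₂, hsq₂, h1₂, h2₂⟩ :=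
    exists_chart_model_pullback H₂ hV hU hle (isAffineOpen_top W) hkV hφ (b := b) hkC hC
  have hpc : PCOn m ((DCoh.Lpull (k' ≫ g)).obj K) U'' φ₂ := by
    refine pcOn_of_local hU'' hφ₂.1 fun z hz => ?_
    have hz' : g (k' z) ∈ U := by rw [← Scheme.Hom.comp_apply]; exact hg₂ hz
    have hx : h (f' (k' z)) ∈ V := by
      rw [← Scheme.Hom.comp_apply, ← H.w, Scheme.Hom.comp_apply]
      exact hle hz'
    obtain ⟨V₁, hV₁, hzV₁, hle₁⟩ := exists_isAffineOpen_mem_and_subset (x := f' (k' z)) (U := h ⁻¹ᵁ V) hx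
    obtain ⟨U₁, hU₁, hle₁', hg₁, φ₁, hU₁e, hφ₁, hC₁, -, -, -⟩ :=
      exists_chart_model_pullback H hV hU hle hV₁ hle₁ hφ (b := b) hkC hC
    have hzk : k (f'' z) ∈ V₁ := by
      rw [← Scheme.Hom.comp_apply, ← H₁.w, Scheme.Hom.comp_apply]
      exact hzV₁
    obtain ⟨W', hW', hzW', hle₃⟩ := exists_isAffineOpen_mem_and_subset (x := f'' z) (U := k ⁻¹ᵁ V₁) hzk
    haveI : IsAffine U₁.toScheme := hU₁
    haveI : IsAffine V₁.toScheme := hV₁
    haveI : IsAffine W'.toScheme := hW'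
    let U₃ := k' ⁻¹ᵁ U₁ ⊓ f'' ⁻¹ᵁ W'
    have hU₃ : IsAffineOpen U₃ := .of_isIso (Scheme.Hom.isPullback_resLE H₁ hle₃ hle₁' rfl).isoPullback.hom
    have hpo := (isIso_pushoutSection_iff H₁ hle₃ hle₁' rfl).1
      (isIso_pushoutSection_of_isAffineOpen H₁ hle₃ hle₁' rfl hV₁ hW' hU₁)
    obtain ⟨φ₃, hs₃, hC₃e, hsq₃, h1₃, -⟩ := exists_chart_square (a := (k.appLE V₁ W' hle₃).hom)
      (b := (f'.appLE V₁ U₁ hle₁').hom) (g := (k'.appLE U₁ U₃ inf_le_left).hom)
      (b' := (f''.appLE W' U₃ inf_le_right).hom) hpo φ₁ hφ₁.1 hφ₁.2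
    have hg₃ : U₃ ≤ (k' ≫ g) ⁻¹ᵁ U := fun y hy => hg₁ hy.1
    have hcomp : ((k' ≫ g).appLE U U₃ hg₃).hom = (k'.appLE U₁ U₃ inf_le_left).hom.comp (g.appLE U U₁ hg₁).hom := by
      rw [← CommRingCat.hom_comp, Scheme.Hom.appLE_comp_appLE]
    have hC₃ : IsModel (B := Γ(pullback f' k, U₃)) hU₃.fromSpec
        ((DR.bc (k'.appLE U₁ U₃ inf_le_left).hom).obj ((DR.bc (g.appLE U U₁ hg₁).hom).obj C))
        ((DCoh.Lpull (k' ≫ g)).obj K) := by
      refine isModel_of_iso (DerivedCategory.Q.mapIso (eqToIso (congrArg (fun ψ => (DR.bc ψ).obj C) hcomp) ≪≫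
        DR.bcCompIso _ _ C)) (isModel_lpull (A := Γ(X, U)) (B := Γ(pullback f' k, U₃)) (k' ≫ g) hU.fromSpec
          hU₃.fromSpec _ (IsAffineOpen.SpecMap_appLE_fromSpec (k' ≫ g) hU hU₃ hg₃).symm (b := b) hkC hC)
    have h₃ : PCOn m ((DCoh.Lpull (k' ≫ g)).obj K) U₃ φ₃ := (pcOn_iff_model hU₃ hs₃ hC₃).2
      ((pc_restrict_bc hsq₃ (h1₃ (Flat.flat_appLE k hV₁ hW' hle₃)) _).1
        ((pcOn_iff_model hU₁ hφ₁.1 hC₁).1 (pcOn_of_isPseudoCoherentRel hK hU₁ hV₁ hφ₁)))
    exact exists_common_basicOpen f'' hU'' hU₃ (isAffineOpen_top W) hW' hle₂ inf_le_right hφ₂ ⟨hs₃, hC₃e⟩ h₃ hz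
      ⟨by rw [hU₁e]; exact ⟨hz', hzV₁⟩, hzW'⟩
  refine ⟨U, V, hle, n, φ, hxU, hU, hV, hφ, (pcOn_iff_model hU hφ.1 hC).2
    ((pc_restrict_bc hsq₂ (h1₂ (Flat.flat_appLE (k ≫ h) hV (isAffineOpen_top W) hkV)) C).2
      (h2₂ (Flat.flat_appLE (k ≫ h) hV (isAffineOpen_top W) hkV) ?_) ((pcOn_iff_model hU'' hφ₂.1 hC₂).1 hpc))⟩
  have hs : Surjective (Spec.map ((k ≫ h).appLE V ⊤ hkV)) := by
    refine ⟨fun p => ?_⟩
    obtain ⟨w, hw⟩ := hsur (hV.fromSpec p) (by
      have : hV.fromSpec p ∈ Set.range hV.fromSpec := ⟨p, rfl⟩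
      rwa [hV.range_fromSpec] at this)
    obtain ⟨q, hq'⟩ : w ∈ Set.range (isAffineOpen_top W).fromSpec := by
      rw [(isAffineOpen_top W).range_fromSpec]; trivial
    refine ⟨q, hV.fromSpec.isOpenEmbedding.injective ?_⟩
    rw [← Scheme.Hom.comp_apply, IsAffineOpen.SpecMap_appLE_fromSpec (k ≫ h) hV (isAffineOpen_top W) hkV,
      Scheme.Hom.comp_apply, hq', Scheme.Hom.comp_apply, hw]
  exact hs.surj

end GrothLib.KSix19
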