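import Groth.Agent.Lib.DCxKFlat.Amplitude
import Groth.Agent.Lib.DCxKFlat.KFlatBounded
import Groth.Agent.Lib.DCxRing.Perfect
import Groth.Agent.Lib.DCxRing.PC
import Groth.Agent.Lib.DCxRing.Restrict
import Mathlib.Algebra.Homology.BifunctorShift

/-! # Pseudo-coherence of restricted tensor products -/

set_option autoImplicit false
set_option maxHeartbeats 800000
set_option backward.isDefEq.respectTransparency false
set_option linter.style.haveILetI false
universe u

open CategoryTheory CategoryTheory.Limits MonoidalCategory HomologicalComplex Pretriangulated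

attribute [local instance] HasDerivedCategory.standard

namespace GrothLib.KSix19

open GrothLib.KF GrothLib.Trunc

variable {Q A : Type u} [CommRing Q] [CommRing A] (χ : Q →+* A)

/-- A short exact sequence of complexes restricts to a triangle. -/
theorem pc_of_shortExact {S : ShortComplex (DRing.Cx A)} (hS : S.ShortExact) (m : ℤ) :
    (DRing.IsPseudoCoherent Q m (DRing.toD ((DRing.restrictCx χ).obj S.X₁)) →
      DRing.IsPseudoCoherent Q m (DRing.toD ((DRing.restrictCx χ).obj S.X₃)) →
        DRing.IsPseudoCoherent Q m (DRing.toD ((DRing.restrictCx χ).obj S.X₂))) ∧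
    (DRing.IsPseudoCoherent Q (m + 1) (DRing.toD ((DRing.restrictCx χ).obj S.X₂)) →
      DRing.IsPseudoCoherent Q m (DRing.toD ((DRing.restrictCx χ).obj S.X₃)) →
        DRing.IsPseudoCoherent Q (m + 1) (DRing.toD ((DRing.restrictCx χ).obj S.X₁))) := by
  have hS' : (S.map ((ModuleCat.restrictScalars.{u} χ).mapHomologicalComplex (ComplexShape.up ℤ))).ShortExact :=
    HomologicalComplex.shortExact_of_degreewise_shortExact _ fun q =>
      (hS.map_of_exact (HomologicalComplex.eval (ModuleCat.{u} A) (ComplexShape.up ℤ) q)).map_of_exact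
        (ModuleCat.restrictScalars.{u} χ)
  have h := DerBC.isPseudoCoherent_triangle _ (DerivedCategory.triangleOfSES_distinguished hS') m
  exact ⟨h.2.1, h.2.2⟩

theorem pc_of_isZero {X : DRing.Cx A} (h : IsZero X) (m : ℤ) :
    DRing.IsPseudoCoherent Q m (DRing.toD ((DRing.restrictCx χ).obj X)) :=
  DR.isPseudoCoherent_of_vanishing _ m fun i _ => DR.subsingleton_HD_of_isZero
    (DerivedCategory.Q.map_isZero (((ModuleCat.restrictScalars.{u} χ).mapHomologicalComplex (ComplexShape.up ℤ)).map_isZero h)) i

/-- Tensoring with a finite free module. -/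
theorem pc_tensor_module {N : DRing.Cx A} {c : ℤ}
    (hN : DRing.IsPseudoCoherent Q c (DRing.toD ((DRing.restrictCx χ).obj N))) (M : ModuleCat.{u} A)
    [Module.Finite A M] [Module.Free A M] :
    DRing.IsPseudoCoherent Q c (DRing.toD ((DRing.restrictCx χ).obj
      (((tensorRight M).mapHomologicalComplex (ComplexShape.up ℤ)).obj N))) := by
  let T : ModuleCat.{u} A → DRing.Cx A := fun M => ((tensorRight M).mapHomologicalComplex (ComplexShape.up ℤ)).obj N
  have congrT : ∀ {M M' : ModuleCat.{u} A} (e : M ≅ M'),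
      DRing.IsPseudoCoherent Q c (DRing.toD ((DRing.restrictCx χ).obj (T M))) →
      DRing.IsPseudoCoherent Q c (DRing.toD ((DRing.restrictCx χ).obj (T M'))) := fun {M M'} e h =>
    DerBC.isPseudoCoherent_of_iso (DerivedCategory.Q.mapIso ((DRing.restrictCx χ).mapIso
      ((NatIso.mapHomologicalComplex ((tensoringRight (ModuleCat.{u} A)).mapIso e) (ComplexShape.up ℤ)).app N))) h
  have key : ∀ n : ℕ, DRing.IsPseudoCoherent Q c
      (DRing.toD ((DRing.restrictCx χ).obj (T (ModuleCat.of A (Fin n → A))))) := by
    intro n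
    induction n with
    | zero =>
      refine pc_of_isZero χ ((IsZero.iff_id_eq_zero _).2 (HomologicalComplex.hom_ext _ _ fun k => ?_)) c
      exact (((curriedTensor (ModuleCat.{u} A)).obj (N.X k)).map_isZero
        (ModuleCat.isZero_of_subsingleton (ModuleCat.of A (Fin 0 → A)))).eq_of_src _ _
    | succ n ih =>
      let S := ShortComplex.mk (ModuleCat.ofHom (LinearMap.inl A A (Fin n → A)))
        (ModuleCat.ofHom (LinearMap.snd A A (Fin n → A))) (by ext; rfl)
      let σ : S.Splitting :=
        { r := ModuleCat.ofHom (LinearMap.fst A A (Fin n → A))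
          s := ModuleCat.ofHom (LinearMap.inr A A (Fin n → A))
          f_r := by ext; rfl
          s_g := by ext; rfl
          id := by ext <;> simp [S] }
      let S' : ShortComplex (DRing.Cx A) := ShortComplex.mk
        ((NatTrans.mapHomologicalComplex ((tensoringRight (ModuleCat.{u} A)).map S.f) (ComplexShape.up ℤ)).app N)
        ((NatTrans.mapHomologicalComplex ((tensoringRight (ModuleCat.{u} A)).map S.g) (ComplexShape.up ℤ)).app N)
        (HomologicalComplex.hom_ext _ _ fun k => (S.map ((curriedTensor (ModuleCat.{u} A)).obj (N.X k))).zero)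
      have hS' : S'.ShortExact := HomologicalComplex.shortExact_of_degreewise_shortExact _ fun k =>
        ShortComplex.shortExact_of_iso (ShortComplex.isoMk (Iso.refl _) (Iso.refl _) (Iso.refl _)
          ((Category.id_comp _).trans (Category.comp_id _).symm) ((Category.id_comp _).trans (Category.comp_id _).symm))
          (σ.map ((curriedTensor (ModuleCat.{u} A)).obj (N.X k))).shortExact
      refine congrT (Fin.consLinearEquiv A (fun _ : Fin (n + 1) => A)).toModuleIso ((pc_of_shortExact χ hS' c).1 ?_ ih)
      exact DerBC.isPseudoCoherent_of_iso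
        (DerivedCategory.Q.mapIso ((DRing.restrictCx χ).mapIso (KF.tensorCxUnitIso N).symm)) hN
  let b := Module.Free.chooseBasis A M
  let e : (Fin (Fintype.card (Module.Free.ChooseBasisIndex A M)) → A) ≃ₗ[A] M :=
    (LinearEquiv.funCongrLeft A A (Fintype.equivFin _)).trans b.equivFun.symm
  exact congrT (M' := M) e.toModuleIso (key _)

/-- Tensoring with a bounded complex of finite free modules. -/
theorem pc_tensor_finiteFree {N : DRing.Cx A} {c : ℤ}
    (hN : DRing.IsPseudoCoherent Q c (DRing.toD ((DRing.restrictCx χ).obj N))) {E : DRing.Cx A} {p q : ℤ}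
    (hE : DRing.VanishesOutside E p q) (hEf : DRing.TermwiseFiniteFree E) {m : ℤ} (hm : q + c ≤ m) :
    DRing.IsPseudoCoherent Q m (DRing.toD ((DRing.restrictCx χ).obj (((KF.tensorCx (R := A)).obj N).obj E))) := by
  let F := (KF.tensorCx (R := A)).obj N
  have hfl : FlatTerms E := fun k => by
    haveI := (hEf k).2
    exact inferInstanceAs (Module.Flat A (E.X k))
  have hk : ∀ k : ℕ, DRing.IsPseudoCoherent Q m
      (DRing.toD ((DRing.restrictCx χ).obj (F.obj (geObj E (q + 1 - k))))) := by
    intro k
    induction k with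
    | zero =>
      refine pc_of_isZero χ (F.map_isZero ((IsZero.iff_id_eq_zero _).2 (HomologicalComplex.hom_ext _ _ fun n => ?_))) m
      by_cases h : q + 1 ≤ n
      · have := isIso_geι_f E (q + 1) h
        show 𝟙 ((geObj E (q + 1 - (0 : ℕ))).X n) = 0
        rw [show q + 1 - ((0 : ℕ) : ℤ) = q + 1 by omega]
        exact ((hE n (Or.inr (by omega))).of_iso (asIso ((geι E (q + 1)).f n))).eq_of_src _ _
      · show 𝟙 ((geObj E (q + 1 - (0 : ℕ))).X n) = 0
        rw [show q + 1 - ((0 : ℕ) : ℤ) = q + 1 by omega]
        exact (isZero_geObj_X E _ h).eq_of_src _ _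
    | succ k ih =>
      let j : ℤ := q + 1 - (k + 1 : ℕ)
      have hj : j + 1 = q + 1 - (k : ℤ) := by simp [j]; omega
      have hS := tensorCx_shortExact_of_flat (geShortExact E j) (flatTerms_single _ (hfl j) _) N
      refine (pc_of_shortExact χ hS m).1 (by
        change DRing.IsPseudoCoherent Q m (DRing.toD ((DRing.restrictCx χ).obj (F.obj (geObj E (j + 1)))))
        rw [hj]; exact ih) ?_
      change DRing.IsPseudoCoherent Q m (DRing.toD ((DRing.restrictCx χ).obj
        (F.obj ((single (ModuleCat.{u} A) (ComplexShape.up ℤ) j).obj (E.X j)))))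
      haveI := (hEf j).1
      haveI := (hEf j).2
      let e₀ : F.obj ((single (ModuleCat.{u} A) (ComplexShape.up ℤ) j).obj (E.X j)) ≅
          ((((tensorRight (E.X j)).mapHomologicalComplex (ComplexShape.up ℤ)).obj N))⟦-j⟧ :=
        F.mapIso ((((CochainComplex.singleFunctors (ModuleCat.{u} A)).shiftIso (-j) j 0 (by omega)).app (E.X j)).symm) ≪≫
          CochainComplex.mapBifunctorShift₂Iso N
            ((single (ModuleCat.{u} A) (ComplexShape.up ℤ) 0).obj (E.X j)) (curriedTensor (ModuleCat.{u} A)) (-j) ≪≫
          (CategoryTheory.shiftFunctor (DRing.Cx A) (-j)).mapIso (KF.singleIso N (E.X j)).symm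
      let e : ((DRing.toD ((DRing.restrictCx χ).obj
            (((tensorRight (E.X j)).mapHomologicalComplex (ComplexShape.up ℤ)).obj N)))⟦-j⟧) ≅
          DRing.toD ((DRing.restrictCx χ).obj (F.obj ((single (ModuleCat.{u} A) (ComplexShape.up ℤ) j).obj (E.X j)))) :=
        ((DerivedCategory.Q.commShiftIso (-j)).app _).symm ≪≫
          DerivedCategory.Q.mapIso (((((ModuleCat.restrictScalars.{u} χ).mapHomologicalComplex (ComplexShape.up ℤ)).commShiftIso (-j)).app _).symm ≪≫
            (DRing.restrictCx χ).mapIso e₀.symm)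
      by_cases hjp : p ≤ j
      · refine DerBC.isPseudoCoherent_of_iso e (DerBC.isPseudoCoherent_shift ?_ (-j) m rfl)
        exact DR.isPseudoCoherent_mono (by simp [j]; omega) (pc_tensor_module χ hN (E.X j))
      · exact pc_of_isZero χ (F.map_isZero ((single _ _ j).map_isZero (hE j (Or.inl (by omega))))) m
  let k := (q + 1 - p).toNat
  haveI : IsIso (geι E (q + 1 - k)) := by
    haveI : ∀ n, IsIso ((geι E (q + 1 - k)).f n) := fun n => by
      by_cases h : q + 1 - k ≤ n
      · exact isIso_geι_f E _ h
      · exact (isZero_geObj_X E _ h).isIso (hE n (by omega)) _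
    exact HomologicalComplex.Hom.isIso_of_components _
  exact DerBC.isPseudoCoherent_of_iso
    (DerivedCategory.Q.mapIso ((DRing.restrictCx χ).mapIso (F.mapIso (asIso (geι E (q + 1 - k)))))) (hk k)

/-- Tensoring with a flat complex bounded above raises exactness bounds. -/
theorem exactAt_tensor_of_exact_above {N L : DRing.Cx A} {d a : ℤ} (hN : DRing.VanishesAbove N d)
    (hNf : DRing.TermwiseFlat N) (hL : ∀ i, a ≤ i → L.ExactAt i) (i : ℤ) (hi : a + d ≤ i) :
    (N ⊗ L).ExactAt i := by
  have hNK : IsKFlat N := isKFlat_of_vanishesAbove hN hNf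
  haveI : L.IsLE (a - 1) := (CochainComplex.isLE_iff L (a - 1)).2 fun j hj => hL j (by omega)
  haveI := (L.quasiIso_ιTruncLE_iff (a - 1)).2 inferInstance
  haveI : QuasiIso (N ◁ L.ιTruncLE (a - 1)) := quasiIso_tensor_map_of_isKFlat (L.ιTruncLE (a - 1)) N hNK
  rw [← exactAt_iff_of_quasiIso (N ◁ L.ιTruncLE (a - 1)) i]
  refine ShortComplex.exact_of_isZero_X₂ _ ((IsZero.iff_id_eq_zero _).2
    (HomologicalComplex.mapBifunctor.hom_ext fun p q h => ?_))
  have h' : p + q = i := h
  refine IsZero.eq_of_src ?_ _ _
  by_cases hp : d < p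
  · exact ((curriedTensor (ModuleCat.{u} A)).flip.obj ((L.truncLE (a - 1)).X q)).map_isZero (hN p hp)
  · exact ((curriedTensor (ModuleCat.{u} A)).obj (N.X p)).map_isZero
      ((L.truncLE (a - 1)).isZero_of_isStrictlyLE (a - 1) q (by omega))

/-- **Pseudo-coherence of a restricted tensor product.** -/
theorem pc_restrict_tensor {C N : DRing.Cx A} {a b c d : ℤ} (hCb : DRing.VanishesAbove C b)
    (hC : DRing.IsPseudoCoherent A a (DRing.toD C)) (hNb : DRing.VanishesAbove N d)
    (hNf : DRing.TermwiseFlat N)
    (hN : DRing.IsPseudoCoherent Q c (DRing.toD ((DRing.restrictCx χ).obj N))) :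
    DRing.IsPseudoCoherent Q (max (a + d) (b + c))
      (DRing.toD ((DRing.restrictCx χ).obj (((KF.tensorCx (R := A)).obj N).obj C))) := by
  obtain ⟨ap⟩ := DR.exists_approx hCb (b + 1 - a).toNat fun m hm _ =>
    DR.canStep_of_isPseudoCoherent (DR.isPseudoCoherent_mono (by omega) hC)
  let f := ap.f
  let M := max (a + d) (b + c)
  have hS := tensorCx_shortExact_of_splitting (coneSplitting f) N
  have h := (pc_of_shortExact χ hS (M - 1)).2
  rw [sub_add_cancel] at h
  refine h (DR.isPseudoCoherent_of_vanishing _ M fun i hi => (DR.exactAt_iff _ i).1 ?_) ?_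
  · exact (KF.exactAt_restrict_iff χ _ i).2 (exactAt_tensor_of_exact_above hNb hNf
      (fun j hj => ap.exact j (by omega)) i (le_trans (le_max_left _ _) hi))
  · refine pc_tensor_finiteFree χ hN (p := b + 1 - (b + 1 - a).toNat - 1) (q := b - 1) (fun i hi => ?_)
      (fun i => ap.free (i + 1)) (le_trans (by omega) (sub_le_sub_right (le_max_right (a + d) (b + c)) 1))
    exact ap.vanish (i + 1) (by rcases hi with hi | hi <;> [left; right] <;> omega)

end GrothLib.KSix19
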