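import Groth.Agent.Lib.KSix19.RelPCModel
import Groth.Agent.Lib.KSix19.TensorPCRing

/-! # Relative pseudo-coherence of `E ⊗ Lf^*F` -/

set_option autoImplicit false
set_option maxHeartbeats 1000000
set_option backward.isDefEq.respectTransparency false
set_option linter.style.haveILetI false
universe u

open CategoryTheory CategoryTheory.Limits AlgebraicGeometry HomologicalComplex TopologicalSpace

attribute [local instance] HasDerivedCategory.standard
attribute [local instance] MvPolynomial.algebraMvPolynomial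

namespace GrothLib.KSix19

open GrothLib.OX

/-- Adjoining variables: the cocartesian square. -/
theorem isPushout_mvPolynomial {P A : Type u} [CommRing P] [CommRing A] (ψ : P →+* A) (n : ℕ) :
    IsPushout (CommRingCat.ofHom ψ) (CommRingCat.ofHom (MvPolynomial.C : P →+* MvPolynomial (Fin n) P))
      (CommRingCat.ofHom (MvPolynomial.C : A →+* MvPolynomial (Fin n) A))
      (CommRingCat.ofHom (MvPolynomial.map ψ : MvPolynomial (Fin n) P →+* MvPolynomial (Fin n) A)) := by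
  letI := ψ.toAlgebra
  exact ((CommRingCat.isPushout_iff_isPushout (R := P) (S := A) (R' := MvPolynomial (Fin n) P)
    (S' := MvPolynomial (Fin n) A)).2 inferInstance).flip

theorem flat_C (P : Type u) [CommRing P] (n : ℕ) : (MvPolynomial.C : P →+* MvPolynomial (Fin n) P).Flat := by
  rw [← MvPolynomial.algebraMap_eq, RingHom.flat_algebraMap_iff]
  infer_instance

section Ring

variable {R A B : Type u} [CommRing R] [CommRing A] [CommRing B]

/-- The computation on charts. -/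
theorem pc_chart_tensor {k n : ℕ} {φ : MvPolynomial (Fin n) A →+* B} {ψ : MvPolynomial (Fin k) R →+* A}
    {β : A →+* B} (hβ : φ.comp MvPolynomial.C = β) {C : DRing.Cx B} {D : DRing.Cx A} {a b c d : ℤ}
    (hCb : DRing.VanishesAbove C b)
    (hC : DRing.IsPseudoCoherent (MvPolynomial (Fin n) A) a (DRing.toD ((DRing.restrictCx φ).obj C)))
    (hDd : DRing.VanishesAbove D d) (hDf : DRing.TermwiseFlat D)
    (hD : DRing.IsPseudoCoherent (MvPolynomial (Fin k) R) c (DRing.toD ((DRing.restrictCx ψ).obj D))) :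
    DRing.IsPseudoCoherent (MvPolynomial (Fin (n + k)) R) (max (a + d) (b + c))
      (DRing.toD ((DRing.restrictCx (φ.comp ((MvPolynomial.map ψ).comp
          ((polyEquiv R n k).toRingEquiv : MvPolynomial (Fin (n + k)) R →+* _)))).obj
        (((KF.tensorCx (R := B)).obj ((DR.bc β).obj D)).obj C))) := by
  subst hβ
  let C₀ := (MvPolynomial.C : A →+* MvPolynomial (Fin n) A)
  let N := (DR.bc C₀).obj D
  let μ := (MvPolynomial.map ψ : MvPolynomial (Fin n) (MvPolynomial (Fin k) R) →+* MvPolynomial (Fin n) A)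
  have hN : DRing.IsPseudoCoherent (MvPolynomial (Fin n) (MvPolynomial (Fin k) R)) c
      (DRing.toD ((DRing.restrictCx μ).obj N)) :=
    (pc_restrict_bc (isPushout_mvPolynomial ψ n) (flat_C _ n) D).1 hD
  have h := pc_restrict_tensor μ (C := (DRing.restrictCx φ).obj C) (N := N)
    (fun i hi => (ModuleCat.restrictScalars.{u} φ).map_isZero (hCb i hi)) hC
    (fun i hi => (ModuleCat.extendScalars.{u, u, u} C₀).map_isZero (hDd i hi)) (DR.termwiseFlat_bc C₀ hDf) hN
  let T := ((KF.tensorCx (R := B)).obj ((DR.bc (φ.comp C₀)).obj D)).obj C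
  let e : (DRing.restrictCx φ).obj T ≅
      ((KF.tensorCx (R := MvPolynomial (Fin n) A)).obj N).obj ((DRing.restrictCx φ).obj C) :=
    (DRing.restrictCx φ).mapIso (KF.tensorCxSymm _ _ ≪≫
      ((KF.tensorCx (R := B)).obj C).mapIso (DR.bcCompIso C₀ φ D)) ≪≫
    KF.baseChangeTensorIso φ C N ≪≫ KF.tensorCxSymm _ _
  have h₁ : DRing.IsPseudoCoherent (MvPolynomial (Fin n) (MvPolynomial (Fin k) R)) (max (a + d) (b + c))
      ((DRing.restrictD (φ.comp μ)).obj (DRing.toD T)) :=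
    DerBC.isPseudoCoherent_of_iso ((DR.restrictToDIso _ _) ≪≫ DerivedCategory.Q.mapIso
      (((NatIso.mapHomologicalComplex (ModuleCat.restrictScalarsComp' μ φ (φ.comp μ) rfl) (ComplexShape.up ℤ)).app T) ≪≫
        (DRing.restrictCx μ).mapIso e)).symm h
  exact DerBC.isPseudoCoherent_of_iso (DR.restrictToDIso _ T)
    ((RelPC.pc_restrict_comp (RelPC.ringPC_equiv (polyEquiv R n k).toRingEquiv) (RingHom.comp_assoc _ _ _).symm
      (DRing.toD T) _).2 h₁)

end Ring

variable {X Y Z : Scheme.{u}}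

/-- The chart of a composite. -/
theorem isChart_comp (f : X ⟶ Y) (g : Y ⟶ Z) {U : X.Opens} {V : Y.Opens} {S : Z.Opens}
    (hle : U ≤ f ⁻¹ᵁ V) (hle' : V ≤ g ⁻¹ᵁ S) (hle'' : U ≤ (f ≫ g) ⁻¹ᵁ S) {n k : ℕ}
    {φ : MvPolynomial (Fin n) Γ(Y, V) →+* Γ(X, U)} (hφ : DerSch.IsChart f U V hle φ)
    {ψ : MvPolynomial (Fin k) Γ(Z, S) →+* Γ(Y, V)} (hψ : DerSch.IsChart g V S hle' ψ) :
    DerSch.IsChart (f ≫ g) U S hle'' (φ.comp ((MvPolynomial.map ψ).comp
      ((polyEquiv Γ(Z, S) n k).toRingEquiv : MvPolynomial (Fin (n + k)) Γ(Z, S) →+* _))) := by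
  let e := (polyEquiv Γ(Z, S) n k).toRingEquiv
  refine ⟨hφ.1.comp ((MvPolynomial.map_surjective _ hψ.1).comp e.surjective), RingHom.ext fun a => ?_⟩
  have h1 : e (MvPolynomial.C a) = MvPolynomial.C (MvPolynomial.C a) := by simp [e, polyEquiv]
  rw [RingHom.comp_apply, RingHom.comp_apply, RingHom.comp_apply, ← Scheme.Hom.appLE_comp_appLE f g S V U hle' hle]
  change φ (MvPolynomial.map ψ (e (MvPolynomial.C a))) = (f.appLE V U hle) ((g.appLE S V hle') a)
  rw [h1, MvPolynomial.map_C, show ψ (MvPolynomial.C a) = g.appLE S V hle' a from DFunLike.congr_fun hψ.2 a]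
  exact DFunLike.congr_fun hφ.2 _

/-- A complex vanishing above a degree models an object in degrees below it. -/
theorem isLE_of_model {B : Type u} [CommRing B] {j : Spec (CommRingCat.of B) ⟶ X} [IsOpenImmersion j]
    {K : DCoh.D X} {C : DRing.Cx B} {b : ℤ} (hb : DRing.VanishesAbove C b) (hC : IsModel j C K) :
    ((resD j).obj K).IsLE b := by
  obtain ⟨e⟩ := hC
  refine (DerivedCategory.isLE_iff _ _).2 fun i hi =>
    IsZero.of_iso ?_ ((DerivedCategory.homologyFunctor _ i).mapIso e)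
  exact ((exactAt_iff_isZero_homology _ i).1 (ExactAt.of_isZero
    ((tilde.functor (CommRingCat.of B)).map_isZero (hb i hi)))).of_iso
      ((DerivedCategory.homologyFunctorFactors _ i).app _)

/-- **Relative pseudo-coherence of `E ⊗ Lf^*F`.** -/
theorem isPseudoCoherentRel_ltensor_lpull (f : X ⟶ Y) (g : Y ⟶ Z) [LocallyOfFiniteType f] [LocallyOfFiniteType g]
    [DCoh.HasLpull f] {E : CochainComplex X.Modules ℤ} [DCoh.HasLTensorCx E] {a b c d : ℤ}
    (hqE : DCoh.IsQCohD (DCoh.toD X E)) [(DCoh.toD X E).IsLE b]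
    (hE : DerSch.IsPseudoCoherentRel f a (DCoh.toD X E)) {F : DCoh.D Y} (hqF : DCoh.IsQCohD F) [F.IsLE d]
    (hF : DerSch.IsPseudoCoherentRel g c F) :
    DerSch.IsPseudoCoherentRel (f ≫ g) (max (a + d) (b + c)) ((DCoh.LTensorCx E).obj ((DCoh.Lpull f).obj F)) ∧
      ((DCoh.LTensorCx E).obj ((DCoh.Lpull f).obj F)).IsLE (b + d) := by
  let K := (DCoh.LTensorCx E).obj ((DCoh.Lpull f).obj F)
  have key : ∀ x : X, ∃ (U : X.Opens) (hU : IsAffineOpen U) (S : Z.Opens) (hle : U ≤ (f ≫ g) ⁻¹ᵁ S) (n : ℕ)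
      (φ : MvPolynomial (Fin n) Γ(Z, S) →+* Γ(X, U)), x ∈ U ∧ IsAffineOpen S ∧
        DerSch.IsChart (f ≫ g) U S hle φ ∧ PCOn (max (a + d) (b + c)) K U φ ∧
        ((resD hU.fromSpec).obj K).IsLE (b + d) := fun x => by
    obtain ⟨V, S, hV, hS, hxV, -, hle'⟩ := exists_affine_pair g (O := ⊤) (x := f x) trivial
    obtain ⟨U, hU, hxU, hle⟩ := exists_isAffineOpen_mem_and_subset (x := x) (U := f ⁻¹ᵁ V) hxV
    obtain ⟨n, φ, hφ⟩ := exists_isChart f hU hV hle
    obtain ⟨k, ψ, hψ⟩ := exists_isChart g hV hS hle'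
    have hle'' : U ≤ (f ≫ g) ⁻¹ᵁ S := fun y hy => hle' (hle hy)
    obtain ⟨C, hCb, hCp, hC⟩ := exists_model (B := Γ(X, U)) hU.fromSpec hqE b
    obtain ⟨D, hDd, hDp, hD⟩ := exists_model (B := Γ(Y, V)) hV.fromSpec hqF d
    have hkC := KF.isKFlat_of_vanishesAbove hCb (DR.termwiseFlat_of_projective hCp)
    have hkD := KF.isKFlat_of_vanishesAbove hDd (DR.termwiseFlat_of_projective hDp)
    have hD' : IsModel (B := Γ(X, U)) hU.fromSpec ((DR.bc (f.appLE V U hle).hom).obj D) ((DCoh.Lpull f).obj F) :=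
      isModel_lpull (A := Γ(Y, V)) (B := Γ(X, U)) f hV.fromSpec hU.fromSpec _
        (IsAffineOpen.SpecMap_appLE_fromSpec f hV hU hle).symm (b := d) hkD hD
    have hT := isModel_ltensor hU.fromSpec E _ hkC hD' hC
    have hγ := isChart_comp f g hle hle' hle'' hφ hψ
    refine ⟨U, hU, S, hle'', _, _, hxU, hS, hγ, (pcOn_iff_model hU hγ.1 hT).2 ?_, isLE_of_model ?_ hT⟩
    · exact pc_chart_tensor hφ.2 hCb ((pcOn_iff_model hU hφ.1 hC).1 (pcOn_of_isPseudoCoherentRel hE hU hV hφ))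
        hDd (DR.termwiseFlat_of_projective hDp)
        ((pcOn_iff_model hV hψ.1 hD).1 (pcOn_of_isPseudoCoherentRel hF hV hS hψ))
    · intro i hi
      refine (IsZero.iff_id_eq_zero _).2 (HomologicalComplex.mapBifunctor.hom_ext fun p q h => ?_)
      have h' : p + q = i := h
      refine IsZero.eq_of_src ?_ _ _
      by_cases hp : d < p
      · exact ((MonoidalCategory.curriedTensor (ModuleCat.{u} Γ(X, U))).flip.obj (C.X q)).map_isZero
          ((ModuleCat.extendScalars.{u, u, u} _).map_isZero (hDd p hp))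
      · exact ((MonoidalCategory.curriedTensor (ModuleCat.{u} Γ(X, U))).obj _).map_isZero (hCb q (by omega))
  refine ⟨isPseudoCoherentRel_of_local fun x => ?_, isLE_of_affines fun x => ?_⟩
  · obtain ⟨U, hU, S, hle, n, φ, hxU, hS, hφ, hpc, -⟩ := key x
    exact ⟨U, S, hle, n, φ, hxU, hU, hS, hφ, hpc⟩
  · obtain ⟨U, hU, S, hle, n, φ, hxU, -, -, -, hb⟩ := key x
    exact ⟨_, hU.fromSpec, inferInstance, mem_range_fromSpec hU hxU, hb⟩

/-- The structure sheaf is modelled by the ring. -/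
theorem isModel_unit {B : Type u} [CommRing B] (j : Spec (CommRingCat.of B) ⟶ X) [IsOpenImmersion j] :
    IsModel j ((HomologicalComplex.single (ModuleCat.{u} B) (ComplexShape.up ℤ) 0).obj (ModuleCat.of B B))
      (DCoh.toD X (DerSch.unitCx X)) :=
  ⟨resUnitCxIso j ≪≫ DerivedCategory.Q.mapIso ((HomologicalComplex.single _ (ComplexShape.up ℤ) 0).mapIso tildeSelf.symm ≪≫
    ((singleMapHomologicalComplex (tilde.functor (CommRingCat.of B)) (ComplexShape.up ℤ) 0).app _).symm)⟩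

/-- **Relative pseudo-coherence of `Lf^*F`.** -/
theorem isPseudoCoherentRel_lpull_comp (f : X ⟶ Y) (g : Y ⟶ Z) [LocallyOfFiniteType f] [LocallyOfFiniteType g]
    [DCoh.HasLpull f] {a c d : ℤ} (hf : DerSch.IsNPseudoCoherent f a) {F : DCoh.D Y} (hqF : DCoh.IsQCohD F)
    [F.IsLE d] (hF : DerSch.IsPseudoCoherentRel g c F) :
    DerSch.IsPseudoCoherentRel (f ≫ g) (max (a + d) (0 + c)) ((DCoh.Lpull f).obj F) := by
  refine isPseudoCoherentRel_of_local fun x => ?_
  obtain ⟨V, S, hV, hS, hxV, -, hle'⟩ := exists_affine_pair g (O := ⊤) (x := f x) trivial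
  obtain ⟨U, hU, hxU, hle⟩ := exists_isAffineOpen_mem_and_subset (x := x) (U := f ⁻¹ᵁ V) hxV
  obtain ⟨n, φ, hφ⟩ := exists_isChart f hU hV hle
  obtain ⟨k, ψ, hψ⟩ := exists_isChart g hV hS hle'
  have hle'' : U ≤ (f ≫ g) ⁻¹ᵁ S := fun y hy => hle' (hle hy)
  obtain ⟨D, hDd, hDp, hD⟩ := exists_model (B := Γ(Y, V)) hV.fromSpec hqF d
  have hkD := KF.isKFlat_of_vanishesAbove hDd (DR.termwiseFlat_of_projective hDp)
  let O := ModuleCat.of Γ(X, U) Γ(X, U)
  let C := (HomologicalComplex.single (ModuleCat.{u} Γ(X, U)) (ComplexShape.up ℤ) 0).obj O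
  have hC : IsModel (B := Γ(X, U)) hU.fromSpec C (DCoh.toD X (DerSch.unitCx X)) := isModel_unit _
  have hD' : IsModel (B := Γ(X, U)) hU.fromSpec ((DR.bc (f.appLE V U hle).hom).obj D) ((DCoh.Lpull f).obj F) :=
    isModel_lpull (A := Γ(Y, V)) (B := Γ(X, U)) f hV.fromSpec hU.fromSpec _
      (IsAffineOpen.SpecMap_appLE_fromSpec f hV hU hle).symm (b := d) hkD hD
  let L := (DR.bc (f.appLE V U hle).hom).obj D
  let e : ((KF.tensorCx (R := Γ(X, U))).obj L).obj C ≅ L := (KF.singleIso L O).symm ≪≫ KF.tensorCxUnitIso L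
  have hγ := isChart_comp f g hle hle' hle'' hφ hψ
  refine ⟨U, S, hle'', _, _, hxU, hU, hS, hγ, (pcOn_iff_model hU hγ.1
    (isModel_of_iso (DerivedCategory.Q.mapIso e.symm) hD')).2 ?_⟩
  exact pc_chart_tensor hφ.2 (fun i hi => isZero_single_obj_X _ _ _ _ (by omega))
    ((pcOn_iff_model hU hφ.1 hC).1 (pcOn_of_isPseudoCoherentRel hf hU hV hφ))
    hDd (DR.termwiseFlat_of_projective hDp)
    ((pcOn_iff_model hV hψ.1 hD).1 (pcOn_of_isPseudoCoherentRel hF hV hS hψ))

/-- Relative pseudo-coherence in a larger degree. -/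
theorem isPseudoCoherentRel_mono {f : X ⟶ Y} {K : DCoh.D X} {m m' : ℤ} (hm : m ≤ m')
    (h : DerSch.IsPseudoCoherentRel f m K) : DerSch.IsPseudoCoherentRel f m' K := by
  obtain ⟨hf, 𝒱, h1, h2⟩ := h
  refine ⟨hf, 𝒱, h1, fun V hV => ?_⟩
  obtain ⟨𝒰, h3, h4⟩ := h2 V hV
  refine ⟨𝒰, h3, fun U hU hle => ?_⟩
  obtain ⟨n, φ, hφ, hpc⟩ := h4 U hU hle
  exact ⟨n, φ, hφ, fun G hG => isPseudoCoherentD_mono (hpc G hG) hm⟩

end GrothLib.KSix19
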