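import Groth.Agent.Lib.KSix19.TorDimAffine
import Groth.Agent.Lib.KSix19.RpushAmp.Main
import Mathlib.AlgebraicGeometry.Morphisms.Smooth

/-!
Affine morphisms of finite tor dimension factor as closed immersion of finite tor dimension and smooth.
-/

set_option backward.isDefEq.respectTransparency false
set_option linter.style.haveILetI false

universe u

open CategoryTheory AlgebraicGeometry

attribute [local instance] HasDerivedCategory.standard

namespace GrothLib.KSix19

theorem ampM_sharpen {A B : Type u} [CommRing A] [CommRing B] (φ : A →+* B) {a b : ℤ} {M : ModuleCat.{u} B}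
    (h : AmpM φ a b M) : AmpM φ a 0 M :=
  RpushAmp.amp_sharpen h fun i hi => GrothLib.DR.subsingleton_HD_inD _ i (ne_of_gt hi)

theorem exists_bound {X Y : Scheme.{u}} (f : X ⟶ Y) (hf : DerSch.HasFiniteTorDim f) :
    ∃ n : ℕ, ∀ x, DerSch.HasTorAmplitudeAt f (-(n : ℤ)) 0 (DerSch.unitCx X) x := by
  obtain ⟨a, b, h⟩ := hf
  refine ⟨(-a).toNat, fun x => (hasTorAmplitudeAt_unit_iff' f x _ _).2 (ampM_sharpen _ (b := b) ?_) ⟩
  exact DR.hasTorAmplitudeIn_mono (by omega) le_rfl ((hasTorAmplitudeAt_unit_iff' f x a b).1 (h x))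

/-- Conjugation by isomorphisms. -/
theorem ampM_conj {A A' B B' : Type u} [CommRing A] [CommRing A'] [CommRing B] [CommRing B']
    (α : A' →+* A) (hα : Function.Bijective α) (π : A →+* B) (β : B →+* B') (hβ : Function.Bijective β)
    (d : ℕ) (h : AmpM π (-(d : ℤ)) 0 (ModuleCat.of B B)) {σ : A' →+* B'} (hσ : σ = (β.comp π).comp α) :
    AmpM σ (-(d : ℤ)) 0 (ModuleCat.of B' B') := by
  have h1 : AmpM (β.comp π) (-(d : ℤ)) 0 (ModuleCat.of B' B') := by
    have := ampM_restrict π β rfl d h (ampM_flat β (RingHom.Flat.of_bijective hβ))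
    rwa [zero_sub] at this
  have h2 := ampM_restrict α (β.comp π) hσ 0
    (by simpa using ampM_flat α (RingHom.Flat.of_bijective hα)) h1
  simpa using h2

/-- A finitely presented surjection from a polynomial ring keeps finite tor amplitude. -/
theorem ampM_of_polynomial {A B : Type u} [CommRing A] [CommRing B] {m n : ℕ}
    (π : MvPolynomial (Fin m) A →+* B) (h : AmpM (π.comp MvPolynomial.C) (-(n : ℤ)) 0 (ModuleCat.of B B)) :
    AmpM π (-((n + m : ℕ) : ℤ)) 0 (ModuleCat.of B B) := by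
  have h1 := (ampM_iff _ _ _ _).1 ((ampM_comp MvPolynomial.C π rfl _ _ _).1 h)
  have h2 := amp_mvPolynomial m h1
  obtain ⟨e⟩ := nonempty_inD_iso ((ModuleCat.restrictScalars.{u} π).obj (ModuleCat.of B B))
  rw [show -((n + m : ℕ) : ℤ) = -(n : ℤ) - (m : ℤ) by push_cast; ring]
  exact amp_of_iso e.symm h2

theorem exists_smooth_factor {X Y : Scheme.{u}} (f : X ⟶ Y) [LocallyOfFiniteType f]
    (hf : DerSch.HasFiniteTorDim f) (U : X.Opens) (hU : IsAffineOpen U) (V : Y.Opens) (hV : IsAffineOpen V)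
    (hUV : U ≤ f ⁻¹ᵁ V) :
    ∃ (W : Scheme.{u}) (g : (U : Scheme.{u}) ⟶ W) (h : W ⟶ Y),
      IsClosedImmersion g ∧ DerSch.HasFiniteTorDim g ∧ Smooth h ∧ g ≫ h = U.ι ≫ f := by
  obtain ⟨n, hn⟩ := exists_bound f hf
  have hA := ampM_of_stalks f hV hU hUV (fun x _ => hn x)
  let φ := f.appLE V U hUV
  have hft : φ.hom.FiniteType := LocallyOfFiniteType.finiteType_appLE f hV hU hUV
  letI : Algebra Γ(Y, V) Γ(X, U) := φ.hom.toAlgebra
  haveI : Algebra.FiniteType Γ(Y, V) Γ(X, U) := hft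
  obtain ⟨m, π, hπ⟩ := Algebra.FiniteType.iff_quotient_mvPolynomial''.1 ‹Algebra.FiniteType Γ(Y, V) Γ(X, U)›
  let Q := MvPolynomial (Fin m) Γ(Y, V)
  have hcomp : π.toRingHom.comp MvPolynomial.C = φ.hom := RingHom.ext fun a => by
    exact π.commutes a
  have hB := ampM_of_polynomial (n := n) π.toRingHom (by rw [hcomp]; exact hA)
  let πc : CommRingCat.of Q ⟶ Γ(X, U) := CommRingCat.ofHom π.toRingHom
  let p : Spec Γ(X, U) ⟶ Spec (CommRingCat.of Q) := Spec.map πc
  let g : (U : Scheme.{u}) ⟶ Spec (CommRingCat.of Q) := hU.isoSpec.hom ≫ p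
  let Cc : Γ(Y, V) ⟶ CommRingCat.of Q := CommRingCat.ofHom MvPolynomial.C
  haveI : IsClosedImmersion p := IsClosedImmersion.spec_of_surjective _ hπ
  haveI : Smooth (Spec.map Cc) := by
    rw [HasRingHomProperty.Spec_iff (P := @Smooth)]
    exact RingHom.smooth_algebraMap.2 (⟨inferInstance, inferInstance⟩ : Algebra.Smooth Γ(Y, V) Q)
  refine ⟨Spec (CommRingCat.of Q), g, Spec.map Cc ≫ hV.fromSpec, inferInstance, ?_, inferInstance, ?_⟩
  · refine ⟨-((n + m : ℕ) : ℤ) - (0 : ℕ), 0, fun x => ?_⟩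
    have htop : ∀ y : Spec Γ(X, U), DerSch.HasTorAmplitudeAt p (-((n + m : ℕ) : ℤ)) 0 (DerSch.unitCx _) y := by
      intro y
      refine hasTorAmplitudeAt_of_ampM p (isAffineOpen_top _) (isAffineOpen_top _) le_rfl ?_ (x := y) trivial
      have hαbij : Function.Bijective (Scheme.ΓSpecIso (CommRingCat.of Q)).hom.hom :=
        ConcreteCategory.bijective_of_isIso _
      have hβbij : Function.Bijective (Scheme.ΓSpecIso Γ(X, U)).inv.hom :=
        ConcreteCategory.bijective_of_isIso _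
      refine ampM_conj _ hαbij π.toRingHom _ hβbij _ hB ?_
      have e : p.appLE ⊤ ⊤ le_rfl =
          (Scheme.ΓSpecIso (CommRingCat.of Q)).hom ≫ πc ≫ (Scheme.ΓSpecIso Γ(X, U)).inv := by
        rw [← Scheme.ΓSpecIso_naturality_assoc, Iso.hom_inv_id, Category.comp_id]
        simp [Scheme.Hom.appLE, Scheme.Hom.appTop, p]
      rw [e]
      rfl
    have hi : DerSch.HasTorAmplitudeAt hU.isoSpec.hom 0 0 (DerSch.unitCx _) x :=
      hasTorAmplitudeAt_of_flat _ x
    have := hasTorAmplitudeAt_comp hU.isoSpec.hom p x (n + m) (htop _) hi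
    refine DR.hasTorAmplitudeIn_mono ?_ le_rfl this
    simp
  · have hπc : Cc ≫ πc = φ := CommRingCat.hom_ext hcomp
    simp only [g, p, Category.assoc]
    rw [← Spec.map_comp_assoc, hπc, IsAffineOpen.SpecMap_appLE_fromSpec f hV hU hUV,
      IsAffineOpen.isoSpec_hom_fromSpec_assoc]

end GrothLib.KSix19
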