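import Groth.Agent.Lib.KSix19.TensorStalk
import Groth.Agent.Lib.KSix19.FlatBC
import Groth.Agent.Lib.DCxRing.TorIndepSquare

/-! # Stalks of fibre products: flatness over the tensor product of the stalks -/

set_option autoImplicit false
set_option maxHeartbeats 800000
set_option backward.isDefEq.respectTransparency false
set_option linter.style.haveILetI false
universe u

open CategoryTheory CategoryTheory.Limits AlgebraicGeometry HomologicalComplex
open scoped TensorProduct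

attribute [local instance] HasDerivedCategory.standard

namespace GrothLib.KSix19

open GrothLib.OX

/-- Along an epimorphism of rings, modules flat over the source are flat over the target. -/
theorem flat_of_hasSection {B T : Type u} [CommRing B] [CommRing T] (ψ : B →+* T) (hψ : HasSection ψ)
    (M : ModuleCat.{u} T) (hM : Module.Flat B ((ModuleCat.restrictScalars.{u} ψ).obj M)) : Module.Flat T M := by
  obtain ⟨s, hs⟩ := exists_section ψ hψ
  haveI : Module.Flat T ((TF ψ).obj M) := flat_extendScalars ψ ((ModuleCat.restrictScalars.{u} ψ).obj M) hM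
  exact Module.Flat.of_retract (s.app M).hom ((ModuleCat.extendRestrictScalarsAdj.{u} ψ).counit.app M).hom
    (congrArg ModuleCat.Hom.hom (NatTrans.congr_app hs M))

theorem flat_of_epi {B T C : Type u} [CommRing B] [CommRing T] [CommRing C] (ψ : B →+* T) (τ : T →+* C)
    (hψ : ∀ {U : Type u} [CommRing U] (p q : T →+* U), p.comp ψ = q.comp ψ → p = q)
    (h : (τ.comp ψ).Flat) : τ.Flat := by
  have hs : HasSection ψ := by
    letI := ψ.toAlgebra
    refine ⟨1, fun t => ?_, map_one _⟩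
    rw [mul_one, sub_eq_zero]
    exact (DFunLike.congr_fun (hψ (Algebra.TensorProduct.includeLeftRingHom : T →+* T ⊗[B] T)
      (Algebra.TensorProduct.includeRight : T →ₐ[B] T ⊗[B] T).toRingHom
      (RingHom.ext fun c => by
        change (ψ c) ⊗ₜ[B] (1 : T) = (1 : T) ⊗ₜ[B] (algebraMap B T c)
        rw [Algebra.algebraMap_eq_smul_one, TensorProduct.tmul_smul, TensorProduct.smul_tmul',
          ← Algebra.algebraMap_eq_smul_one]
        rfl)) t).symm
  refine (flat_restrict_iff τ).1 (flat_of_hasSection ψ hs _ ?_)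
  haveI := (flat_restrict_iff (τ.comp ψ)).2 h
  exact Module.Flat.of_linearEquiv
    (((ModuleCat.restrictScalarsComp'.{u} ψ τ (τ.comp ψ) rfl).app (ModuleCat.of C C)).symm).toLinearEquiv

theorem hom_ext_localization {A B U : Type u} [CommRing A] [CommRing B] [CommRing U] (u : A →+* B)
    (S : Submonoid A) (hu : letI := u.toAlgebra; IsLocalization S B) {p q : B →+* U} (h : p.comp u = q.comp u) :
    p = q := by
  letI := u.toAlgebra
  haveI : IsLocalization S B := hu
  exact IsLocalization.ringHom_ext S h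

variable {X Y X' Y' : Scheme.{u}} {f : X ⟶ Y} {h : Y' ⟶ Y} {g : X' ⟶ X} {f' : X' ⟶ Y'}

theorem map_point (H : IsPullback g f' f h) (z : X') : h (f' z) = f (g z) := by
  rw [← Scheme.Hom.comp_apply, ← H.w, Scheme.Hom.comp_apply]

/-- The stalk map of the base, at corresponding points. -/
noncomputable def baseStalkMap (H : IsPullback g f' f h) (z : X') :
    Y.presheaf.stalk (f (g z)) ⟶ Y'.presheaf.stalk (f' z) :=
  (Y.presheaf.stalkCongr (Inseparable.of_eq (map_point H z).symm)).hom ≫ h.stalkMap (f' z)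

theorem germ_baseStalkMap (H : IsPullback g f' f h) (z : X') (V : Y.Opens) (hV : f (g z) ∈ V)
    (hV' : h (f' z) ∈ V) :
    Y.presheaf.germ V (f (g z)) hV ≫ baseStalkMap H z =
      h.app V ≫ Y'.presheaf.germ (h ⁻¹ᵁ V) (f' z) hV' := by
  rw [baseStalkMap, TopCat.Presheaf.stalkCongr_hom, ← Category.assoc, TopCat.Presheaf.germ_stalkSpecializes]
  exact Scheme.Hom.germ_stalkMap h V (f' z) hV'

theorem flat_baseStalkMap (H : IsPullback g f' f h) [Flat h] (z : X') : (baseStalkMap H z).hom.Flat :=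
  RingHom.Flat.comp (RingHom.Flat.of_bijective (ConcreteCategory.bijective_of_isIso
    (Y.presheaf.stalkCongr (Inseparable.of_eq (map_point H z).symm)).hom)) (Flat.stalkMap h (f' z))

theorem stalk_square (H : IsPullback g f' f h) (z : X') :
    f.stalkMap (g z) ≫ g.stalkMap z = baseStalkMap H z ≫ f'.stalkMap z := by
  refine TopCat.Presheaf.stalk_hom_ext Y.presheaf fun V hV => ?_
  have hV' : h (f' z) ∈ V := by rw [map_point H z]; exact hV
  rw [← Category.assoc, Scheme.Hom.germ_stalkMap, Category.assoc, Scheme.Hom.germ_stalkMap,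
    ← Category.assoc (Y.presheaf.germ V (f (g z)) hV), germ_baseStalkMap H z V hV hV', Category.assoc,
    Scheme.Hom.germ_stalkMap]
  have e : ∀ (k : X' ⟶ Y) (hk : k z ∈ V), k = g ≫ f →
      f.app V ≫ g.app (f ⁻¹ᵁ V) ≫ X'.presheaf.germ (g ⁻¹ᵁ f ⁻¹ᵁ V) z hV =
        k.app V ≫ X'.presheaf.germ (k ⁻¹ᵁ V) z hk := by
    intro k hk e
    subst e
    rw [Scheme.Hom.comp_app, Category.assoc]
    rfl
  refine (e (f' ≫ h) hV' H.w.symm).trans ?_
  rw [Scheme.Hom.comp_app, Category.assoc]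
  rfl

/-- **The stalk of a fibre product is flat over the tensor product of the stalks.** -/
theorem exists_stalk_tensor (H : IsPullback g f' f h) (z : X') :
    ∃ (T : CommRingCat.{u}) (i₁ : X.presheaf.stalk (g z) ⟶ T) (i₂ : Y'.presheaf.stalk (f' z) ⟶ T)
      (τ : T ⟶ X'.presheaf.stalk z),
      IsPushout (f.stalkMap (g z)) (baseStalkMap H z) i₁ i₂ ∧ i₁ ≫ τ = g.stalkMap z ∧ i₂ ≫ τ = f'.stalkMap z ∧
        τ.hom.Flat := by
  obtain ⟨V, hV, hxV, -⟩ := exists_isAffineOpen_mem_and_subset (x := f (g z)) (U := ⊤) trivial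
  obtain ⟨U, hU, hxU, hUV⟩ := exists_isAffineOpen_mem_and_subset (x := g z) (U := f ⁻¹ᵁ V) hxV
  have hx : h (f' z) ∈ V := by rw [map_point H z]; exact hxV
  obtain ⟨V', hV', hxV', hV'V⟩ := exists_isAffineOpen_mem_and_subset (x := f' z) (U := h ⁻¹ᵁ V) hx
  haveI : IsAffine U.toScheme := hU
  haveI : IsAffine V.toScheme := hV
  haveI : IsAffine V'.toScheme := hV'
  let U' : X'.Opens := g ⁻¹ᵁ U ⊓ f' ⁻¹ᵁ V'
  have hU' : IsAffineOpen U' := .of_isIso (Scheme.Hom.isPullback_resLE H hV'V hUV rfl).isoPullback.hom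
  have hzU' : z ∈ U' := ⟨hxU, hxV'⟩
  have hpo := (isIso_pushoutSection_iff H hV'V hUV rfl).1
    (isIso_pushoutSection_of_isAffineOpen H hV'V hUV rfl hV hV' hU)
  let P := IsPushout.of_hasPushout (f.stalkMap (g z)) (baseStalkMap H z)
  let i₁ := pushout.inl (f.stalkMap (g z)) (baseStalkMap H z)
  let i₂ := pushout.inr (f.stalkMap (g z)) (baseStalkMap H z)
  let u₁ : Γ(X, U) ⟶ X.presheaf.stalk (g z) := X.presheaf.germ U (g z) hxU
  let u₂ : Γ(Y', V') ⟶ Y'.presheaf.stalk (f' z) := Y'.presheaf.germ V' (f' z) hxV'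
  have hb₁ : f.appLE V U hUV ≫ u₁ = Y.presheaf.germ V (f (g z)) hxV ≫ f.stalkMap (g z) := by
    rw [Scheme.Hom.germ_stalkMap, Scheme.Hom.appLE, Category.assoc, TopCat.Presheaf.germ_res]
  have hb₂ : h.appLE V V' hV'V ≫ u₂ = Y.presheaf.germ V (f (g z)) hxV ≫ baseStalkMap H z := by
    rw [germ_baseStalkMap H z V hxV hx, Scheme.Hom.appLE, Category.assoc, TopCat.Presheaf.germ_res]
  have hψw : f.appLE V U hUV ≫ u₁ ≫ i₁ = h.appLE V V' hV'V ≫ u₂ ≫ i₂ := by
    rw [← Category.assoc, hb₁, ← Category.assoc, hb₂, Category.assoc, Category.assoc]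
    exact congrArg (_ ≫ ·) P.w
  let ψ : Γ(X', U') ⟶ pushout (f.stalkMap (g z)) (baseStalkMap H z) := hpo.desc (u₁ ≫ i₁) (u₂ ≫ i₂) hψw
  let τ : pushout (f.stalkMap (g z)) (baseStalkMap H z) ⟶ X'.presheaf.stalk z :=
    P.desc (g.stalkMap z) (f'.stalkMap z) (stalk_square H z)
  have hψτ : ψ ≫ τ = X'.presheaf.germ U' z hzU' := by
    refine hpo.hom_ext ?_ ?_
    · rw [IsPushout.inl_desc_assoc, Category.assoc, P.inl_desc, Scheme.Hom.germ_stalkMap, Scheme.Hom.appLE,
        Category.assoc, TopCat.Presheaf.germ_res]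
    · rw [IsPushout.inr_desc_assoc, Category.assoc, P.inr_desc, Scheme.Hom.germ_stalkMap, Scheme.Hom.appLE,
        Category.assoc, TopCat.Presheaf.germ_res]
  refine ⟨_, i₁, i₂, τ, P, P.inl_desc _ _ _, P.inr_desc _ _ _, flat_of_epi ψ.hom τ.hom (fun {U₀} _ p q hpq => ?_) ?_⟩
  · have e : ψ ≫ CommRingCat.ofHom p = ψ ≫ CommRingCat.ofHom q := CommRingCat.hom_ext hpq
    refine congrArg CommRingCat.Hom.hom (P.hom_ext (W := CommRingCat.of U₀) (k := CommRingCat.ofHom p)
      (l := CommRingCat.ofHom q) (CommRingCat.hom_ext ?_) (CommRingCat.hom_ext ?_))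
    · refine hom_ext_localization u₁.hom (hU.primeIdealOf ⟨g z, hxU⟩).asIdeal.primeCompl
        (hU.isLocalization_stalk ⟨g z, hxU⟩) (congrArg CommRingCat.Hom.hom
          (show u₁ ≫ i₁ ≫ CommRingCat.ofHom p = u₁ ≫ i₁ ≫ CommRingCat.ofHom q from ?_))
      rw [← Category.assoc, ← Category.assoc, ← hpo.inl_desc (u₁ ≫ i₁) (u₂ ≫ i₂) hψw, Category.assoc, Category.assoc,
        e]
    · refine hom_ext_localization u₂.hom (hV'.primeIdealOf ⟨f' z, hxV'⟩).asIdeal.primeCompl
        (hV'.isLocalization_stalk ⟨f' z, hxV'⟩) (congrArg CommRingCat.Hom.hom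
          (show u₂ ≫ i₂ ≫ CommRingCat.ofHom p = u₂ ≫ i₂ ≫ CommRingCat.ofHom q from ?_))
      rw [← Category.assoc, ← Category.assoc, ← hpo.inr_desc (u₁ ≫ i₁) (u₂ ≫ i₂) hψw, Category.assoc, Category.assoc,
        e]
  · rw [← CommRingCat.hom_comp, hψτ]
    exact flat_germ hU' hzU'

/-- Amplitude after a flat base change, localised further by a flat map. -/
theorem amp_bc_square {A A' B T C : Type u} [CommRing A] [CommRing A'] [CommRing B] [CommRing T] [CommRing C]
    (b : A →+* B) (σ : A →+* A') (i₁ : B →+* T) (i₂ : A' →+* T)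
    (H : IsPushout (CommRingCat.ofHom b) (CommRingCat.ofHom σ) (CommRingCat.ofHom i₁) (CommRingCat.ofHom i₂))
    (τ : T →+* C) (hτ : τ.Flat) {φ : A' →+* C} (hφ : φ = τ.comp i₂) {K : DRing.Cx B} (hK : KF.IsKFlat K) {c d : ℤ}
    (hamp : DRing.HasTorAmplitudeIn A' c d
      (DRing.toD ((DR.bc σ).obj ((DRing.restrictCx b).obj K)))) :
    AmpOver φ c d ((DR.bc (τ.comp i₁)).obj K) := by
  have hsq : i₁.comp b = i₂.comp σ := congrArg CommRingCat.Hom.hom H.w
  have hpo : DR.IsPushoutHom b σ i₁ i₂ hsq := by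
    letI := b.toAlgebra
    letI := σ.toAlgebra
    letI := i₁.toAlgebra
    letI := i₂.toAlgebra
    letI := (i₁.comp b).toAlgebra
    haveI : IsScalarTower A B T := IsScalarTower.of_algebraMap_eq' rfl
    haveI : IsScalarTower A A' T := IsScalarTower.of_algebraMap_eq' hsq
    haveI : Algebra.IsPushout A B A' T := CommRingCat.isPushout_iff_isPushout.1 H
    exact (Algebra.IsPushout.symm inferInstance : Algebra.IsPushout A A' B T)
  haveI := DR.isIso_canCx hsq hpo K
  let Q := (DR.bc i₁).obj K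
  have h1 : DRing.HasTorAmplitudeIn A' c d (DRing.toD ((DRing.restrictCx i₂).obj Q)) :=
    amp_of_iso (asIso (DerivedCategory.Q.map (DR.canCx hsq K))) hamp
  have h2 := amp_tensor_bc i₂ τ hφ
    (K := (HomologicalComplex.single (ModuleCat.{u} C) (ComplexShape.up ℤ) 0).obj (ModuleCat.of C C))
    ((ampM_iff τ _ _ _).1 (ampM_flat τ hτ)) (KF.isKFlat_baseChange i₁ K hK) h1
  rw [zero_add, zero_add] at h2
  let R := (DR.bc τ).obj Q
  let s : (DR.bc (τ.comp i₁)).obj K ≅ ((KF.tensorCx (R := C)).obj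
      ((HomologicalComplex.single (ModuleCat.{u} C) (ComplexShape.up ℤ) 0).obj (ModuleCat.of C C))).obj R :=
    DR.bcCompIso i₁ τ K ≪≫ (KF.tensorCxUnitIso R).symm ≪≫ KF.singleIso R (ModuleCat.of C C) ≪≫ KF.tensorCxSymm _ _
  exact amp_of_iso (DerivedCategory.Q.mapIso ((DRing.restrictCx φ).mapIso s.symm)) h2

/-- **Tor amplitude under flat base change.** -/
theorem hasTorAmplitudeD_lpull_flat (H : IsPullback g f' f h) [Flat h] [DCoh.HasLpull g]
    {F : CochainComplex X.Modules ℤ} {a b : ℤ} (hF : DerSch.HasTorAmplitude f a b F) :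
    DerSch.HasTorAmplitudeD f' a b ((DCoh.Lpull g).obj (DCoh.toD X F)) := by
  haveI := isLE_of_torAmplitude f hF
  obtain ⟨P, t, hP, hflat, ⟨eP⟩⟩ := exists_flat_rep F b
  have hK : DCoh.IsKFlat P := OX.isKFlat_of_bounded_above P t hP hflat
  obtain ⟨v⟩ := OX.lpull_value g P hK
  let P' := ((Scheme.Modules.pullback g).mapHomologicalComplex (ComplexShape.up ℤ)).obj P
  intro W ⟨eW⟩
  refine hasTorAmplitude_of_iso f' (G := P') (v.symm ≪≫ (DCoh.Lpull g).mapIso eP ≪≫ eW.symm) fun z => ?_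
  obtain ⟨T, i₁, i₂, τ, hpo, hi₁, hi₂, hτ⟩ := exists_stalk_tensor H z
  have hKx : KF.IsKFlat ((stalkCx (g z)).obj P) :=
    KF.isKFlat_of_vanishesAbove (fun k hk => (stalk (g z)).map_isZero (hP k hk))
      (fun k => (GrothLib.OX.flat_iff _).1 (hflat k) (g z))
  obtain ⟨a₁⟩ := nonempty_stalkCxOver f (g z) P
  have hamp := amp_bc_flat (baseStalkMap H z).hom (flat_baseStalkMap H z)
    (amp_of_iso (a₁ ≪≫ DR.restrictToDIso (f.stalkMap (g z)).hom _) ((hasTorAmplitude_of_iso f eP.symm hF) (g z)))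
  have h' := amp_bc_square (f.stalkMap (g z)).hom (baseStalkMap H z).hom i₁.hom i₂.hom hpo τ.hom hτ
    (φ := (f'.stalkMap z).hom) (by rw [← hi₂, CommRingCat.hom_comp]) hKx hamp
  obtain ⟨a₃⟩ := nonempty_stalkCxOver f' z P'
  let s : (stalkCx z).obj P' ≅ (DR.bc (τ.hom.comp i₁.hom)).obj ((stalkCx (g z)).obj P) :=
    (NatIso.mapHomologicalComplex (pullStalkIso g z) (ComplexShape.up ℤ)).app P ≪≫
      eqToIso (show (DR.bc (g.stalkMap z).hom).obj ((stalkCx (g z)).obj P) = _ by rw [← CommRingCat.hom_comp, hi₁])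
  exact amp_of_iso ((DR.restrictToDIso _ _).symm ≪≫
    (DRing.restrictD (f'.stalkMap z).hom).mapIso (DerivedCategory.Q.mapIso s.symm) ≪≫ a₃.symm) h'

end GrothLib.KSix19
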