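import Groth.Agent.Lib.KSix19.ModRel

/-! # Complexes with pseudo-coherent terms -/

set_option autoImplicit false
set_option maxHeartbeats 800000
set_option backward.isDefEq.respectTransparency false
universe u

open CategoryTheory CategoryTheory.Limits CategoryTheory.Pretriangulated AlgebraicGeometry HomologicalComplex

attribute [local instance] HasDerivedCategory.standard

namespace GrothLib.KSix19

open GrothLib.OX

variable {Z X Y : Scheme.{u}}

/-- Bounded complexes with pseudo-coherent terms. -/
theorem isPseudoCoherentD_of_bounded_terms (m : ℤ) :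
    ∀ (d : ℕ) (p : ℤ) (E : CochainComplex Z.Modules ℤ), (∀ k, k < p ∨ p + d ≤ k → IsZero (E.X k)) →
      (∀ k, ModPC (E.X k)) → DCoh.IsPseudoCoherentD m (DerivedCategory.Q.obj E)
  | 0, p, E, hz, _ => isPseudoCoherentD_of_isZero (DerivedCategory.Q.map_isZero
      ((IsZero.iff_id_eq_zero _).2 (HomologicalComplex.hom_ext _ _ fun k => (hz k (by omega)).eq_of_src _ _))) m
  | d + 1, p, E, hz, hfl => by
    let T := GrothLib.StupidGE.trunc E (p + 1)
    let ι := GrothLib.StupidGE.ι E (p + 1)
    have hTfl : ∀ k, ModPC (T.X k) := fun k => by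
      rcases lt_or_ge k (p + 1) with hk | hk
      · exact modPC_of_isZero (GrothLib.StupidGE.isZero_trunc E (p + 1) hk)
      · have := GrothLib.StupidGE.isIso_ι_f E (p + 1) hk
        exact modPC_of_iso (asIso (ι.f k)).symm (hfl k)
    have hTz : ∀ k, k < p + 1 ∨ p + 1 + d ≤ k → IsZero (T.X k) := fun k hk => by
      rcases hk with hk | hk
      · exact GrothLib.StupidGE.isZero_trunc E (p + 1) hk
      · exact GrothLib.StupidGE.isZero_trunc_of_isZero E (p + 1) (hz k (Or.inr (by push_cast; omega)))
    have h₁ := isPseudoCoherentD_of_bounded_terms m d (p + 1) T hTz hTfl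
    have : Mono ι := HomologicalComplex.mono_of_mono_f ι fun k =>
      show Mono (equalizer.ι (GrothLib.StupidGE.sel E (p + 1) k) 0) from inferInstance
    let S : ShortComplex (CochainComplex Z.Modules ℤ) := ShortComplex.mk ι (cokernel.π ι) (cokernel.condition ι)
    have hS : S.ShortExact :=
      { exact := ShortComplex.exact_of_g_is_cokernel _ (cokernelIsCokernel ι) }
    have hC : ∀ k, k ≠ p → IsZero ((cokernel ι).X k) := fun k hk => by
      have hSk := hS.map_of_exact (HomologicalComplex.eval Z.Modules (ComplexShape.up ℤ) k)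
      rcases lt_or_gt_of_ne hk with hk | hk
      · exact @IsZero.of_epi _ _ _ _ _ ((cokernel.π ι).f k) hSk.epi_g (hz k (Or.inl hk))
      · have := GrothLib.StupidGE.isIso_ι_f E (p + 1) (i := k) (by omega)
        refine (IsZero.iff_id_eq_zero _).2 ?_
        have h0 : (cokernel.π ι).f k = 0 := by
          rw [← cancel_epi (ι.f k), comp_zero, ← HomologicalComplex.comp_f, cokernel.condition]; rfl
        have := hSk.epi_g
        exact (cancel_epi ((cokernel.π ι).f k)).1 ((congrArg (· ≫ 𝟙 _) h0).trans (by simp))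
    have hCp : ModPC ((cokernel ι).X p) := by
      have hSk := hS.map_of_exact (HomologicalComplex.eval Z.Modules (ComplexShape.up ℤ) p)
      have : IsIso ((cokernel.π ι).f p) := hSk.isIso_g_iff.2
        (GrothLib.StupidGE.isZero_trunc E (p + 1) (i := p) (by omega))
      exact modPC_of_iso (asIso ((cokernel.π ι).f p)) (hfl p)
    let c : cokernel ι ≅ (single Z.Modules (ComplexShape.up ℤ) p).obj ((cokernel ι).X p) :=
      { hom := HomologicalComplex.mkHomToSingle (𝟙 _) fun k hk => by
          simp only [ComplexShape.up_Rel] at hk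
          exact (hC k (by omega)).eq_of_src _ _
        inv := HomologicalComplex.mkHomFromSingle (𝟙 _) fun k hk => by
          simp only [ComplexShape.up_Rel] at hk
          exact (hC k (by omega)).eq_of_tgt _ _
        hom_inv_id := HomologicalComplex.hom_ext _ _ fun k => by
          by_cases hk : k = p
          · subst hk; simp
          · exact (hC k hk).eq_of_src _ _
        inv_hom_id := HomologicalComplex.from_single_hom_ext (by simp) }
    have h₃ : DCoh.IsPseudoCoherentD m (DerivedCategory.Q.obj (cokernel ι)) :=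
      isPseudoCoherentD_of_iso (single_shift_pc hCp p m) (DerivedCategory.Q.mapIso c.symm)
    exact (isPseudoCoherentD_triangle m (DerivedCategory.triangleOfSES_distinguished hS)).2.1 h₁ h₃

/-- Bounded above complexes with pseudo-coherent terms. -/
theorem isPseudoCoherentD_of_terms (E : CochainComplex Z.Modules ℤ) (b : ℤ) (hb : ∀ k, b < k → IsZero (E.X k))
    (hfl : ∀ k, ModPC (E.X k)) (m : ℤ) : DCoh.IsPseudoCoherentD m (DerivedCategory.Q.obj E) := by
  let a : ℤ := m - 1
  let T := GrothLib.StupidGE.trunc E a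
  let ι := GrothLib.StupidGE.ι E a
  have : Mono ι := HomologicalComplex.mono_of_mono_f ι fun k =>
    show Mono (equalizer.ι (GrothLib.StupidGE.sel E a k) 0) from inferInstance
  let S : ShortComplex (CochainComplex Z.Modules ℤ) := ShortComplex.mk ι (cokernel.π ι) (cokernel.condition ι)
  have hS : S.ShortExact := { exact := ShortComplex.exact_of_g_is_cokernel _ (cokernelIsCokernel ι) }
  have hC : ∀ k, a ≤ k → IsZero ((cokernel ι).X k) := fun k hk => by
    have hSk := hS.map_of_exact (HomologicalComplex.eval Z.Modules (ComplexShape.up ℤ) k)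
    have := GrothLib.StupidGE.isIso_ι_f E a (i := k) hk
    refine (IsZero.iff_id_eq_zero _).2 ?_
    have h0 : (cokernel.π ι).f k = 0 := by
      rw [← cancel_epi (ι.f k), comp_zero, ← HomologicalComplex.comp_f, cokernel.condition]; rfl
    have := hSk.epi_g
    exact (cancel_epi ((cokernel.π ι).f k)).1 ((congrArg (· ≫ 𝟙 _) h0).trans (by simp))
  have h₁ : DCoh.IsPseudoCoherentD m (DerivedCategory.Q.obj T) := by
    refine isPseudoCoherentD_of_bounded_terms m (b + 1 - a).toNat a T (fun k hk => ?_) fun k => ?_
    · rcases hk with hk | hk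
      · exact GrothLib.StupidGE.isZero_trunc E a hk
      · exact GrothLib.StupidGE.isZero_trunc_of_isZero E a (hb k (by omega))
    · rcases lt_or_ge k a with hk | hk
      · exact modPC_of_isZero (GrothLib.StupidGE.isZero_trunc E a hk)
      · have := GrothLib.StupidGE.isIso_ι_f E a hk
        exact modPC_of_iso (asIso (ι.f k)).symm (hfl k)
  have hle : (DerivedCategory.Q.obj (cokernel ι)).IsLE (m - 1) := (DerivedCategory.isLE_iff _ _).2 fun k hk =>
    ((exactAt_iff_isZero_homology _ k).1 (ExactAt.of_isZero (hC k (by omega)))).of_iso (hdIso (cokernel ι) k)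
  have h₃ : DCoh.IsPseudoCoherentD m (DerivedCategory.Q.obj (cokernel ι)) :=
    isPseudoCoherentD_iff.2 fun x => ⟨_, 𝟙 _, inferInstance, ⟨x, rfl⟩, (approx_of_isLE hle).restrict (𝟙 _)⟩
  exact (isPseudoCoherentD_triangle m (DerivedCategory.triangleOfSES_distinguished hS)).2.1 h₁ h₃

/-- Relative pseudo-coherence from the terms. -/
theorem isPseudoCoherentRel_of_terms {f : X ⟶ Y} [LocallyOfFiniteType f] {E : CochainComplex X.Modules ℤ} {b : ℤ}
    (hb : ∀ k, b < k → IsZero (E.X k))
    (h : ∀ (k m : ℤ), DerSch.IsPseudoCoherentRel f m (DCoh.toD X ((single X.Modules (ComplexShape.up ℤ) 0).obj (E.X k))))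
    (m : ℤ) : DerSch.IsPseudoCoherentRel f m (DCoh.toD X E) := by
  refine isPseudoCoherentRel_of_local fun x => ?_
  obtain ⟨U, V, hU, hV, hxU, -, hle⟩ := exists_affine_pair f (O := ⊤) (x := x) trivial
  obtain ⟨n, φ, hφ⟩ := exists_isChart f hU hV hle
  have := isClosedImmersion_immOf hU hφ.1
  refine ⟨U, V, hle, n, φ, hxU, hU, hV, hφ, (pcOn_iff_of_rep hU hφ.1 (Iso.refl _)).2 ?_⟩
  refine isPseudoCoherentD_of_terms _ b (fun k hk => (Scheme.Modules.pushforward (immOf U φ)).map_isZero
    ((Scheme.Modules.restrictFunctor U.ι).map_isZero (hb k hk))) (fun k r => ?_) m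
  have hk := (pcOn_iff_pushD hU hφ.1).1 (pcOn_of_isPseudoCoherentRel (h k r) hU hV hφ)
  obtain ⟨eS⟩ := nonempty_resD_single U.ι (E.X k)
  exact isPseudoCoherentD_of_iso hk ((pushD (immOf U φ)).mapIso eS ≪≫ pushDFac (immOf U φ) _ ≪≫
    DerivedCategory.Q.mapIso
      ((singleMapHomologicalComplex (Scheme.Modules.pushforward (immOf U φ)) (ComplexShape.up ℤ) 0).app _))

end GrothLib.KSix19
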