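import Groth.Agent.Lib.OX.TildeTensor
import Groth.Agent.Lib.OX.TildeBaseChange
import Groth.Agent.Lib.DCxKFlat.BaseChange

/-! # The sheaf of a tensor product of complexes -/

set_option autoImplicit false
set_option maxHeartbeats 800000
set_option backward.isDefEq.respectTransparency false
universe u

open CategoryTheory CategoryTheory.Limits MonoidalCategory AlgebraicGeometry Opposite

namespace GrothLib.KSix19

open GrothLib.OX

variable (R : CommRingCat.{u})

theorem tildeTensorHom_natural {M M' N N' : ModuleCat.{u} R} (a : M ⟶ M') (b : N ⟶ N') :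
    (tilde.functor R).map (a ⊗ₘ b) ≫ tildeTensorHom R M' N' =
      tildeTensorHom R M N ≫ DCoh.shP.map
        (DCoh.toP.map ((tilde.functor R).map a) ⊗ₘ DCoh.toP.map ((tilde.functor R).map b)) :=
  ((tilde.adjunction (R := R)).homEquiv_naturality_left_symm _ _).symm.trans
    ((congrArg _ (ModuleCat.MonoidalCategory.tensor_ext fun m n =>
      (congrArg₂ (tmulSec _ _ ⊤) (ConcreteCategory.congr_hom ((tilde.adjunction (R := R)).unit.naturality a) m)
        (ConcreteCategory.congr_hom ((tilde.adjunction (R := R)).unit.naturality b) n)).trans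
        (tmulSec_natural _ _ ⊤ (tsecTop R M m) (tsecTop R N n)).symm)).trans
      ((tilde.adjunction (R := R)).homEquiv_naturality_right_symm _ _))

theorem tildeTensorIso_natural₁ {M M' : ModuleCat.{u} R} (a : M ⟶ M') (N : ModuleCat.{u} R) :
    (tilde.functor R).map (((curriedTensor (ModuleCat.{u} R)).map a).app N) ≫ (tildeTensorIso R M' N).hom =
      (tildeTensorIso R M N).hom ≫
        ((DCoh.tensorBi (X := Spec R)).map ((tilde.functor R).map a)).app ((tilde.functor R).obj N) := by
  have h := tildeTensorHom_natural R a (𝟙 N)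
  rw [CategoryTheory.Functor.map_id, CategoryTheory.Functor.map_id, tensorHom_id, tensorHom_id] at h
  exact h

theorem tildeTensorIso_natural₂ (M : ModuleCat.{u} R) {N N' : ModuleCat.{u} R} (b : N ⟶ N') :
    (tilde.functor R).map (((curriedTensor (ModuleCat.{u} R)).obj M).map b) ≫ (tildeTensorIso R M N').hom =
      (tildeTensorIso R M N).hom ≫
        ((DCoh.tensorBi (X := Spec R)).obj ((tilde.functor R).obj M)).map ((tilde.functor R).map b) := by
  have h := tildeTensorHom_natural R (𝟙 M) b
  rw [CategoryTheory.Functor.map_id, CategoryTheory.Functor.map_id, id_tensorHom, id_tensorHom] at h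
  exact h

instance preservesCoproducts_tilde (J : Type) : PreservesColimitsOfShape (Discrete J) (tilde.functor R) :=
  (tilde.adjunction (R := R)).leftAdjoint_preservesColimits.preservesColimitsOfShape

/-- The bicomplexes. -/
noncomputable def bicxTildeTensorIso (K L : CochainComplex (ModuleCat.{u} R) ℤ) :
    TotalMap.mapBicx (tilde.functor R)
      ((((curriedTensor (ModuleCat.{u} R)).mapBifunctorHomologicalComplex (ComplexShape.up ℤ) (ComplexShape.up ℤ)).obj
        K).obj L) ≅
    (((DCoh.tensorBi (X := Spec R)).mapBifunctorHomologicalComplex (ComplexShape.up ℤ) (ComplexShape.up ℤ)).obj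
      (((tilde.functor R).mapHomologicalComplex (ComplexShape.up ℤ)).obj K)).obj
        (((tilde.functor R).mapHomologicalComplex (ComplexShape.up ℤ)).obj L) :=
  HomologicalComplex.Hom.isoOfComponents
    (fun i => HomologicalComplex.Hom.isoOfComponents (fun j => tildeTensorIso R (K.X i) (L.X j))
      (fun j j' _ => (tildeTensorIso_natural₂ R (K.X i) (L.d j j')).symm))
    (fun i i' _ => HomologicalComplex.hom_ext _ _ fun j => (tildeTensorIso_natural₁ R (K.d i i') (L.X j)).symm)

/-- Tilde commutes with the tensor product of complexes. -/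
noncomputable def tildeTensorCxIso (K L : CochainComplex (ModuleCat.{u} R) ℤ) :
    ((tilde.functor R).mapHomologicalComplex (ComplexShape.up ℤ)).obj (((KF.tensorCx (R := R)).obj K).obj L) ≅
      ((DCoh.tensorCx (X := Spec R)).obj (((tilde.functor R).mapHomologicalComplex (ComplexShape.up ℤ)).obj K)).obj
        (((tilde.functor R).mapHomologicalComplex (ComplexShape.up ℤ)).obj L) :=
  (TotalMap.totalMapIso (tilde.functor R) _).symm ≪≫
    HomologicalComplex₂.total.mapIso (bicxTildeTensorIso R K L) (ComplexShape.up ℤ)

end GrothLib.KSix19
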