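import Groth.Agent.Lib.KSix19.NPCRing
import Groth.Agent.Lib.KSix19.StalkAmp
import Groth.Agent.Lib.KSix19.AmpLocal
import Groth.Agent.Lib.DCxRing.Amplitude
import Groth.Agent.Lib.DCxRing.PerfectModule
import Groth.Agent.Lib.OX.FlatLocFree
import Groth.Agent.S6947
import Groth.Prelude.Def_KSix

/-! # Relative tor amplitude: composition, flatness -/

set_option autoImplicit false
set_option maxHeartbeats 800000
set_option backward.isDefEq.respectTransparency false
universe u

open CategoryTheory CategoryTheory.Limits AlgebraicGeometry HomologicalComplex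

attribute [local instance] HasDerivedCategory.standard

namespace GrothLib.KSix19

open GrothLib.OX

variable {X Y Z : Scheme.{u}}

theorem amp_of_iso {A : Type u} [CommRing A] {a b : ℤ} {K L : Dual.D A} (e : K ≅ L)
    (h : DRing.HasTorAmplitudeIn A a b K) : DRing.HasTorAmplitudeIn A a b L :=
  let ⟨E, h1, h2, ⟨q⟩⟩ := h
  ⟨E, h1, h2, ⟨q ≪≫ e⟩⟩

theorem amp_mono {A : Type u} [CommRing A] {a a' b b' : ℤ} {K : Dual.D A} (ha : a' ≤ a) (hb : b ≤ b')
    (h : DRing.HasTorAmplitudeIn A a b K) : DRing.HasTorAmplitudeIn A a' b' K :=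
  let ⟨E, h1, h2, q⟩ := h
  ⟨E, fun i hi => h1 i (by omega), h2, q⟩

/-- Restriction of scalars along a map of tor dimension `≤ d`. -/
theorem amp_restrict {A B : Type u} [CommRing A] [CommRing B] (φ : A →+* B) (d : ℕ)
    (hB : DRing.HasTorAmplitudeIn A (-(d : ℤ)) 0
      (Dual.inD A ((ModuleCat.restrictScalars.{u} φ).obj (ModuleCat.of B B))))
    {K : Dual.D B} {a b : ℤ} (hK : DRing.HasTorAmplitudeIn B a b K) :
    DRing.HasTorAmplitudeIn A (a - d) b ((DRing.restrictD φ).obj K) := by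
  letI : Algebra A B := φ.toAlgebra
  let ℓ : (ModuleCat.restrictScalars.{u} φ).obj (ModuleCat.of B B) ≃ₗ[A] B :=
    { toFun := fun x => x
      map_add' := fun _ _ => rfl
      map_smul' := fun _ _ => rfl
      invFun := fun x => x
      left_inv := fun _ => rfl
      right_inv := fun _ => rfl }
  exact Groth.Agent.S6947.result d
    (amp_of_iso ((DerivedCategory.singleFunctor (ModuleCat.{u} A) 0).mapIso ℓ.toModuleIso) hB) K a b hK

/-- The complex of stalks over the base is a restriction of scalars. -/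
theorem nonempty_stalkCxOver (f : X ⟶ Y) (x : X) (F : CochainComplex X.Modules ℤ) :
    Nonempty (DRing.toD ((DerSch.stalkCxOver f x).obj F) ≅
      (DRing.restrictD (f.stalkMap x).hom).obj (DRing.toD ((stalkCx x).obj F))) :=
  ⟨DerivedCategory.Q.mapIso ((NatIso.mapHomologicalComplex
      (Functor.isoWhiskerRight (stalkFunctorIso x) (ModuleCat.restrictScalars (f.stalkMap x).hom))
      (ComplexShape.up ℤ)).app F) ≪≫
    ((ModuleCat.restrictScalars (f.stalkMap x).hom).mapDerivedCategoryFactors.app ((stalkCx x).obj F)).symm⟩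

theorem nonempty_stalkCxOver_comp (f : X ⟶ Y) (g : Y ⟶ Z) (x : X) (F : CochainComplex X.Modules ℤ) :
    Nonempty (DRing.toD ((DerSch.stalkCxOver (f ≫ g) x).obj F) ≅
      (DRing.restrictD (g.stalkMap (f x)).hom).obj (DRing.toD ((DerSch.stalkCxOver f x).obj F))) := by
  have hc : ((f ≫ g).stalkMap x).hom = (f.stalkMap x).hom.comp (g.stalkMap (f x)).hom := by
    rw [Scheme.Hom.stalkMap_comp]; rfl
  let e : DerSch.stalkOver (f ≫ g) x ≅
      DerSch.stalkOver f x ⋙ ModuleCat.restrictScalars (g.stalkMap (f x)).hom :=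
    Functor.isoWhiskerLeft (DerSch.stalkFunctor X x)
      (ModuleCat.restrictScalarsComp' (g.stalkMap (f x)).hom (f.stalkMap x).hom _ hc) ≪≫
      (Functor.associator _ _ _).symm
  exact ⟨DerivedCategory.Q.mapIso ((NatIso.mapHomologicalComplex e (ComplexShape.up ℤ)).app F) ≪≫
    ((ModuleCat.restrictScalars (g.stalkMap (f x)).hom).mapDerivedCategoryFactors.app
      ((DerSch.stalkCxOver f x).obj F)).symm⟩

theorem nonempty_stalkCxOver_single (f : X ⟶ Y) (x : X) (M : X.Modules) :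
    Nonempty (DRing.toD ((DerSch.stalkCxOver f x).obj ((single X.Modules (ComplexShape.up ℤ) 0).obj M)) ≅
      Dual.inD (Y.presheaf.stalk (f x)) ((DerSch.stalkOver f x).obj M)) :=
  ⟨DerivedCategory.Q.mapIso ((singleMapHomologicalComplex (DerSch.stalkOver f x) (ComplexShape.up ℤ) 0).app M) ≪≫
    ((DerivedCategory.singleFunctorIsoCompQ (ModuleCat.{u} (Y.presheaf.stalk (f x))) 0).app _).symm⟩

/-- The stalk of the structure module over the base. -/
theorem nonempty_stalkOver_unit (f : X ⟶ Y) (x : X) :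
    Nonempty ((DerSch.stalkOver f x).obj (Coh.structureModule X) ≅
      (ModuleCat.restrictScalars.{u} (f.stalkMap x).hom).obj
        (ModuleCat.of (X.presheaf.stalk x) (X.presheaf.stalk x))) := by
  obtain ⟨e⟩ := AssPts.exists_stalk_unit_equiv x
  exact ⟨(ModuleCat.restrictScalars (f.stalkMap x).hom).mapIso e.symm.toModuleIso⟩

/-- Tor dimension of a morphism at a point, in ring terms. -/
theorem hasTorAmplitudeAt_unit_iff (f : X ⟶ Y) (x : X) (a b : ℤ) :
    DerSch.HasTorAmplitudeAt f a b (DerSch.unitCx X) x ↔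
      DRing.HasTorAmplitudeIn (Y.presheaf.stalk (f x)) a b (Dual.inD (Y.presheaf.stalk (f x))
        ((ModuleCat.restrictScalars.{u} (f.stalkMap x).hom).obj
          (ModuleCat.of (X.presheaf.stalk x) (X.presheaf.stalk x)))) := by
  obtain ⟨e₁⟩ := nonempty_stalkCxOver_single f x (Coh.structureModule X)
  obtain ⟨e₂⟩ := nonempty_stalkOver_unit f x
  let e := e₁ ≪≫ (DerivedCategory.singleFunctor (ModuleCat.{u} (Y.presheaf.stalk (f x))) 0).mapIso e₂
  exact ⟨fun h => amp_of_iso e h, fun h => amp_of_iso e.symm h⟩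

/-- Composition adds tor dimensions. -/
theorem hasTorAmplitudeAt_comp (f : X ⟶ Y) (g : Y ⟶ Z) (x : X) (n : ℕ)
    (hg : DerSch.HasTorAmplitudeAt g (-(n : ℤ)) 0 (DerSch.unitCx Y) (f x)) {F : CochainComplex X.Modules ℤ}
    {a b : ℤ} (hF : DerSch.HasTorAmplitudeAt f a b F x) : DerSch.HasTorAmplitudeAt (f ≫ g) (a - n) b F x := by
  obtain ⟨e⟩ := nonempty_stalkCxOver_comp f g x F
  exact amp_of_iso e.symm (amp_restrict (g.stalkMap (f x)).hom n ((hasTorAmplitudeAt_unit_iff g (f x) _ _).1 hg) hF)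

/-- Flatness at a point is tor amplitude `[0, 0]`. -/
theorem hasTorAmplitudeAt_single_iff (f : X ⟶ Y) (x : X) (M : X.Modules) :
    DerSch.HasTorAmplitudeAt f 0 0 ((single X.Modules (ComplexShape.up ℤ) 0).obj M) x ↔
      FlatMod.IsFlatOverAt f M x := by
  obtain ⟨e⟩ := nonempty_stalkCxOver_single f x M
  constructor
  · intro h
    have := DR.flat_of_hasTorAmplitudeIn (amp_of_iso e h)
    exact this
  · intro h
    have : Module.Flat (Y.presheaf.stalk (f x)) ((DerSch.stalkOver f x).obj M) := h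
    exact amp_of_iso e.symm (DR.hasTorAmplitudeIn_flat _)

/-- Bounded complexes of modules flat over the base. -/
theorem hasTorAmplitude_of_flat_terms (f : X ⟶ Y) {E : CochainComplex X.Modules ℤ} {a b : ℤ}
    (hE : DCoh.VanishesOutside E a b) (hfl : ∀ i, FlatMod.IsFlatOver f (E.X i)) :
    DerSch.HasTorAmplitude f a b E := fun x =>
  ⟨(DerSch.stalkCxOver f x).obj E, fun i hi => (DerSch.stalkOver f x).map_isZero (hE i hi), fun i => hfl i x,
    ⟨Iso.refl _⟩⟩

theorem flat_restrict_iff {A B : Type u} [CommRing A] [CommRing B] (φ : A →+* B) :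
    Module.Flat A ((ModuleCat.restrictScalars.{u} φ).obj (ModuleCat.of B B)) ↔ φ.Flat := by
  letI : Algebra A B := φ.toAlgebra
  let ℓ : (ModuleCat.restrictScalars.{u} φ).obj (ModuleCat.of B B) ≃ₗ[A] B :=
    { toFun := fun x => x
      map_add' := fun _ _ => rfl
      map_smul' := fun _ _ => rfl
      invFun := fun x => x
      left_inv := fun _ => rfl
      right_inv := fun _ => rfl }
  exact ⟨fun _ => (Module.Flat.of_linearEquiv ℓ.symm : Module.Flat A B),
    fun h => by have : Module.Flat A B := h; exact Module.Flat.of_linearEquiv ℓ⟩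

/-- Flat morphisms have tor dimension zero. -/
theorem hasTorAmplitudeAt_of_flat (f : X ⟶ Y) [Flat f] (x : X) :
    DerSch.HasTorAmplitudeAt f 0 0 (DerSch.unitCx X) x := by
  refine (hasTorAmplitudeAt_unit_iff f x 0 0).2 ?_
  have := (flat_restrict_iff (f.stalkMap x).hom).2 (Flat.stalkMap f x)
  exact DR.hasTorAmplitudeIn_flat _

theorem flat_of_hasTorAmplitude_unit (f : X ⟶ Y) (h : DerSch.HasTorAmplitude f 0 0 (DerSch.unitCx X)) : Flat f :=
  Flat.of_stalkMap f fun x => (flat_restrict_iff _).1 (DR.flat_of_hasTorAmplitudeIn ((hasTorAmplitudeAt_unit_iff f x 0 0).1 (h x)))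

/-- Perfect dimension zero. -/
theorem hasPerfDimLE_zero_iff (f : X ⟶ Y) [LocallyOfFiniteType f] :
    DerSch.HasPerfDimLE f 0 ↔ (Flat f ∧ LocallyOfFinitePresentation f) := by
  refine ⟨fun h => ⟨flat_of_hasTorAmplitude_unit f (by simpa using h.2),
    (isNPseudoCoherent_negOne_iff f).1 (h.1 (-1))⟩, fun ⟨hf, hfp⟩ => ⟨fun m => isNPseudoCoherent_of_flat f m,
    fun x => by simpa using hasTorAmplitudeAt_of_flat f x⟩⟩

/-- Relative pseudo-coherence is stable under composition with a pseudo-coherent morphism. -/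
theorem isPseudoCoherentRel_comp (f : X ⟶ Y) (g : Y ⟶ Z) [LocallyOfFiniteType f] [LocallyOfFiniteType g]
    (hg : ∀ k, DerSch.IsNPseudoCoherent g k) {m : ℤ} {E : DCoh.D X} :
    DerSch.IsPseudoCoherentRel (f ≫ g) m E ↔ DerSch.IsPseudoCoherentRel f m E := by
  have key : ∀ x : X, ∃ (U : X.Opens) (V : Y.Opens) (S : Z.Opens) (hle : U ≤ f ⁻¹ᵁ V) (hle'' : U ≤ (f ≫ g) ⁻¹ᵁ S)
      (n n' : ℕ) (φ : MvPolynomial (Fin n) Γ(Y, V) →+* Γ(X, U)) (γ : MvPolynomial (Fin n') Γ(Z, S) →+* Γ(X, U)),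
      x ∈ U ∧ IsAffineOpen U ∧ IsAffineOpen V ∧ IsAffineOpen S ∧ DerSch.IsChart f U V hle φ ∧
        DerSch.IsChart (f ≫ g) U S hle'' γ ∧ (PCOn m E U γ ↔ PCOn m E U φ) := by
    intro x
    obtain ⟨V, S, hV, hS, hxV, -, hle'⟩ := exists_affine_pair g (O := ⊤) (x := f x) trivial
    obtain ⟨U, hU, hxU, hle⟩ := exists_isAffineOpen_mem_and_subset (x := x) (U := f ⁻¹ᵁ V) hxV
    obtain ⟨n, φ, hφ⟩ := exists_isChart f hU hV hle
    obtain ⟨k, ψ, hψ⟩ := exists_isChart g hV hS hle'
    have hle'' : U ≤ (f ≫ g) ⁻¹ᵁ S := fun y hy => hle' (hle hy)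
    let e := (polyEquiv Γ(Z, S) n k).toRingEquiv
    let χ : MvPolynomial (Fin (n + k)) Γ(Z, S) →+* MvPolynomial (Fin n) Γ(Y, V) :=
      (MvPolynomial.map ψ).comp (e : MvPolynomial (Fin (n + k)) Γ(Z, S) →+* _)
    have hs : Function.Surjective χ := (MvPolynomial.map_surjective _ hψ.1).comp e.surjective
    have hχ : DR.RingPseudoCoherent χ := (ringPC_iff_forall χ).2 fun r =>
      ringPCm_comp_equiv (ringPCm_map (ringPCm_chart (hg r) hV hS hψ) _) e
    have hγ : DerSch.IsChart (f ≫ g) U S hle'' (φ.comp χ) := by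
      refine ⟨hφ.1.comp hs, RingHom.ext fun a => ?_⟩
      have h1 : e (MvPolynomial.C a) = MvPolynomial.C (MvPolynomial.C a) := by simp [e, polyEquiv]
      have h2 : χ (MvPolynomial.C a) = MvPolynomial.C (g.appLE S V hle' a) := by
        change MvPolynomial.map ψ (e (MvPolynomial.C a)) = _
        rw [h1, MvPolynomial.map_C]
        exact congrArg MvPolynomial.C (DFunLike.congr_fun hψ.2 a)
      rw [RingHom.comp_apply, RingHom.comp_apply, h2, ← Scheme.Hom.appLE_comp_appLE f g S V U hle' hle]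
      exact DFunLike.congr_fun hφ.2 _
    exact ⟨U, V, S, hle, hle'', n, _, φ, φ.comp χ, hxU, hU, hV, hS, hφ, hγ, pcOn_comp_iff hU hφ.1 hs hχ rfl⟩
  refine ⟨fun h => isPseudoCoherentRel_of_local fun x => ?_, fun h => isPseudoCoherentRel_of_local fun x => ?_⟩
  · obtain ⟨U, V, S, hle, hle'', n, n', φ, γ, hx, hU, hV, hS, hφ, hγ, hiff⟩ := key x
    exact ⟨U, V, hle, n, φ, hx, hU, hV, hφ, hiff.1 (pcOn_of_isPseudoCoherentRel h hU hS hγ)⟩
  · obtain ⟨U, V, S, hle, hle'', n, n', φ, γ, hx, hU, hV, hS, hφ, hγ, hiff⟩ := key x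
    exact ⟨U, S, hle'', n', γ, hx, hU, hS, hγ, hiff.2 (pcOn_of_isPseudoCoherentRel h hU hV hφ)⟩

/-- Relative perfect amplitude under composition. -/
theorem hasPerfAmplitudeRel_comp (f : X ⟶ Y) (g : Y ⟶ Z) [LocallyOfFiniteType f] [LocallyOfFiniteType g] (n : ℕ)
    (hg : DerSch.HasPerfDimLE g n) {a b : ℤ} {F : CochainComplex X.Modules ℤ}
    (hF : DerSch.HasPerfAmplitudeRel f a b F) : DerSch.HasPerfAmplitudeRel (f ≫ g) (a - n) b F :=
  ⟨fun m => (isPseudoCoherentRel_comp f g hg.1).2 (hF.1 m),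
    fun x => hasTorAmplitudeAt_comp f g x n (hg.2 (f x)) (hF.2 x)⟩

section Closed

variable (i : X ⟶ Y) [IsClosedImmersion i] (g : Y ⟶ Z) [Flat g]

/-- The stalks of a direct image along a closed immersion. -/
theorem nonempty_stalkCx_push (x : X) (F : CochainComplex X.Modules ℤ) :
    Nonempty (DRing.toD ((stalkCx (i x)).obj ((DerSch.pushCx i).obj F)) ≅
      DRing.toD ((DerSch.stalkCxOver i x).obj F)) :=
  ⟨DerivedCategory.Q.mapIso (HomologicalComplex.Hom.isoOfComponents
    (fun p => ((pushStalkIso i x).app (F.X p)) ≪≫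
      (ModuleCat.restrictScalars (i.stalkMap x).hom).mapIso ((stalkFunctorIso x).app (F.X p)).symm)
    fun p q _ => (((pushStalkIso i x).trans (Functor.isoWhiskerRight (stalkFunctorIso x).symm
      (ModuleCat.restrictScalars (i.stalkMap x).hom))).hom.naturality (F.d p q)).symm)⟩

/-- Tor amplitude of a direct image bounds the relative one. -/
theorem hasTorAmplitude_of_push {F : CochainComplex X.Modules ℤ} {a b : ℤ}
    (hF : ∀ x : X, DRing.HasTorAmplitudeIn (Y.presheaf.stalk (i x)) a b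
      (DRing.toD ((stalkCx (i x)).obj ((DerSch.pushCx i).obj F)))) : DerSch.HasTorAmplitude (i ≫ g) a b F := by
  intro x
  obtain ⟨e⟩ := nonempty_stalkCx_push i x F
  have h := hasTorAmplitudeAt_comp i g x 0 (by simpa using hasTorAmplitudeAt_of_flat g (i x)) (amp_of_iso e (hF x))
  simpa using h

theorem hasTorAmplitude_of_flatAmplitude {F : CochainComplex X.Modules ℤ} {a b : ℤ}
    (hF : DCoh.HasFlatAmplitudeIn a b (DCoh.toD Y ((DerSch.pushCx i).obj F))) :
    DerSch.HasTorAmplitude (i ≫ g) a b F :=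
  hasTorAmplitude_of_push i g fun x => (hasTorAmplitudeAt_id_iff (i x) a b _).1 (stalks_of_flatAmplitude hF (i x))

end Closed

/-- An object vanishing locally vanishes. -/
theorem isZero_of_locally {K : DCoh.D X}
    (h : ∀ x : X, ∃ (U : Scheme.{u}) (j : U ⟶ X) (_ : IsOpenImmersion j), x ∈ Set.range j ∧
      IsZero ((resD j).obj K)) : IsZero K := by
  obtain ⟨O, hO⟩ : ∃ O : DCoh.D X, IsZero O := HasZeroObject.zero
  have : IsIso (0 : O ⟶ K) := (DerivedCategory.isIso_iff _ _).2 fun q =>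
    ⟨0, ((DerivedCategory.homologyFunctor _ q).map_isZero hO).eq_of_src _ _,
      (isZero_of_local fun x => by
        obtain ⟨U, j, hj, hx, hz⟩ := h x
        exact ⟨U, j, hj, hx, ((DerivedCategory.homologyFunctor U.Modules q).map_isZero hz).of_iso
          (HDResIso j K q).symm⟩).eq_of_src _ _⟩
  exact hO.of_iso (asIso (0 : O ⟶ K)).symm

/-- Perfect amplitude gives flat amplitude. -/
theorem flatAmplitude_of_perfectAmplitude {K : DCoh.D X} {a b : ℤ} (h : KSix.HasPerfectAmplitudeIn a b K) :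
    DCoh.HasFlatAmplitudeIn a b K := by
  have h' := hasPerfectAmplitudeIn_iff.1 h
  rcases le_or_gt a b with hab | hab
  · refine flatAmplitude_of_locally hab fun x => ?_
    obtain ⟨U, j, hj, hx, E, hE, hfl, ⟨q⟩⟩ := h' x
    exact ⟨U, j, hj, hx, E, hE, fun i => flat_of_isFinLocFree (hfl i), ⟨q⟩⟩
  · have hK : IsZero K := isZero_of_locally fun x => by
      obtain ⟨U, j, hj, hx, E, hE, hfl, ⟨q⟩⟩ := h' x
      have hE0 : IsZero E :=
        (IsZero.iff_id_eq_zero _).2 (HomologicalComplex.hom_ext _ _ fun i => (hE i (by omega)).eq_of_src _ _)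
      exact ⟨U, j, hj, hx, (DerivedCategory.Q.map_isZero hE0).of_iso q.symm⟩
    obtain ⟨O, hO⟩ : ∃ O : CochainComplex X.Modules ℤ, IsZero O := HasZeroObject.zero
    exact ⟨O, fun i _ => (HomologicalComplex.eval _ _ i).map_isZero hO,
      fun i => flat_of_isZero ((HomologicalComplex.eval _ _ i).map_isZero hO),
      ⟨(DerivedCategory.Q.map_isZero hO).iso hK⟩⟩

/-- Perfect amplitude gives perfectness. -/
theorem isPerfect_of_perfectAmplitude {K : DCoh.D X} {a b : ℤ} (h : KSix.HasPerfectAmplitudeIn a b K) :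
    DCoh.IsPerfect K :=
  isPerfect_iff.2 fun x => by
    obtain ⟨U, j, hj, hx, E, hE, hfl, hq⟩ := hasPerfectAmplitudeIn_iff.1 h x
    exact ⟨U, j, hj, hx, E, ⟨⟨a, b, hE⟩, hfl⟩, hq⟩

end GrothLib.KSix19
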