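import Groth.Agent.Lib.KSix19.TorDimAffine
import Groth.Agent.Lib.KSix19.FlatBaseChange2
import Groth.Agent.S7001

/-! # Tor dimension of base changes -/

set_option autoImplicit false
set_option maxHeartbeats 800000
set_option backward.isDefEq.respectTransparency false
set_option linter.style.haveILetI false
universe u

open CategoryTheory CategoryTheory.Limits AlgebraicGeometry HomologicalComplex Opposite TopologicalSpace
open scoped TensorProduct

attribute [local instance] HasDerivedCategory.standard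

namespace GrothLib.KSix19

/-- A flat resolution of a module flat over the base stays one after base change. -/
theorem nonempty_bc_resolution {R R' P P' : Type u} [CommRing R] [CommRing R'] [CommRing P] [CommRing P']
    [Algebra R R'] [Algebra R P] [Algebra R P'] [Algebra R' P'] [Algebra P P'] [IsScalarTower R P P']
    [IsScalarTower R R' P'] [Algebra.IsPushout R R' P P'] [Module.Flat R P]
    (M : Type u) [AddCommGroup M] [Module R M] [Module P M] [IsScalarTower R P M] [Module.Flat R M]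
    {E : DRing.Cx P} {b : ℤ} (hb : DRing.VanishesAbove E b) (hE : DRing.TermwiseFlat E)
    (e : DRing.toD E ≅ Dual.inD P M) :
    Nonempty (DRing.toD ((DR.bc (algebraMap P P')).obj E) ≅ Dual.inD P' (P' ⊗[P] M)) := by
  let S₀ := (HomologicalComplex.single (ModuleCat.{u} P) (ComplexShape.up ℤ) 0).obj (ModuleCat.of P M)
  obtain ⟨e₀⟩ := nonempty_inD_iso (ModuleCat.of P M)
  obtain ⟨F, hF, hFp, ⟨eF⟩⟩ := DR.exists_projective_rep (DRing.toD S₀) 0 fun i hi =>
    (DR.exactAt_iff S₀ i).1
      (ShortComplex.exact_of_isZero_X₂ _ (isZero_single_obj_X (ComplexShape.up ℤ) 0 _ i (by omega)))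
  haveI := DR.isKProjective F 0 hF hFp
  obtain ⟨f, hf'⟩ := DR.exists_lift F eF.hom
  obtain ⟨f₂, hf₂⟩ := DR.exists_lift F (eF ≪≫ e₀.symm ≪≫ e.symm).hom
  have hiso : IsIso (DerivedCategory.Q.map f) := by rw [hf']; infer_instance
  have hiso₂ : IsIso (DerivedCategory.Q.map f₂) := by rw [hf₂]; infer_instance
  have hFf : DRing.TermwiseFlat F := DR.termwiseFlat_of_projective hFp
  haveI := DR.isIso_bc_map (algebraMap P P') f₂ hF hFf hb hE hiso₂
  let a := algebraMap R P
  let Res := ModuleCat.restrictScalars.{u} a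
  have hflat : ∀ i, Module.Flat R (Res.obj (F.X i)) := fun i => by
    haveI := hFf i
    letI : Module R (F.X i) := Module.compHom (F.X i) a
    haveI : IsScalarTower R P (F.X i) := .of_algebraMap_smul fun _ _ => rfl
    haveI : Module.Flat R (F.X i) := Module.Flat.trans R P (F.X i)
    exact ‹Module.Flat R (F.X i)›
  have hflat' : ∀ i, Module.Flat R (Res.obj (S₀.X i)) := fun i => by
    by_cases hi : i = 0
    · subst hi
      let ℓ : M ≃ₗ[R] Res.obj (ModuleCat.of P M) :=
        { toFun := fun x => x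
          map_add' := fun _ _ => rfl
          map_smul' := fun r (x : M) => (IsScalarTower.algebraMap_smul P r x).symm
          invFun := fun x => x
          left_inv := fun _ => rfl
          right_inv := fun _ => rfl }
      exact Module.Flat.of_linearEquiv
        ((Res.mapIso (singleObjXSelf (ComplexShape.up ℤ) 0 (ModuleCat.of P M))).toLinearEquiv.trans ℓ.symm)
    · haveI := ModuleCat.subsingleton_of_isZero
        (Res.map_isZero (isZero_single_obj_X (ComplexShape.up ℤ) 0 (ModuleCat.of P M) i hi))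
      infer_instance
  have hCb : DRing.VanishesAbove (CochainComplex.mappingCone f) 0 := fun j hj =>
    DR.isZero_cone_X f (hF (j + 1) (by omega)) (isZero_single_obj_X _ _ _ _ (by omega))
  have hfl : DRing.TermwiseFlat ((DRing.restrictCx a).obj (CochainComplex.mappingCone f)) := fun j => by
    have := DR.flat_cone ((DRing.restrictCx a).map f) hflat hflat' j
    haveI : Module.Flat R ((CochainComplex.mappingCone ((DRing.restrictCx a).map f)).X j) := this
    exact Module.Flat.of_linearEquiv (M := (CochainComplex.mappingCone ((DRing.restrictCx a).map f)).X j)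
      (HomologicalComplex.Hom.isoApp (CochainComplex.mappingCone.mapHomologicalComplexIso f Res) j).toLinearEquiv
  let G := ModuleCat.extendScalars.{u, u, u} (algebraMap P P')
  haveI : QuasiIso ((DR.bc (algebraMap P P')).map f) :=
    (DerCat.quasiIso_iff_acyclic_mappingCone _).2 fun i =>
      (exactAt_bc_of_flat_base (R := R) (R' := R') hCb
        (fun k => DR.exactAt_cone_of_quasiIso f hiso k) hfl i).of_iso
        (CochainComplex.mappingCone.mapHomologicalComplexIso f G)
  obtain ⟨e₁⟩ := DR.nonempty_map_inD G M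
  obtain ⟨e₂⟩ := DR.nonempty_extendScalars_iso (A := P) (B := P') M
  exact ⟨(asIso (DerivedCategory.Q.map ((DR.bc (algebraMap P P')).map f₂))).symm ≪≫
    @asIso _ _ _ _ (DerivedCategory.Q.map ((DR.bc (algebraMap P P')).map f))
      ((DerivedCategory.isIso_Q_map_iff_quasiIso _ _).2 inferInstance) ≪≫ e₁ ≪≫
      (DerivedCategory.singleFunctor (ModuleCat.{u} P') 0).mapIso e₂.symm⟩

section Ring

variable {A A' B B' : Type u} [CommRing A] [CommRing A'] [CommRing B] [CommRing B']
  (a : A →+* A') (b : A →+* B) (g : B →+* B') (b' : A' →+* B')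

/-- The module of a pushout. -/
theorem exists_pushout_equiv [Algebra A A'] [Algebra A B] [Algebra A B'] [Algebra A' B'] [Algebra B B']
    [IsScalarTower A A' B'] [IsScalarTower A B B'] [Algebra.IsPushout A A' B B'] :
    Nonempty (Dual.inD A' (A' ⊗[A] B) ≅ Dual.inD A'
      ((ModuleCat.restrictScalars.{u} (algebraMap A' B')).obj (ModuleCat.of B' B'))) ∧
      Nonempty (Dual.inD A ((ModuleCat.restrictScalars.{u} (algebraMap A B)).obj (ModuleCat.of B B)) ≅
        Dual.inD A B) := by
  let ℓ' : B' ≃ₗ[A'] (ModuleCat.restrictScalars.{u} (algebraMap A' B')).obj (ModuleCat.of B' B') :=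
    { toFun := fun x => x
      map_add' := fun _ _ => rfl
      map_smul' := fun a x => Algebra.smul_def a x
      invFun := fun x => x
      left_inv := fun _ => rfl
      right_inv := fun _ => rfl }
  let ℓ : B ≃ₗ[A] (ModuleCat.restrictScalars.{u} (algebraMap A B)).obj (ModuleCat.of B B) :=
    { toFun := fun x => x
      map_add' := fun _ _ => rfl
      map_smul' := fun a x => Algebra.smul_def a x
      invFun := fun x => x
      left_inv := fun _ => rfl
      right_inv := fun _ => rfl }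
  exact ⟨⟨(DerivedCategory.singleFunctor (ModuleCat.{u} A') 0).mapIso
      ((Algebra.IsPushout.equiv A A' B B').toLinearEquiv.trans ℓ').toModuleIso⟩,
    ⟨(DerivedCategory.singleFunctor (ModuleCat.{u} A) 0).mapIso ℓ.symm.toModuleIso⟩⟩

/-- Flat base change. -/
theorem ampM_baseChange_flat
    (H : IsPushout (CommRingCat.ofHom b) (CommRingCat.ofHom a) (CommRingCat.ofHom g) (CommRingCat.ofHom b'))
    (ha : a.Flat) (n : ℕ) (h : AmpM b (-(n : ℤ)) 0 (ModuleCat.of B B)) :
    AmpM b' (-(n : ℤ)) 0 (ModuleCat.of B' B') := by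
  letI := a.toAlgebra
  letI := b.toAlgebra
  letI := g.toAlgebra
  letI := b'.toAlgebra
  letI : Algebra A B' := (g.comp b).toAlgebra
  have hsq : g.comp b = b'.comp a := congrArg CommRingCat.Hom.hom H.w
  haveI : IsScalarTower A B B' := .of_algebraMap_eq' rfl
  haveI : IsScalarTower A A' B' := .of_algebraMap_eq' hsq
  haveI : Algebra.IsPushout A B A' B' := CommRingCat.isPushout_iff_isPushout.1 H
  haveI : Algebra.IsPushout A A' B B' := .symm inferInstance
  haveI : Module.Flat A A' := ha
  obtain ⟨⟨e'⟩, ⟨e⟩⟩ := exists_pushout_equiv (A := A) (A' := A') (B := B) (B' := B')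
  exact amp_of_iso e' (Groth.Agent.S7001.result n B (amp_of_iso e h))

/-- Base change, both sides flat over the base ring. -/
theorem ampM_baseChange_flat_base {R R' : Type u} [CommRing R] [CommRing R'] (ρ : R →+* R') (α : R →+* A)
    (α' : R' →+* A')
    (H₀ : IsPushout (CommRingCat.ofHom ρ) (CommRingCat.ofHom α) (CommRingCat.ofHom α') (CommRingCat.ofHom a))
    (H : IsPushout (CommRingCat.ofHom b) (CommRingCat.ofHom a) (CommRingCat.ofHom g) (CommRingCat.ofHom b'))
    (hα : α.Flat) (hb : (b.comp α).Flat) (n : ℕ) (h : AmpM b (-(n : ℤ)) 0 (ModuleCat.of B B)) :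
    AmpM b' (-(n : ℤ)) 0 (ModuleCat.of B' B') := by
  letI := a.toAlgebra
  letI := b.toAlgebra
  letI := g.toAlgebra
  letI := b'.toAlgebra
  letI : Algebra A B' := (g.comp b).toAlgebra
  letI := ρ.toAlgebra
  letI := α.toAlgebra
  letI := α'.toAlgebra
  letI : Algebra R A' := (a.comp α).toAlgebra
  letI : Algebra R B := (b.comp α).toAlgebra
  have hsq₀ : α'.comp ρ = a.comp α := congrArg CommRingCat.Hom.hom H₀.w
  have hsq : g.comp b = b'.comp a := congrArg CommRingCat.Hom.hom H.w
  haveI : IsScalarTower R A A' := .of_algebraMap_eq' rfl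
  haveI : IsScalarTower R R' A' := .of_algebraMap_eq' hsq₀.symm
  haveI : IsScalarTower R A B := .of_algebraMap_eq' rfl
  haveI : IsScalarTower A B B' := .of_algebraMap_eq' rfl
  haveI : IsScalarTower A A' B' := .of_algebraMap_eq' hsq
  haveI : Algebra.IsPushout A B A' B' := CommRingCat.isPushout_iff_isPushout.1 H
  haveI : Algebra.IsPushout A A' B B' := .symm inferInstance
  haveI : Algebra.IsPushout R R' A A' := CommRingCat.isPushout_iff_isPushout.1 H₀
  haveI : Module.Flat R A := hα
  haveI : Module.Flat R B := hb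
  obtain ⟨⟨e'⟩, ⟨e⟩⟩ := exists_pushout_equiv (A := A) (A' := A') (B := B) (B' := B')
  obtain ⟨E, hv, hf, ⟨q⟩⟩ := h
  obtain ⟨q'⟩ := nonempty_bc_resolution (R := R) (R' := R') (P := A) (P' := A') B (E := E) (b := 0)
    (fun i hi => hv i (Or.inr hi)) hf (q ≪≫ e)
  exact ⟨(DR.bc (algebraMap A A')).obj E, DR.vanishesOutside_map _ hv, DR.termwiseFlat_bc _ hf, ⟨q' ≪≫ e'⟩⟩

end Ring

variable {X Y S X' Y' S' : Scheme.{u}}

/-- Flat base change of tor dimension. -/
theorem hasTorDimLE_flat_baseChange {f : X ⟶ Y} {h : Y' ⟶ Y} {g : X' ⟶ X} {f' : X' ⟶ Y'}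
    (H : IsPullback g f' f h) [Flat h] {n : ℕ} (hf : DerSch.HasTorDimLE f n) : DerSch.HasTorDimLE f' n := by
  intro x
  obtain ⟨V, hV, hxV, -⟩ := exists_isAffineOpen_mem_and_subset (x := f (g x)) (U := ⊤) trivial
  obtain ⟨U, hU, hxU, hUV⟩ := exists_isAffineOpen_mem_and_subset (x := g x) (U := f ⁻¹ᵁ V) hxV
  have hx : h (f' x) ∈ V := by
    rw [← Scheme.Hom.comp_apply, ← H.w, Scheme.Hom.comp_apply]
    exact hxV
  obtain ⟨V', hV', hxV', hV'V⟩ := exists_isAffineOpen_mem_and_subset (x := f' x) (U := h ⁻¹ᵁ V) hx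
  haveI : IsAffine U.toScheme := hU
  haveI : IsAffine V.toScheme := hV
  haveI : IsAffine V'.toScheme := hV'
  let U' : X'.Opens := g ⁻¹ᵁ U ⊓ f' ⁻¹ᵁ V'
  have hU' : IsAffineOpen U' := .of_isIso (Scheme.Hom.isPullback_resLE H hV'V hUV rfl).isoPullback.hom
  have hpo := (isIso_pushoutSection_iff H hV'V hUV rfl).1
    (isIso_pushoutSection_of_isAffineOpen H hV'V hUV rfl hV hV' hU)
  exact hasTorAmplitudeAt_of_ampM f' hV' hU' inf_le_right
    (ampM_baseChange_flat (h.appLE V V' hV'V).hom (f.appLE V U hUV).hom (g.appLE U U' inf_le_left).hom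
      (f'.appLE V' U' inf_le_right).hom hpo (Flat.flat_appLE h hV hV' hV'V) n
      (ampM_of_stalks f hV hU hUV fun z _ => hf z)) ⟨hxU, hxV'⟩

/-- Base change of tor dimension between schemes flat over the base. -/
theorem hasTorDimLE_baseChange_flat_base {f : X ⟶ Y} {q : Y ⟶ S} {p : S' ⟶ S} {h : Y' ⟶ Y} {q' : Y' ⟶ S'}
    {g : X' ⟶ X} {f' : X' ⟶ Y'} (HY : IsPullback h q' q p) (H : IsPullback g f' f h) [Flat q] [Flat (f ≫ q)]
    {n : ℕ} (hf : DerSch.HasTorDimLE f n) : DerSch.HasTorDimLE f' n := by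
  intro x
  obtain ⟨W, hW, hxW, -⟩ := exists_isAffineOpen_mem_and_subset (x := q (f (g x))) (U := ⊤) trivial
  obtain ⟨V, hV, hxV, hVW⟩ := exists_isAffineOpen_mem_and_subset (x := f (g x)) (U := q ⁻¹ᵁ W) hxW
  obtain ⟨U, hU, hxU, hUV⟩ := exists_isAffineOpen_mem_and_subset (x := g x) (U := f ⁻¹ᵁ V) hxV
  have hx : p (q' (f' x)) ∈ W := by
    rw [← Scheme.Hom.comp_apply, ← HY.w, Scheme.Hom.comp_apply, ← Scheme.Hom.comp_apply f' h, ← H.w,
      Scheme.Hom.comp_apply]
    exact hxW
  obtain ⟨W', hW', hxW', hW'W⟩ := exists_isAffineOpen_mem_and_subset (x := q' (f' x)) (U := p ⁻¹ᵁ W) hx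
  let V' : Y'.Opens := h ⁻¹ᵁ V ⊓ q' ⁻¹ᵁ W'
  haveI : IsAffine W.toScheme := hW
  haveI : IsAffine W'.toScheme := hW'
  haveI : IsAffine V.toScheme := hV
  haveI : IsAffine U.toScheme := hU
  have hV' : IsAffineOpen V' := .of_isIso (Scheme.Hom.isPullback_resLE HY hW'W hVW rfl).isoPullback.hom
  haveI : IsAffine V'.toScheme := hV'
  have hxV' : f' x ∈ V' := ⟨by
    change h (f' x) ∈ V
    rw [← Scheme.Hom.comp_apply, ← H.w, Scheme.Hom.comp_apply]
    exact hxV, hxW'⟩
  let U' : X'.Opens := g ⁻¹ᵁ U ⊓ f' ⁻¹ᵁ V'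
  have hU' : IsAffineOpen U' :=
    .of_isIso (Scheme.Hom.isPullback_resLE H (show V' ≤ h ⁻¹ᵁ V from inf_le_left) hUV rfl).isoPullback.hom
  have hpo₀ := ((isIso_pushoutSection_iff HY hW'W hVW rfl).1
    (isIso_pushoutSection_of_isAffineOpen HY hW'W hVW rfl hW hW' hV)).flip
  have hpo := (isIso_pushoutSection_iff H (show V' ≤ h ⁻¹ᵁ V from inf_le_left) hUV rfl).1
    (isIso_pushoutSection_of_isAffineOpen H inf_le_left hUV rfl hV hV' hU)
  have hflat : ((f.appLE V U hUV).hom.comp (q.appLE W V hVW).hom).Flat := by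
    have := Flat.flat_appLE (f ≫ q) hW hU (fun z hz => hVW (hUV hz))
    rwa [← Scheme.Hom.appLE_comp_appLE f q W V U hVW hUV] at this
  exact hasTorAmplitudeAt_of_ampM f' hV' hU' inf_le_right
    (ampM_baseChange_flat_base (h.appLE V V' inf_le_left).hom (f.appLE V U hUV).hom (g.appLE U U' inf_le_left).hom
      (f'.appLE V' U' inf_le_right).hom (p.appLE W W' hW'W).hom (q.appLE W V hVW).hom
      (q'.appLE W' V' inf_le_right).hom hpo₀ hpo (Flat.flat_appLE q hW hV hVW) hflat n
      (ampM_of_stalks f hV hU hUV fun z _ => hf z)) ⟨hxU, hxV'⟩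

end GrothLib.KSix19
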